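import Mathlib
import Cfsg.Prelude.Def_Transfer
import Cfsg.Agent.Lib.MB.MBDefs

/-!
# S1904 design (helper17): shared definitions

Internal form of Thompson's lemma: `G = X ⋊ H`, `X` a nonabelian normal 2-subgroup without
normal elementary abelian subgroups of order `8`, `H` of odd order with `⁅X, H⁆ = X`.
See `plans/S1904_plan.md`.
-/

set_option autoImplicit false

namespace Cfsg.Agent.Helper17.NG

variable {G : Type*} [Group G]

/-- The basic situation. -/
structure Ctx (X H : Subgroup G) : Prop where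
  normal : X.Normal
  two : IsPGroup 2 ↥X
  odd : (Nat.card ↥H).Coprime 2
  sup : X ⊔ H = ⊤
  comm : X ≤ ⁅X, H⁆
  nonab : ¬ IsMulCommutative ↥X
  rank : ∀ E : Subgroup G, E ≤ X → X ≤ Subgroup.normalizer (E : Set G) →
    Cfsg.IsElementaryAbelian 2 E → Nat.card ↥E ≤ 4

/-- internal centre `Z(X) = X ⊓ C(X)`. -/
def ZS (X : Subgroup G) : Subgroup G := X ⊓ Subgroup.centralizer (X : Set G)

/-- `Up X N`: the preimage in `X` of `Ω₁(Z(X/N))` (for `N` normal in `G`). -/
def Up (X N : Subgroup G) : Subgroup G :=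
  Subgroup.closure {w : G | w ∈ X ∧ (∀ x ∈ X, w * x * w⁻¹ * x⁻¹ ∈ N) ∧ w ^ 2 ∈ N}

/-- `Om B`: generated by the elements of order at most `2` of `B` (equal to that set for abelian `B`). -/
def Om (B : Subgroup G) : Subgroup G :=
  Subgroup.closure {b : G | b ∈ B ∧ b ^ 2 = 1}

/-- `Sq B`: generated by the squares of `B` (equal to that set for abelian `B`). -/
def Sq (B : Subgroup G) : Subgroup G :=
  Subgroup.closure {g : G | ∃ b ∈ B, g = b ^ 2}

/-- `Om2 B`: generated by the elements of order dividing `4` of `B`. -/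
def Om2 (B : Subgroup G) : Subgroup G :=
  Subgroup.closure {b : G | b ∈ B ∧ b ^ 4 = 1}

/-- `V` is a central normal four-group of `X` containing every involution of every abelian
subgroup of `X` normalised by `X`. -/
structure IsV (X V : Subgroup G) : Prop where
  le : V ≤ X
  normal : V.Normal
  card : Nat.card ↥V = 4
  sq : ∀ v ∈ V, v ^ 2 = 1
  central : X ≤ Subgroup.centralizer (V : Set G)
  inv : ∀ B : Subgroup G, B ≤ X → X ≤ Subgroup.normalizer (B : Set G) → IsMulCommutative ↥B →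
    ∀ b ∈ B, b ^ 2 = 1 → b ∈ V

/-- `X/V` elementary abelian, `V` a central four-group, squaring anisotropic. -/
structure Quad (X V : Subgroup G) : Prop where
  le : V ≤ X
  card : Nat.card ↥V = 4
  vsq : ∀ v ∈ V, v ^ 2 = 1
  central : X ≤ Subgroup.centralizer (V : Set G)
  sq : ∀ x ∈ X, x ^ 2 ∈ V
  comm : ⁅X, X⁆ ≤ V
  aniso : ∀ x ∈ X, x ^ 2 = 1 → x ∈ V

/-- internal form of "special of order 64 with centre `V`, all involutions in `V`". -/
structure C64 (X V : Subgroup G) : Prop where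
  sq : ∀ x ∈ X, x ^ 2 ∈ V
  comm : ⁅X, X⁆ = V
  center : ZS X = V
  inv : ∀ x ∈ X, x ^ 2 = 1 → x ∈ V
  card : Nat.card ↥X = 64

/-- internal form of "extraspecial with centre `Z`". -/
structure CES (X Z : Subgroup G) : Prop where
  card : Nat.card ↥Z = 2
  center : ZS X = Z
  comm : ⁅X, X⁆ = Z
  sq : ∀ x ∈ X, x ^ 2 ∈ Z

/-- The conclusion of S1904 for a group `Y`. -/
def Concl (Y : Type*) [Group Y] : Prop :=
  Nonempty (Y ≃* QuaternionGroup 2) ∨
    (Cfsg.IsSpecial 2 Y ∧ Nat.card Y = 64 ∧ Nat.card {x : Y // orderOf x = 2} = 3 ∧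
      ∀ x : Y, orderOf x = 2 → x ∈ Subgroup.center Y) ∨
    (Cfsg.IsExtraspecial 2 Y ∧ Nat.card Y = 32 ∧ Nat.card {x : Y // orderOf x = 2} = 11)

/-- A maximal `G`-normal abelian subgroup of `X`. -/
structure IsMaxAb (X M : Subgroup G) : Prop where
  le : M ≤ X
  normal : M.Normal
  comm : IsMulCommutative ↥M
  max : ∀ B : Subgroup G, B ≤ X → B.Normal → IsMulCommutative ↥B → M ≤ B → B = M

/-- The element `a` of regime 2. -/
structure IsA (H V : Subgroup G) (a : G) : Prop where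
  mem : a ∈ H
  three : ∃ k : ℕ, orderOf a = 3 ^ k
  fpf : ∀ v ∈ V, a * v * a⁻¹ = v → v = 1
  cube : ∀ v ∈ V, a ^ 3 * v * (a ^ 3)⁻¹ = v
  via : ∀ h ∈ H, ∃ i : ℕ, ∀ v ∈ V, h * v * h⁻¹ = a ^ i * v * (a ^ i)⁻¹

end Cfsg.Agent.Helper17.NG
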