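import Mathlib
import Cfsg.Agent.Lib.NG.NGDefs

/-! S1904 piece NG-UPMEM (helper17 design; see plans/S1904_plan.md).  STUB: overwrite this file,
keeping the statement(s), namespace and imports (you may ADD imports of non-NG library files).
Aux lemmas: fresh names `ng_upmem_...`. -/

set_option autoImplicit false

namespace Cfsg.Agent.Helper17.NG

variable {G : Type*} [Group G]

/-- the generating set of `Up X N` as a subgroup (for `N` normal) -/
def ng_upmem_S (X N : Subgroup G) (hN : N.Normal) : Subgroup G where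
  carrier := {w : G | w ∈ X ∧ (∀ x ∈ X, w * x * w⁻¹ * x⁻¹ ∈ N) ∧ w ^ 2 ∈ N}
  one_mem' := by
    refine ⟨X.one_mem, ?_, ?_⟩
    · intro x _
      have h : (1 : G) * x * 1⁻¹ * x⁻¹ = 1 := by group
      rw [h]
      exact N.one_mem
    · rw [one_pow]
      exact N.one_mem
  mul_mem' := by
    rintro w w' ⟨hwX, hwc, hw2⟩ ⟨hw'X, hw'c, hw'2⟩
    refine ⟨X.mul_mem hwX hw'X, ?_, ?_⟩
    · intro x hx
      have h : w * w' * x * (w * w')⁻¹ * x⁻¹ =
          w * (w' * x * w'⁻¹ * x⁻¹) * w⁻¹ * (w * x * w⁻¹ * x⁻¹) := by group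
      rw [h]
      exact N.mul_mem (hN.conj_mem _ (hw'c x hx) w) (hwc x hx)
    · have h : (w * w') ^ 2 =
          w ^ 2 * (w⁻¹ * (w' * w * w'⁻¹ * w⁻¹) * w⁻¹⁻¹) * w' ^ 2 := by
        simp only [pow_two]
        group
      rw [h]
      exact N.mul_mem (N.mul_mem hw2 (hN.conj_mem _ (hw'c w hwX) w⁻¹)) hw'2
  inv_mem' := by
    rintro w ⟨hwX, hwc, hw2⟩
    refine ⟨X.inv_mem hwX, ?_, ?_⟩
    · intro x hx
      have h : w⁻¹ * x * w⁻¹⁻¹ * x⁻¹ = w⁻¹ * (w * x * w⁻¹ * x⁻¹)⁻¹ * w⁻¹⁻¹ := by group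
      rw [h]
      exact hN.conj_mem _ (N.inv_mem (hwc x hx)) w⁻¹
    · have h : w⁻¹ ^ 2 = (w ^ 2)⁻¹ := by group
      rw [h]
      exact N.inv_mem hw2

theorem ng_upmem_eq (X N : Subgroup G) (hN : N.Normal) : Up X N = ng_upmem_S X N hN := by
  unfold Up
  exact Subgroup.closure_eq (ng_upmem_S X N hN)

/-- Membership in `Up X N` (the generating set is already a subgroup when `N` is normal).
Closure under products: `(w w') x (w w')⁻¹ x⁻¹ = w (w' x w'⁻¹ x⁻¹) w⁻¹ * (w x w⁻¹ x⁻¹)`, first factor in `N`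
by normality; `(w w')^2 = w^2 * (w⁻¹ w' w w'⁻¹) * w'^2` and `w⁻¹ w' w w'⁻¹ ∈ N` (apply the commutator
condition of `w'` to `w⁻¹ ∈ X`... i.e. `w' w⁻¹ w'⁻¹ w ∈ N`, then conjugate/invert). Inverses similar.
Use `Subgroup.closure_induction` or exhibit the subgroup directly. -/
theorem mem_Up {X N : Subgroup G} (hN : N.Normal) {w : G} :
    w ∈ Up X N ↔ w ∈ X ∧ (∀ x ∈ X, w * x * w⁻¹ * x⁻¹ ∈ N) ∧ w ^ 2 ∈ N := by
  rw [ng_upmem_eq X N hN]
  exact Iff.rfl

theorem Up_le (X N : Subgroup G) : Up X N ≤ X := by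
  unfold Up
  rw [Subgroup.closure_le]
  intro w hw
  exact hw.1

theorem le_Up {X N : Subgroup G} (hN : N.Normal) (hNX : N ≤ X) : N ≤ Up X N := by
  intro n hn
  rw [mem_Up hN]
  refine ⟨hNX hn, ?_, N.pow_mem hn 2⟩
  intro x _
  have h : n * x * n⁻¹ * x⁻¹ = n * (x * n⁻¹ * x⁻¹) := by group
  rw [h]
  exact N.mul_mem hn (hN.conj_mem _ (N.inv_mem hn) x)

/-- conjugation preserves the three defining conditions. -/
theorem Up_normal {X N : Subgroup G} (hX : X.Normal) (hN : N.Normal) : (Up X N).Normal := by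
  constructor
  intro w hw g
  rw [mem_Up hN] at hw ⊢
  obtain ⟨hwX, hwc, hw2⟩ := hw
  refine ⟨hX.conj_mem _ hwX g, ?_, ?_⟩
  · intro x hx
    have hx' : g⁻¹ * x * g ∈ X := by
      have h1 := hX.conj_mem _ hx g⁻¹
      rw [inv_inv] at h1
      exact h1
    have h : g * w * g⁻¹ * x * (g * w * g⁻¹)⁻¹ * x⁻¹ =
        g * (w * (g⁻¹ * x * g) * w⁻¹ * (g⁻¹ * x * g)⁻¹) * g⁻¹ := by group
    rw [h]
    exact hN.conj_mem _ (hwc _ hx') g
  · have h : (g * w * g⁻¹) ^ 2 = g * w ^ 2 * g⁻¹ := by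
      simp only [pow_two]
      group
    rw [h]
    exact hN.conj_mem _ hw2 g

end Cfsg.Agent.Helper17.NG
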