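import Mathlib
import Cfsg.Agent.Lib.NG.NGDefs
import Cfsg.Agent.Lib.NG.NGUPMEM

/-! S1904 piece NG-UPSAND (helper17 design; see plans/S1904_plan.md).  STUB: overwrite this file,
keeping the statement(s), namespace and imports (you may ADD imports of non-NG library files).
Aux lemmas: fresh names `ng_upsand_...`. -/

set_option autoImplicit false

namespace Cfsg.Agent.Helper17.NG

variable {G : Type*} [Group G]

/-- one direction of `sandwich_normal` -/
theorem ng_upsand_conj {X N B : Subgroup G} (hN : N.Normal) (hNB : N ≤ B) (hB : B ≤ Up X N)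
    {x b : G} (hx : x ∈ X) (hb : b ∈ B) : x * b * x⁻¹ ∈ B := by
  have h1 := ((mem_Up hN).1 (hB hb)).2.1 x hx
  have h2 : x * b * x⁻¹ = (b * x * b⁻¹ * x⁻¹)⁻¹ * b := by group
  rw [h2]
  exact B.mul_mem (B.inv_mem (hNB h1)) hb

/-- every subgroup between `N` and `Up X N` is normalised by `X`:
`x b x⁻¹ = (x b x⁻¹ b⁻¹) b` and `x b x⁻¹ b⁻¹ = (b x b⁻¹ x⁻¹)⁻¹ ∈ N ≤ B`. -/
theorem sandwich_normal {X N B : Subgroup G} (hN : N.Normal) (hNB : N ≤ B) (hB : B ≤ Up X N) :
    X ≤ Subgroup.normalizer (B : Set G) := by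
  intro x hx
  rw [Subgroup.mem_normalizer_iff]
  intro b
  constructor
  · intro hb
    exact ng_upsand_conj hN hNB hB hx hb
  · intro hb
    have h1 := ng_upsand_conj hN hNB hB (X.inv_mem hx) hb
    have h2 : x⁻¹ * (x * b * x⁻¹) * x⁻¹⁻¹ = b := by group
    rw [h2] at h1
    exact h1

end Cfsg.Agent.Helper17.NG
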