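import Mathlib
import Cfsg.Agent.Lib.NG.NGDefs
import Cfsg.Agent.Lib.NG.NGUPMEM
import Cfsg.Agent.Lib.NG.NGUPSAND

/-! S1904 piece NG-ANISO (helper17 design; see plans/S1904_plan.md).  STUB: overwrite this file,
keeping the statement(s), namespace and imports (you may ADD imports of non-NG library files).
Aux lemmas: fresh names `ng_aniso_...`. -/

set_option autoImplicit false

namespace Cfsg.Agent.Helper17.NG

variable {G : Type*} [Group G]

/-- `B := N ⊔ zpowers w` is abelian (`w` centralises `N`), lies between `N` and `Up X N`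
(`le_Up`, `hw`), hence is normalised by `X` (`sandwich_normal`); if `(w n)^2 = 1` then `w n ∈ B` is an
involution of `B`, so `w n ∈ V ≤ N` by `hV.inv`, so `w ∈ N`. -/
theorem aniso [Finite G] {X V N : Subgroup G} (hV : IsV X V) (hN : N.Normal)
    (hNc : IsMulCommutative ↥N) (hVN : V ≤ N) (hNX : N ≤ X) {w : G} (hw : w ∈ Up X N)
    (hwc : w ∈ Subgroup.centralizer (N : Set G)) (hwN : w ∉ N) :
    ∀ n ∈ N, (w * n) ^ 2 ≠ 1 := by
  intro n hn hsq
  apply hwN
  obtain ⟨B, hBdef⟩ : ∃ B : Subgroup G, B = Subgroup.closure ((N : Set G) ∪ {w}) := ⟨_, rfl⟩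
  have hcomm : ∀ x ∈ ((N : Set G) ∪ {w}), ∀ y ∈ ((N : Set G) ∪ {w}), x * y = y * x := by
    rintro x (hx | hx) y (hy | hy)
    · have h1 := hNc.is_comm.comm (⟨x, hx⟩ : ↥N) ⟨y, hy⟩
      exact congrArg Subtype.val h1
    · rw [Set.mem_singleton_iff] at hy
      subst hy
      exact (Subgroup.mem_centralizer_iff.mp hwc x hx)
    · rw [Set.mem_singleton_iff] at hx
      subst hx
      exact (Subgroup.mem_centralizer_iff.mp hwc y hy).symm
    · rw [Set.mem_singleton_iff] at hx hy
      rw [hx, hy]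
  have hBc : IsMulCommutative ↥B := by
    rw [hBdef]
    exact Subgroup.isMulCommutative_closure hcomm
  have hNB : N ≤ B := by
    rw [hBdef]
    intro x hx
    exact Subgroup.subset_closure (Or.inl hx)
  have hwB : w ∈ B := by
    rw [hBdef]
    exact Subgroup.subset_closure (Or.inr rfl)
  have hBU : B ≤ Up X N := by
    rw [hBdef, Subgroup.closure_le]
    rintro x (hx | hx)
    · exact le_Up hN hNX hx
    · rw [Set.mem_singleton_iff] at hx
      rw [hx]
      exact hw
  have hBX : B ≤ X := hBU.trans (Up_le X N)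
  have hnorm : X ≤ Subgroup.normalizer (B : Set G) := sandwich_normal hN hNB hBU
  have hwnB : w * n ∈ B := B.mul_mem hwB (hNB hn)
  have hwnV : w * n ∈ V := hV.inv B hBX hnorm hBc (w * n) hwnB hsq
  have hwnN : w * n ∈ N := hVN hwnV
  have : w = w * n * n⁻¹ := by group
  rw [this]
  exact N.mul_mem hwnN (N.inv_mem hn)

end Cfsg.Agent.Helper17.NG
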