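import Mathlib
import Cfsg.Agent.Lib.NG.NGDefs
import Cfsg.Agent.S1894

/-! S1904 piece NG-BRIDGE (helper17 design; see plans/S1904_plan.md).  STUB: overwrite this file,
keeping the statement(s), namespace and imports (you may ADD imports of non-NG library files).
Aux lemmas: fresh names `ng_bridge_...`. -/

set_option autoImplicit false

namespace Cfsg.Agent.Helper17.NG

open scoped commutatorElement

universe u

variable {G : Type*} [Group G]

/-- From the frozen hypotheses to `Ctx`.  `Y := X ⋊[A.subtype] A` (finite), `Xi := (SemidirectProduct.inl).range`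
(normal), `Hi := (SemidirectProduct.inr).range`; `Xi ⊔ Hi = ⊤`; `inr φ * inl x * (inr φ)⁻¹ = inl (φ x)`
(`SemidirectProduct.inl_aut`), so `⁅Xi,Hi⁆ ≥ inl (closure {x⁻¹ φ x}) = Xi`.  `rank`: an elementary abelian
`E ≤ Xi` normalised by `Xi` with `card E ≥ 8` pulls back to a normal elementary abelian `E' ≤ X` of order `≥ 8`;
`Cfsg.Agent.S1894.result` (with `A := ⊤`, `B := E'`) gives a normal self-centralising `A' ≥ E'`; `E'` contains a
subgroup of order exactly 8 (`Sylow.exists_subgroup_card_pow_prime` or any 3 independent elements): contradicts `hscn`.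
Transport `Concl ↥Xi` to `X` along `X ≃* Xi` (all three alternatives are isomorphism invariant). -/
theorem bridge_ctx {X : Type u} [Group X] [Finite X] (hX : IsPGroup 2 X)
    (hna : ¬ IsMulCommutative X)
    (hscn : ¬ ∃ A : Subgroup X, A.Normal ∧ Subgroup.centralizer (A : Set X) = A ∧
      ∃ E : Subgroup X, E ≤ A ∧ Cfsg.IsElementaryAbelian 2 E ∧ Nat.card E = 8)
    (A : Subgroup (MulAut X)) (hA : Odd (Nat.card A))
    (hXA : Subgroup.closure {g : X | ∃ φ ∈ A, ∃ x : X, g = x⁻¹ * φ x} = ⊤) :
    ∃ (Y : Type u) (_ : Group Y) (_ : Finite Y) (Xi Hi : Subgroup Y),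
      Ctx Xi Hi ∧ Nonempty (X ≃* ↥Xi) := by
  classical
  have hp2 : Fact (Nat.Prime 2) := ⟨Nat.prime_two⟩
  have hfinY : Finite (X ⋊[A.subtype] ↥A) :=
    Finite.of_equiv _ SemidirectProduct.equivProd.symm
  let il : X →* X ⋊[A.subtype] ↥A := SemidirectProduct.inl
  let ir : ↥A →* X ⋊[A.subtype] ↥A := SemidirectProduct.inr
  have hil : Function.Injective il := SemidirectProduct.inl_injective
  have hir : Function.Injective ir := SemidirectProduct.inr_injective
  have haut : ∀ (g : ↥A) (x : X), il ((g : MulAut X) x) = ir g * il x * (ir g)⁻¹ := by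
    intro g x
    have := SemidirectProduct.inl_aut (φ := A.subtype) g x
    rw [map_inv] at this
    exact this
  refine ⟨X ⋊[A.subtype] ↥A, inferInstance, hfinY, il.range, ir.range, ?_,
    ⟨MonoidHom.ofInjective hil⟩⟩
  refine
    { normal := ?_
      two := hX.of_equiv (MonoidHom.ofInjective hil)
      odd := ?_
      sup := ?_
      comm := ?_
      nonab := ?_
      rank := ?_ }
  · show (SemidirectProduct.inl : X →* X ⋊[A.subtype] ↥A).range.Normal
    rw [SemidirectProduct.range_inl_eq_ker_rightHom]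
    infer_instance
  · have hc : Nat.card ↥ir.range = Nat.card ↥A :=
      (Nat.card_congr (MonoidHom.ofInjective hir).toEquiv).symm
    rw [hc]
    exact Nat.coprime_two_right.2 hA
  · rw [eq_top_iff]
    intro y _
    rw [← SemidirectProduct.inl_left_mul_inr_right y]
    exact Subgroup.mul_mem _ (Subgroup.mem_sup_left ⟨y.left, rfl⟩)
      (Subgroup.mem_sup_right ⟨y.right, rfl⟩)
  · -- `Xi ≤ ⁅Xi, Hi⁆`
    have hrange : il.range = (Subgroup.closure
        {g : X | ∃ φ ∈ A, ∃ x : X, g = x⁻¹ * φ x}).map il := by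
      rw [hXA, ← MonoidHom.range_eq_map]
    have hsub : (Subgroup.closure {g : X | ∃ φ ∈ A, ∃ x : X, g = x⁻¹ * φ x}).map il ≤
        ⁅il.range, ir.range⁆ := ?_
    · exact le_of_eq_of_le hrange hsub
    rw [MonoidHom.map_closure, Subgroup.closure_le]
    rintro _ ⟨g, ⟨φ, hφ, x, rfl⟩, rfl⟩
    have h1 : il (x⁻¹ * φ x) = ⁅il x⁻¹, ir ⟨φ, hφ⟩⁆ := by
      rw [commutatorElement_def, map_mul, haut ⟨φ, hφ⟩ x, map_inv, inv_inv]
      group
    rw [SetLike.mem_coe, h1]
    exact Subgroup.commutator_mem_commutator (MonoidHom.mem_range.2 ⟨x⁻¹, rfl⟩)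
      (MonoidHom.mem_range.2 ⟨⟨φ, hφ⟩, rfl⟩)
  · intro hc
    apply hna
    refine ⟨⟨fun a b => ?_⟩⟩
    have h1 := hc.is_comm.comm (⟨il a, a, rfl⟩ : ↥il.range) ⟨il b, b, rfl⟩
    have h2 : il a * il b = il b * il a := congrArg Subtype.val h1
    apply hil
    rw [map_mul, map_mul, h2]
  · intro E hE hnE hEel
    by_contra hcard
    push Not at hcard
    -- pull `E` back to `X`
    have hE'n : (E.comap il).Normal := by
      constructor
      intro n hn g
      rw [Subgroup.mem_comap] at hn ⊢
      have hg : il g ∈ Subgroup.normalizer (E : Set (X ⋊[A.subtype] ↥A)) := hnE ⟨g, rfl⟩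
      have := (Subgroup.mem_normalizer_iff.1 hg (il n)).1 hn
      rw [map_mul, map_mul, map_inv]
      exact this
    have hE'comm : IsMulCommutative ↥(E.comap il) := by
      refine ⟨⟨fun a b => ?_⟩⟩
      have h1 := hEel.1.is_comm.comm (⟨il a, a.2⟩ : ↥E) ⟨il b, b.2⟩
      have h2 : il a * il b = il b * il a := congrArg Subtype.val h1
      apply Subtype.ext
      apply hil
      rw [Subgroup.coe_mul, Subgroup.coe_mul, map_mul, map_mul, h2]
    have hE'sq : ∀ a ∈ E.comap il, a ^ 2 = 1 := by
      intro a ha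
      apply hil
      rw [map_pow, map_one]
      exact hEel.2 (il a) ha
    have hE'card : Nat.card ↥(E.comap il) = Nat.card ↥E := by
      have h1 : (E.comap il).map il = E := Subgroup.map_comap_eq_self hE
      have h2 := Nat.card_congr ((E.comap il).equivMapOfInjective il hil).toEquiv
      rw [h2, h1]
    -- a self-centralising normal subgroup containing `E'`
    have htopn : (⊤ : Subgroup X).Normal := inferInstance
    obtain ⟨C, hCn, hE'C, -, -, hCcent⟩ :=
      Cfsg.Agent.S1894.result hX (⊤ : Subgroup X) (E.comap il) le_top hE'comm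
    rw [top_inf_eq] at hCcent
    -- a subgroup of order `8` of `E'`
    have hE'2 : IsPGroup 2 ↥(E.comap il) := hX.to_subgroup _
    obtain ⟨k, hk⟩ := IsPGroup.iff_card.1 hE'2
    have hk3 : 3 ≤ k := by
      by_contra hlt
      push Not at hlt
      have h1 : Nat.card ↥(E.comap il) ≤ 2 ^ 2 := by
        rw [hk]
        exact Nat.pow_le_pow_right (by norm_num) (by omega)
      rw [hE'card] at h1
      omega
    have hdvd : 2 ^ 3 ∣ Nat.card ↥(E.comap il) := by
      rw [hk]
      exact pow_dvd_pow 2 hk3
    obtain ⟨K, hK⟩ := Sylow.exists_subgroup_card_pow_prime 2 hdvd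
    apply hscn
    refine ⟨C, hCn, hCcent, K.map (E.comap il).subtype, ?_, ⟨?_, ?_⟩, ?_⟩
    · intro x hx
      obtain ⟨y, -, rfl⟩ := hx
      exact hE'C y.2
    · refine ⟨⟨fun a b => ?_⟩⟩
      obtain ⟨a', ha', haa⟩ := a.2
      obtain ⟨b', hb', hbb⟩ := b.2
      have h1 := hE'comm.is_comm.comm a' b'
      apply Subtype.ext
      rw [Subgroup.coe_mul, Subgroup.coe_mul, ← haa, ← hbb]
      have h2 := congrArg (fun z : ↥(E.comap il) => (z : X)) h1
      simpa using h2
    · rintro a ⟨y, -, rfl⟩
      exact hE'sq y y.2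
    · have hK8 : Nat.card ↥K = 8 := by rw [hK]; norm_num
      rw [← hK8]
      exact (Nat.card_congr (K.equivMapOfInjective (E.comap il).subtype
        (Subgroup.subtype_injective _)).toEquiv).symm

theorem ng_bridge_frattini_map {G H : Type*} [Group G] [Group H] (e : G ≃* H) :
    (frattini G).map e.toMonoidHom = frattini H := by
  apply le_antisymm
  · rw [Subgroup.map_le_iff_le_comap]
    exact frattini_le_comap_frattini_of_surjective (φ := e.toMonoidHom) e.surjective
  · have h := frattini_le_comap_frattini_of_surjective (φ := e.symm.toMonoidHom) e.symm.surjective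
    intro x hx
    have hx' := h hx
    rw [Subgroup.mem_comap] at hx'
    exact ⟨e.symm x, hx', by simp⟩

theorem ng_bridge_center_map {G H : Type*} [Group G] [Group H] (e : G ≃* H) :
    (Subgroup.center G).map e.toMonoidHom = Subgroup.center H := by
  ext x
  constructor
  · rintro ⟨y, hy, rfl⟩
    rw [Subgroup.mem_center_iff]
    intro g
    obtain ⟨g', rfl⟩ := e.surjective g
    have := Subgroup.mem_center_iff.mp hy g'
    show e g' * e y = e y * e g'
    rw [← map_mul, ← map_mul, this]
  · intro hx
    refine ⟨e.symm x, ?_, by simp⟩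
    show e.symm x ∈ Subgroup.center G
    rw [Subgroup.mem_center_iff]
    intro g
    have := Subgroup.mem_center_iff.mp hx (e g)
    apply e.injective
    rw [map_mul, map_mul]
    simpa using this

theorem ng_bridge_commutator_map {G H : Type*} [Group G] [Group H] (e : G ≃* H) :
    (commutator G).map e.toMonoidHom = commutator H := by
  rw [commutator_def, commutator_def, Subgroup.map_commutator,
    Subgroup.map_top_of_surjective _ e.surjective]

/-- `IsSpecial` is invariant under isomorphism -/
theorem ng_bridge_special_of_equiv {G H : Type*} [Group G] [Group H] (e : G ≃* H)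
    (h : Cfsg.IsSpecial 2 G) : Cfsg.IsSpecial 2 H := by
  obtain ⟨hp, hf, hc⟩ := h
  refine ⟨hp.of_equiv e, ?_, ?_⟩
  · rw [← ng_bridge_frattini_map e,
      ← ng_bridge_center_map e, hf]
  · rw [← ng_bridge_commutator_map e,
      ← ng_bridge_center_map e, hc]

/-- the number of involutions is invariant under isomorphism -/
theorem ng_bridge_card_inv {G H : Type*} [Group G] [Group H] (e : G ≃* H) :
    Nat.card {x : G // orderOf x = 2} = Nat.card {x : H // orderOf x = 2} :=
  Nat.card_congr (e.toEquiv.subtypeEquiv (fun x => by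
    show orderOf x = 2 ↔ orderOf (e x) = 2
    rw [MulEquiv.orderOf_eq]))

theorem concl_congr {Y Y' : Type*} [Group Y] [Group Y'] (e : Y ≃* Y') (h : Concl Y') : Concl Y := by
  rcases h with ⟨⟨f⟩⟩ | ⟨hsp, hcard, hinv, hcen⟩ | ⟨hes, hcard, hinv⟩
  · exact Or.inl ⟨e.trans f⟩
  · refine Or.inr (Or.inl ⟨ng_bridge_special_of_equiv e.symm hsp, ?_, ?_, ?_⟩)
    · rw [← hcard]; exact Nat.card_congr e.toEquiv
    · rw [← hinv]; exact ng_bridge_card_inv e
    · intro x hx
      have h1 : orderOf (e x) = 2 := by rw [MulEquiv.orderOf_eq]; exact hx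
      have h2 := hcen (e x) h1
      rw [Subgroup.mem_center_iff] at h2 ⊢
      intro g
      apply e.injective
      rw [map_mul, map_mul]
      exact h2 (e g)
  · have hes' : Cfsg.IsExtraspecial 2 Y := by
      refine ⟨ng_bridge_special_of_equiv e.symm hes.1, ?_⟩
      rw [← hes.2, ← ng_bridge_center_map e]
      exact Nat.card_congr ((Subgroup.center Y).equivMapOfInjective e.toMonoidHom
        e.injective).toEquiv
    refine Or.inr (Or.inr ⟨hes', ?_, ?_⟩)
    · rw [← hcard]; exact Nat.card_congr e.toEquiv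
    · rw [← hinv]; exact ng_bridge_card_inv e

end Cfsg.Agent.Helper17.NG
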