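import Mathlib
import Cfsg.Agent.Lib.NG.NGDefs
import Cfsg.Agent.Lib.MB.MBPHIPROPS
import Cfsg.Agent.S0012
import Cfsg.Agent.Lib.Helper9.FrattiniElem

/-! S1904 piece NG-C64CONCL (helper17 design; see plans/S1904_plan.md).  STUB: overwrite this file,
keeping the statement(s), namespace and imports (you may ADD imports of non-NG library files).
Aux lemmas: fresh names `ng_c64concl_...`. -/

set_option autoImplicit false

namespace Cfsg.Agent.Helper17.NG

open scoped commutatorElement

variable {G : Type*} [Group G]

/-- Translate `C64` to the frozen conclusion.  `IsSpecial 2 ↥X`: `IsPGroup`; `center ↥X` corresponds to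
`ZS X = V`; `commutator ↥X` corresponds to `⁅X,X⁆ = V` (`Subgroup.map_subtype_commutator` /
`Subgroup.commutator_def`); `frattini ↥X`: `≤` since `↥X ⧸ V'` is elementary abelian
(`Cfsg.Agent.Helper9.frattini_le_ker_of_elementary`), `≥` since the commutator subgroup of a finite 2-group
lies in its Frattini subgroup (see `Cfsg.Agent.Helper17.MB.phiS_facts`, Lib/MB/MBPHIPROPS).  Involutions of `↥X`
are exactly the 3 nonidentity elements of `V` (`h.inv`, `hV.sq`, `hV.card`), all central. -/
theorem concl_of_c64 [Finite G] {X V : Subgroup G} (hX2 : IsPGroup 2 ↥X) (hV : IsV X V)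
    (h : C64 X V) :
    Cfsg.IsSpecial 2 ↥X ∧ Nat.card ↥X = 64 ∧ Nat.card {x : ↥X // orderOf x = 2} = 3 ∧
      ∀ x : ↥X, orderOf x = 2 → x ∈ Subgroup.center ↥X := by
  classical
  have hp2 : Fact (Nat.Prime 2) := ⟨Nat.prime_two⟩
  -- the centre
  have hcen : Subgroup.center ↥X = V.subgroupOf X := by
    ext x
    rw [Subgroup.mem_center_iff, Subgroup.mem_subgroupOf, ← h.center]
    unfold ZS
    rw [Subgroup.mem_inf, Subgroup.mem_centralizer_iff]
    constructor
    · intro hx
      refine ⟨x.2, fun g hg => ?_⟩
      have := congrArg Subtype.val (hx ⟨g, hg⟩)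
      simpa using this
    · intro hx g
      apply Subtype.ext
      simpa using hx.2 g g.2
  -- the commutator subgroup
  have hcomm : commutator ↥X = V.subgroupOf X := by
    apply Subgroup.map_injective X.subtype_injective
    rw [Subgroup.map_subgroupOf_eq_of_le hV.le, commutator_def, Subgroup.map_commutator,
      ← MonoidHom.range_eq_map, Subgroup.range_subtype]
    exact h.comm
  -- the Frattini subgroup
  have hnorm : (V.subgroupOf X).Normal := by
    rw [← hcen]; infer_instance
  have hfrat : frattini ↥X = V.subgroupOf X := by
    apply le_antisymm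
    · have h1 := Cfsg.Agent.Helper9.frattini_le_ker_of_elementary (p := 2)
        (QuotientGroup.mk' (V.subgroupOf X)) ?_ ?_
      · rwa [QuotientGroup.ker_mk'] at h1
      · intro a b
        obtain ⟨x, rfl⟩ := QuotientGroup.mk'_surjective (V.subgroupOf X) a
        obtain ⟨y, rfl⟩ := QuotientGroup.mk'_surjective (V.subgroupOf X) b
        rw [← map_mul, ← map_mul]
        apply (QuotientGroup.eq).2
        have h2 : (x * y)⁻¹ * (y * x) = ⁅y⁻¹, x⁻¹⁆ := by
          rw [commutatorElement_def]; group
        rw [h2, ← hcomm, _root_.commutator_def]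
        exact Subgroup.commutator_mem_commutator (Subgroup.mem_top _) (Subgroup.mem_top _)
      · intro a
        obtain ⟨x, rfl⟩ := QuotientGroup.mk'_surjective (V.subgroupOf X) a
        rw [← map_pow]
        apply (QuotientGroup.eq_one_iff _).2
        rw [Subgroup.mem_subgroupOf]
        have := h.sq x x.2
        simpa using this
    · rw [← hcomm]
      exact (Cfsg.Agent.S0012.result 2 hX2).1
  -- involutions
  have hinvV : ∀ x : ↥X, orderOf x = 2 → (x : G) ∈ V := by
    intro x hx
    apply h.inv x x.2
    have h1 : x ^ 2 = 1 := by rw [← hx]; exact pow_orderOf_eq_one x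
    have := congrArg Subtype.val h1
    simpa using this
  refine ⟨⟨hX2, hfrat.trans hcen.symm, hcomm.trans hcen.symm⟩, h.card, ?_, ?_⟩
  · -- counting the involutions
    have hequiv : {x : ↥X // orderOf x = 2} ≃ {v : ↥V // v ≠ 1} :=
      { toFun := fun x => ⟨⟨(x.1 : G), hinvV x.1 x.2⟩, by
          intro h1
          have h2 : (x.1 : G) = 1 := congrArg Subtype.val h1
          have h3 : x.1 = 1 := Subtype.ext h2
          have h4 := x.2
          rw [h3, orderOf_one] at h4
          exact absurd h4 (by norm_num)⟩
        invFun := fun v => ⟨⟨(v.1 : G), hV.le v.1.2⟩, by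
          apply orderOf_eq_prime
          · apply Subtype.ext
            have := hV.sq v.1 v.1.2
            simpa using this
          · intro h1
            apply v.2
            apply Subtype.ext
            exact congrArg (fun z : ↥X => (z : G)) h1⟩
        left_inv := fun x => by apply Subtype.ext; apply Subtype.ext; rfl
        right_inv := fun v => by apply Subtype.ext; apply Subtype.ext; rfl }
    rw [Nat.card_congr hequiv]
    have hfinV : Finite ↥V := inferInstance
    have : Fintype ↥V := Fintype.ofFinite _
    rw [Nat.card_eq_fintype_card, Fintype.card_subtype_compl, Fintype.card_subtype_eq,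
      ← Nat.card_eq_fintype_card, hV.card]
  · intro x hx
    rw [hcen, Subgroup.mem_subgroupOf]
    exact hinvV x hx

end Cfsg.Agent.Helper17.NG
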