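import Mathlib
import Cfsg.Agent.Lib.NG.NGDefs

/-! S1904 piece NG-CENTH (helper17 design; see plans/S1904_plan.md).  STUB: overwrite this file,
keeping the statement(s), namespace and imports (you may ADD imports of non-NG library files).
Aux lemmas: fresh names `ng_centh_...`. -/

set_option autoImplicit false

namespace Cfsg.Agent.Helper17.NG

variable {G : Type*} [Group G]

/-- `C(K)` is normal in `G` and contains `H`, so `X ≤ ⁅X,H⁆ ≤ C(K)` (`Subgroup.commutator_le_right`). -/
theorem centralizes_of_H {X H K : Subgroup G} (C : Ctx X H) (hK : K.Normal)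
    (hH : H ≤ Subgroup.centralizer (K : Set G)) : X ≤ Subgroup.centralizer (K : Set G) := by
  haveI := hK
  haveI : (Subgroup.centralizer (K : Set G)).Normal := Subgroup.normal_centralizer
  calc X ≤ ⁅X, H⁆ := C.comm
    _ ≤ ⁅X, Subgroup.centralizer (K : Set G)⁆ := Subgroup.commutator_mono le_rfl hH
    _ ≤ Subgroup.centralizer (K : Set G) := Subgroup.commutator_le_right _ _

end Cfsg.Agent.Helper17.NG
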