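import Mathlib
import Cfsg.Agent.Lib.NG.NGDefs

/-! S1904 piece NG-EODD (helper17 design; see plans/S1904_plan.md).  STUB: overwrite this file,
keeping the statement(s), namespace and imports (you may ADD imports of non-NG library files).
Aux lemmas: fresh names `ng_eodd_...`. -/

set_option autoImplicit false

namespace Cfsg.Agent.Helper17.NG

variable {G : Type*} [Group G]

/-- elements of `zpowers c` for an involution `c` -/
theorem ng_eodd_zpowers {K : Type*} [Group K] (c : K) (hc2 : c ^ 2 = 1) (z : K)
    (hz : z ∈ Subgroup.zpowers c) : z = 1 ∨ z = c := by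
  obtain ⟨k, rfl⟩ := Subgroup.mem_zpowers_iff.mp hz
  rcases Int.even_or_odd' k with ⟨m, rfl | rfl⟩
  · left
    rw [zpow_mul, zpow_two, ← pow_two, hc2, one_zpow]
  · right
    rw [zpow_add, zpow_mul, zpow_two, ← pow_two, hc2, one_zpow, one_mul, zpow_one]

/-- two elements commute or commute up to `c` -/
theorem ng_eodd_comm_or {K : Type*} [Group K] (c : K) (hc2 : c ^ 2 = 1)
    (hcomm : ∀ g h : K, g * h * g⁻¹ * h⁻¹ ∈ Subgroup.zpowers c) (x y : K) :
    x * y = y * x ∨ x * y = c * (y * x) := by
  rcases ng_eodd_zpowers c hc2 _ (hcomm x y) with h | h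
  · left
    have h1 := mul_inv_eq_one.mp h
    exact mul_inv_eq_iff_eq_mul.mp h1
  · right
    have h1 : x * y = (x * y * x⁻¹ * y⁻¹) * (y * x) := by group
    rw [h1, h]

/-- the flipping lemma -/
theorem ng_eodd_flip {K : Type*} [Group K] (c : K) (hc : c ∈ Subgroup.center K)
    (hc1 : c ≠ 1) (hc2 : c ^ 2 = 1)
    (hcomm : ∀ g h : K, g * h * g⁻¹ * h⁻¹ ∈ Subgroup.zpowers c) (u w : K)
    (huw : u * w ≠ w * u) (g : K) :
    u * (g * w) = (g * w) * u ↔ ¬ (u * g = g * u) := by
  have hcc : ∀ x : K, x * c = c * x := fun x => Subgroup.mem_center_iff.mp hc x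
  have hccc : c * c = 1 := by rw [← pow_two]; exact hc2
  have h1 : u * w = c * (w * u) := by
    rcases ng_eodd_comm_or c hc2 hcomm u w with h | h
    · exact absurd h huw
    · exact h
  rcases ng_eodd_comm_or c hc2 hcomm u g with h | h
  · -- `u g = g u`
    constructor
    · intro h2
      exfalso
      apply hc1
      have h3 : u * (g * w) = c * ((g * w) * u) := by
        calc u * (g * w) = (u * g) * w := by rw [mul_assoc]
          _ = (g * u) * w := by rw [h]
          _ = g * (u * w) := by rw [mul_assoc]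
          _ = g * (c * (w * u)) := by rw [h1]
          _ = (g * c) * (w * u) := by rw [mul_assoc]
          _ = (c * g) * (w * u) := by rw [hcc g]
          _ = c * ((g * w) * u) := by simp only [mul_assoc]
      rw [h2] at h3
      exact (mul_eq_right.mp h3.symm)
    · intro h2
      exact absurd h h2
  · -- `u g = c g u`
    have hne : u * g ≠ g * u := by
      intro h2
      apply hc1
      rw [h2] at h
      exact (mul_eq_right.mp h.symm)
    constructor
    · intro _
      exact hne
    · intro _
      calc u * (g * w) = (u * g) * w := by rw [mul_assoc]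
        _ = (c * (g * u)) * w := by rw [h]
        _ = c * (g * (u * w)) := by simp only [mul_assoc]
        _ = c * (g * (c * (w * u))) := by rw [h1]
        _ = c * ((g * c) * (w * u)) := by simp only [mul_assoc]
        _ = c * ((c * g) * (w * u)) := by rw [hcc g]
        _ = (c * c) * (g * (w * u)) := by simp only [mul_assoc]
        _ = (g * w) * u := by rw [hccc, one_mul]; simp only [mul_assoc]

theorem ng_eodd_aux : ∀ n : ℕ, Odd n → ∀ (K : Type*) [Group K] [Finite K] (c : K),
    c ∈ Subgroup.center K → c ≠ 1 → c ^ 2 = 1 → (∀ g : K, g ^ 2 ∈ Subgroup.zpowers c) →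
    (∀ g h : K, g * h * g⁻¹ * h⁻¹ ∈ Subgroup.zpowers c) → Nat.card K = 2 ^ (n + 1) →
    ∃ r : K, r ∈ Subgroup.center K ∧ r ∉ Subgroup.zpowers c := by
  intro n
  induction n using Nat.strong_induction_on with
  | _ n ih =>
  intro hn K _ _ c hc hc1 hc2 hsq hcomm hcard
  have hcc : ∀ x : K, x * c = c * x := fun x => Subgroup.mem_center_iff.mp hc x
  by_cases hab : ∀ x y : K, x * y = y * x
  · -- abelian case
    have hzc : Nat.card ↥(Subgroup.zpowers c) = 2 := by
      rw [Nat.card_zpowers]
      exact orderOf_eq_prime hc2 hc1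
    have hlt : Nat.card ↥(Subgroup.zpowers c) < Nat.card K := by
      rw [hzc, hcard]
      have : 2 ^ 1 < 2 ^ (n + 1) := Nat.pow_lt_pow_right (by norm_num) (by
        rcases hn with ⟨m, rfl⟩; omega)
      simpa using this
    have hne : Subgroup.zpowers c ≠ ⊤ := by
      intro h
      rw [h, Subgroup.card_top] at hlt
      exact lt_irrefl _ hlt
    have hex : ∃ r : K, r ∉ Subgroup.zpowers c := by
      by_contra hcon
      apply hne
      rw [Subgroup.eq_top_iff']
      intro r
      by_contra h
      exact hcon ⟨r, h⟩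
    obtain ⟨r, hr⟩ := hex
    exact ⟨r, Subgroup.mem_center_iff.mpr (fun g => hab g r), hr⟩
  · -- non-abelian case
    simp only [not_forall] at hab
    obtain ⟨a, b, hab⟩ := hab
    have hba : b * a ≠ a * b := fun h => hab h.symm
    -- the two centralizers
    set Ca : Subgroup K := Subgroup.centralizer {a} with hCa
    set K1 : Subgroup K := Subgroup.centralizer {a} ⊓ Subgroup.centralizer {b} with hK1
    have hmemCa : ∀ g : K, g ∈ Ca ↔ a * g = g * a := by
      intro g
      rw [hCa, Subgroup.mem_centralizer_iff]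
      simp
    have hmemK1 : ∀ g : K, g ∈ K1 ↔ a * g = g * a ∧ b * g = g * b := by
      intro g
      rw [hK1, Subgroup.mem_inf, Subgroup.mem_centralizer_iff, Subgroup.mem_centralizer_iff]
      simp
    have hflipa := ng_eodd_flip c hc hc1 hc2 hcomm a b hab
    have hflipb := ng_eodd_flip c hc hc1 hc2 hcomm b a hba
    -- index of `Ca`
    have hidx1 : Ca.index = 2 := by
      rw [Subgroup.index_eq_two_iff]
      refine ⟨b, fun g => ?_⟩
      rw [hmemCa, hmemCa, hflipa g]
      by_cases h : a * g = g * a
      · right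
        exact ⟨h, fun h2 => h2 h⟩
      · left
        exact ⟨h, h⟩
    have hK1Ca : K1 ≤ Ca := inf_le_left
    have haCa : a ∈ Ca := (hmemCa a).mpr rfl
    have hidx2 : K1.relIndex Ca = 2 := by
      rw [Subgroup.relIndex, Subgroup.index_eq_two_iff]
      refine ⟨⟨a, haCa⟩, fun g => ?_⟩
      rw [Subgroup.mem_subgroupOf, Subgroup.mem_subgroupOf, hmemK1, hmemK1]
      have hg := (hmemCa g).mp g.2
      have hga : a * ((g : K) * a) = ((g : K) * a) * a := by
        rw [← mul_assoc, hg]
      have hcoe : ((g * ⟨a, haCa⟩ : ↥Ca) : K) = (g : K) * a := rfl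
      rw [hcoe, hflipb (g : K)]
      by_cases h : b * (g : K) = (g : K) * b
      · right
        exact ⟨⟨hg, h⟩, fun h2 => h2.2 h⟩
      · left
        exact ⟨⟨hga, h⟩, fun h2 => h h2.2⟩
    have hidx : K1.index = 4 := by
      rw [← Subgroup.relIndex_mul_index hK1Ca, hidx1, hidx2]
    have hcardK1 : Nat.card K = Nat.card ↥K1 * 4 := by
      rw [← hidx, Subgroup.card_mul_index]
    have hcK1 : c ∈ K1 := (hmemK1 c).mpr ⟨(hcc a), (hcc b)⟩
    -- `n ≥ 3`
    have hn3 : 3 ≤ n := by
      rcases hn with ⟨m, rfl⟩
      rcases Nat.eq_zero_or_pos m with h0 | h0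
      · exfalso
        subst h0
        rw [hcard] at hcardK1
        have h1 : Nat.card ↥K1 = 1 := by omega
        have h2 : (⟨c, hcK1⟩ : ↥K1) = 1 := by
          haveI := Nat.card_eq_one_iff_unique.mp h1 |>.1
          exact Subsingleton.elim _ _
        exact hc1 (congrArg Subtype.val h2)
      · omega
    have hnodd : Odd (n - 2) := by
      rcases hn with ⟨m, rfl⟩
      exact ⟨m - 1, by omega⟩
    have hcardK1' : Nat.card ↥K1 = 2 ^ ((n - 2) + 1) := by
      have h1 : 2 ^ (n + 1) = 2 ^ ((n - 2) + 1) * 4 := by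
        have : n + 1 = ((n - 2) + 1) + 2 := by omega
        rw [this, pow_add]
        norm_num
      rw [hcard, h1] at hcardK1
      exact (Nat.eq_of_mul_eq_mul_right (by norm_num) hcardK1).symm
    -- induction hypothesis on `K1`
    obtain ⟨r, hrc, hrn⟩ := ih (n - 2) (by omega) hnodd ↥K1 ⟨c, hcK1⟩
      (by
        rw [Subgroup.mem_center_iff]
        intro g
        exact Subtype.ext (hcc g))
      (fun h => hc1 (congrArg Subtype.val h))
      (Subtype.ext (by rw [Subgroup.coe_pow]; exact hc2))
      (by
        intro g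
        obtain ⟨k, hk⟩ := Subgroup.mem_zpowers_iff.mp (hsq (g : K))
        rw [Subgroup.mem_zpowers_iff]
        exact ⟨k, Subtype.ext (by rw [Subgroup.coe_zpow, Subgroup.coe_pow]; exact hk)⟩)
      (by
        intro g h
        obtain ⟨k, hk⟩ := Subgroup.mem_zpowers_iff.mp (hcomm (g : K) (h : K))
        rw [Subgroup.mem_zpowers_iff]
        exact ⟨k, Subtype.ext (by
          rw [Subgroup.coe_zpow]
          simpa using hk)⟩)
      hcardK1'
    refine ⟨(r : K), ?_, ?_⟩
    · -- centrality
      have hrK1 := (hmemK1 (r : K)).mp r.2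
      -- the centralizer of `r`
      have hcent : ∀ g : K, g ∈ K1 → g * (r : K) = (r : K) * g := by
        intro g hg
        have := Subgroup.mem_center_iff.mp hrc ⟨g, hg⟩
        exact congrArg Subtype.val this
      have hra : a * (r : K) = (r : K) * a := hrK1.1
      have hrb : b * (r : K) = (r : K) * b := hrK1.2
      have hkey : ∀ g w : K, w * (r : K) = (r : K) * w → (g * w) * (r : K) = (r : K) * (g * w) →
          g * (r : K) = (r : K) * g := by
        intro g w hw hgw
        have h1 : g * (r : K) = (g * w) * (r : K) * w⁻¹ := by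
          have : w⁻¹ * (r : K) = (r : K) * w⁻¹ := by
            have h2 : (r : K) = w⁻¹ * ((r : K) * w) := by rw [← hw]; group
            calc w⁻¹ * (r : K) = w⁻¹ * (r : K) * w * w⁻¹ := by group
              _ = (w⁻¹ * ((r : K) * w)) * w⁻¹ := by group
              _ = (r : K) * w⁻¹ := by rw [← h2]
          calc g * (r : K) = g * w * (w⁻¹ * (r : K)) := by group
            _ = g * w * ((r : K) * w⁻¹) := by rw [this]
            _ = (g * w) * (r : K) * w⁻¹ := by group
        rw [h1, hgw]
        group
      rw [Subgroup.mem_center_iff]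
      intro g
      -- the four cases
      have hPa_a : ∀ x : K, a * (x * a) = (x * a) * a ↔ a * x = x * a := by
        intro x
        constructor
        · intro h
          have h2 : (a * x) * a = (x * a) * a := by rw [mul_assoc]; exact h
          exact mul_right_cancel h2
        · intro h
          rw [← mul_assoc, h]
      have hPb_b : ∀ x : K, b * (x * b) = (x * b) * b ↔ b * x = x * b := by
        intro x
        constructor
        · intro h
          have h2 : (b * x) * b = (x * b) * b := by rw [mul_assoc]; exact h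
          exact mul_right_cancel h2
        · intro h
          rw [← mul_assoc, h]
      by_cases hga : a * g = g * a
      · by_cases hgb : b * g = g * b
        · exact hcent g ((hmemK1 g).mpr ⟨hga, hgb⟩)
        · -- use `w = a`
          apply hkey g a hra
          apply hcent
          rw [hmemK1]
          exact ⟨(hPa_a g).mpr hga, (hflipb g).mpr hgb⟩
      · by_cases hgb : b * g = g * b
        · -- use `w = b`
          apply hkey g b hrb
          apply hcent
          rw [hmemK1]
          exact ⟨(hflipa g).mpr hga, (hPb_b g).mpr hgb⟩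
        · -- use `w = b * a`
          have hw : (b * a) * (r : K) = (r : K) * (b * a) := by
            rw [mul_assoc, hra, ← mul_assoc, hrb, mul_assoc]
          apply hkey g (b * a) hw
          apply hcent
          have e : g * (b * a) = (g * b) * a := (mul_assoc g b a).symm
          rw [hmemK1, e]
          have h1 : a * (g * b) = (g * b) * a := (hflipa g).mpr hga
          have h2 : ¬ (b * (g * b) = (g * b) * b) := fun h => hgb ((hPb_b g).mp h)
          exact ⟨(hPa_a (g * b)).mpr h1, (hflipb (g * b)).mpr h2⟩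
    · intro h
      apply hrn
      obtain ⟨k, hk⟩ := Subgroup.mem_zpowers_iff.mp h
      rw [Subgroup.mem_zpowers_iff]
      exact ⟨k, Subtype.ext (by rw [Subgroup.coe_zpow]; exact hk)⟩

/-- A 2-group `K` with a central involution `c`, `K/⟨c⟩` elementary abelian of ODD rank `n`, has
`Z(K) ≠ ⟨c⟩`.  Strong induction on `n` (generalising `K`).  If `K` is abelian any `r ∉ zpowers c` works
(`card K = 2^(n+1) ≥ 4`).  Else pick `a b` with `a b a⁻¹ b⁻¹ = c`.  `K1 := centralizer {a, b}` contains `c`,
and `g ↦ (g a g⁻¹ a⁻¹, g b g⁻¹ b⁻¹)` is a homomorphism onto `⟨c⟩ × ⟨c⟩` (class 2) with kernel `K1`, so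
`card K1 = 2^(n-1)` and `n ≥ 3`, `n - 2` odd.  Apply the induction hypothesis to `↥K1` and `c`: get
`r ∈ Z(K1) \ ⟨c⟩`.  `K = ⟨a,b⟩ K1` (orders), and `r` commutes with `a, b`, so `r ∈ Z(K)`. -/
theorem odd_rank {K : Type*} [Group K] [Finite K] (c : K) (hc : c ∈ Subgroup.center K)
    (hc1 : c ≠ 1) (hc2 : c ^ 2 = 1) (hsq : ∀ g : K, g ^ 2 ∈ Subgroup.zpowers c)
    (hcomm : ∀ g h : K, g * h * g⁻¹ * h⁻¹ ∈ Subgroup.zpowers c) (n : ℕ) (hn : Odd n)
    (hcard : Nat.card K = 2 ^ (n + 1)) :
    ∃ r : K, r ∈ Subgroup.center K ∧ r ∉ Subgroup.zpowers c :=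
  ng_eodd_aux n hn K c hc hc1 hc2 hsq hcomm hcard

end Cfsg.Agent.Helper17.NG
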