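import Mathlib
import Cfsg.Agent.Lib.NG.NGDefs
import Cfsg.Agent.Lib.NG.NGEODD

/-! S1904 piece NG-EAPP (helper17 design; see plans/S1904_plan.md).  STUB: overwrite this file,
keeping the statement(s), namespace and imports (you may ADD imports of non-NG library files).
Aux lemmas: fresh names `ng_eapp_...`. -/

set_option autoImplicit false

namespace Cfsg.Agent.Helper17.NG

variable {G : Type*} [Group G]

/-- Apply `odd_rank` to `K := ↥X ⧸ (zpowers v1).subgroupOf X` (normal: `v1` is central in `X`), with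
`c` the image of some `v2 ∈ V \ zpowers v1` (`card V = 4`, `card (zpowers v1) = 2`): `card K = 2 * 2^n`,
squares and commutators of `K` lie in `V/⟨v1⟩ = ⟨c⟩`.  Lift `r`. -/
theorem exists_index_two [Finite G] {X V : Subgroup G} (hQ : Quad X V) (n : ℕ) (hn : Odd n)
    (hcard : Nat.card ↥X = 4 * 2 ^ n) {v1 : G} (hv1 : v1 ∈ V) (hv11 : v1 ≠ 1) :
    ∃ r ∈ X, r ∉ V ∧ ∀ x ∈ X, r * x * r⁻¹ * x⁻¹ ∈ Subgroup.zpowers v1 := by
  classical
  have hVc : ∀ x ∈ X, ∀ v ∈ V, v * x = x * v := by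
    intro x hx v hv
    exact (Subgroup.mem_centralizer_iff.mp (hQ.central hx)) v hv
  have hZV : Subgroup.zpowers v1 ≤ V := Subgroup.zpowers_le.mpr hv1
  have hZX : Subgroup.zpowers v1 ≤ X := hZV.trans hQ.le
  have hv1sq : v1 ^ 2 = 1 := hQ.vsq v1 hv1
  have hZ2 : Nat.card ↥(Subgroup.zpowers v1) = 2 := by
    rw [Nat.card_zpowers]
    exact orderOf_eq_prime hv1sq hv11
  -- `N = ⟨v1⟩` is normal in `X`
  have hNn : ((Subgroup.zpowers v1).subgroupOf X).Normal := by
    constructor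
    intro m hm g
    rw [Subgroup.mem_subgroupOf] at hm ⊢
    have h1 : ((g * m * g⁻¹ : ↥X) : G) = (m : G) := by
      have h2 := hVc g g.2 m (hZV hm)
      simp only [Subgroup.coe_mul, Subgroup.coe_inv]
      rw [← h2, mul_inv_cancel_right]
    rw [h1]
    exact hm
  have hN2 : Nat.card ↥((Subgroup.zpowers v1).subgroupOf X) = 2 := by
    rw [Nat.card_congr (Subgroup.subgroupOfEquivOfLe hZX).toEquiv, hZ2]
  have hcardK : Nat.card (↥X ⧸ (Subgroup.zpowers v1).subgroupOf X) = 2 ^ (n + 1) := by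
    have h1 := Subgroup.card_eq_card_quotient_mul_card_subgroup
      ((Subgroup.zpowers v1).subgroupOf X)
    rw [hcard, hN2] at h1
    rw [pow_succ]
    omega
  -- an element `v2 ∈ V ∖ ⟨v1⟩`
  have hlt : Subgroup.zpowers v1 < V := by
    refine lt_of_le_of_ne hZV ?_
    intro heq
    rw [heq, hQ.card] at hZ2
    norm_num at hZ2
  obtain ⟨v2, hv2V, hv2Z⟩ := SetLike.exists_of_lt hlt
  have hidx : ((Subgroup.zpowers v1).subgroupOf V).index = 2 := by
    have h1 := Subgroup.relIndex_mul_relIndex (⊥ : Subgroup G) (Subgroup.zpowers v1) V bot_le hZV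
    rw [Subgroup.relIndex_bot_left, Subgroup.relIndex_bot_left, hZ2, hQ.card] at h1
    have h2 : (Subgroup.zpowers v1).relIndex V = 2 := by omega
    exact h2
  obtain ⟨c, hcdef⟩ : ∃ c : ↥X ⧸ (Subgroup.zpowers v1).subgroupOf X,
      c = QuotientGroup.mk (⟨v2, hQ.le hv2V⟩ : ↥X) := ⟨_, rfl⟩
  -- images of elements of `V` lie in `⟨c⟩`
  have hmkV : ∀ w (hw : w ∈ V),
      (QuotientGroup.mk (⟨w, hQ.le hw⟩ : ↥X) : ↥X ⧸ (Subgroup.zpowers v1).subgroupOf X) ∈
        Subgroup.zpowers c := by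
    intro w hw
    by_cases hwZ : w ∈ Subgroup.zpowers v1
    · have h1 : (QuotientGroup.mk (⟨w, hQ.le hw⟩ : ↥X) :
          ↥X ⧸ (Subgroup.zpowers v1).subgroupOf X) = 1 :=
        (QuotientGroup.eq_one_iff _).mpr (Subgroup.mem_subgroupOf.mpr hwZ)
      rw [h1]
      exact Subgroup.one_mem _
    · have h1 : w * v2 ∈ Subgroup.zpowers v1 := by
        have h2 := (Subgroup.mul_mem_iff_of_index_two hidx
          (a := (⟨w, hw⟩ : ↥V)) (b := (⟨v2, hv2V⟩ : ↥V))).mpr
          ⟨fun hm => absurd (Subgroup.mem_subgroupOf.mp hm) hwZ,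
            fun hm => absurd (Subgroup.mem_subgroupOf.mp hm) hv2Z⟩
        exact Subgroup.mem_subgroupOf.mp h2
      have h2 : (QuotientGroup.mk ((⟨w, hQ.le hw⟩ : ↥X) * ⟨v2, hQ.le hv2V⟩) :
          ↥X ⧸ (Subgroup.zpowers v1).subgroupOf X) = 1 :=
        (QuotientGroup.eq_one_iff _).mpr (Subgroup.mem_subgroupOf.mpr h1)
      rw [QuotientGroup.mk_mul, ← hcdef] at h2
      have h3 : (QuotientGroup.mk (⟨w, hQ.le hw⟩ : ↥X) :
          ↥X ⧸ (Subgroup.zpowers v1).subgroupOf X) = c⁻¹ := eq_inv_of_mul_eq_one_left h2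
      rw [h3]
      exact Subgroup.inv_mem _ (Subgroup.mem_zpowers c)
  -- hypotheses of `odd_rank`
  have hc : c ∈ Subgroup.center (↥X ⧸ (Subgroup.zpowers v1).subgroupOf X) := by
    rw [Subgroup.mem_center_iff]
    intro g
    induction g using QuotientGroup.induction_on with
    | H g' =>
      rw [hcdef, ← QuotientGroup.mk_mul, ← QuotientGroup.mk_mul]
      congr 1
      apply Subtype.ext
      simp only [Subgroup.coe_mul]
      exact (hVc g' g'.2 v2 hv2V).symm
  have hc1 : c ≠ 1 := by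
    intro h1
    rw [hcdef, QuotientGroup.eq_one_iff, Subgroup.mem_subgroupOf] at h1
    exact hv2Z h1
  have hc2 : c ^ 2 = 1 := by
    rw [hcdef, ← QuotientGroup.mk_pow, QuotientGroup.eq_one_iff, Subgroup.mem_subgroupOf]
    have h1 : (((⟨v2, hQ.le hv2V⟩ : ↥X) ^ 2 : ↥X) : G) = v2 ^ 2 := rfl
    rw [h1, hQ.vsq v2 hv2V]
    exact Subgroup.one_mem _
  have hsq : ∀ g : ↥X ⧸ (Subgroup.zpowers v1).subgroupOf X, g ^ 2 ∈ Subgroup.zpowers c := by
    intro g
    induction g using QuotientGroup.induction_on with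
    | H g' =>
      have h1 := hmkV ((g' : G) ^ 2) (hQ.sq g' g'.2)
      have h2 : (⟨(g' : G) ^ 2, hQ.le (hQ.sq g' g'.2)⟩ : ↥X) = g' ^ 2 := Subtype.ext rfl
      rw [h2, QuotientGroup.mk_pow] at h1
      exact h1
  have hcomm : ∀ g k : ↥X ⧸ (Subgroup.zpowers v1).subgroupOf X,
      g * k * g⁻¹ * k⁻¹ ∈ Subgroup.zpowers c := by
    intro g k
    induction g using QuotientGroup.induction_on with
    | H g' =>
      induction k using QuotientGroup.induction_on with
      | H k' =>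
        have hmem : (g' : G) * k' * (g' : G)⁻¹ * (k' : G)⁻¹ ∈ V := by
          apply hQ.comm
          have h3 := Subgroup.commutator_mem_commutator g'.2 k'.2
          rwa [commutatorElement_def] at h3
        have h1 := hmkV _ hmem
        have h2 : (⟨(g' : G) * k' * (g' : G)⁻¹ * (k' : G)⁻¹, hQ.le hmem⟩ : ↥X) =
            g' * k' * g'⁻¹ * k'⁻¹ := Subtype.ext rfl
        rw [h2] at h1
        exact h1
  obtain ⟨rbar, hrc, hrz⟩ := odd_rank c hc hc1 hc2 hsq hcomm n hn hcardK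
  obtain ⟨r, rfl⟩ := QuotientGroup.mk_surjective rbar
  refine ⟨(r : G), r.2, ?_, ?_⟩
  · intro hrV
    apply hrz
    have h1 := hmkV (r : G) hrV
    exact h1
  · intro x hx
    rw [Subgroup.mem_center_iff] at hrc
    have h1 := hrc (QuotientGroup.mk (⟨x, hx⟩ : ↥X))
    -- `mk x * mk r = mk r * mk x`
    have h2 : (QuotientGroup.mk (r * ⟨x, hx⟩ * r⁻¹ * (⟨x, hx⟩ : ↥X)⁻¹) :
        ↥X ⧸ (Subgroup.zpowers v1).subgroupOf X) = 1 := by
      rw [QuotientGroup.mk_mul, QuotientGroup.mk_mul, QuotientGroup.mk_mul, QuotientGroup.mk_inv,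
        QuotientGroup.mk_inv, ← h1]
      group
    rw [QuotientGroup.eq_one_iff, Subgroup.mem_subgroupOf] at h2
    exact h2

end Cfsg.Agent.Helper17.NG
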