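import Mathlib
import Cfsg.Agent.Lib.NG.NGDefs

/-! S1904 piece NG-THREE (helper17 design; see plans/S1904_plan.md).  STUB: overwrite this file,
keeping the statement(s), namespace and imports (you may ADD imports of non-NG library files).
Aux lemmas: fresh names `ng_three_...`. -/

set_option autoImplicit false

namespace Cfsg.Agent.Helper17.NG

variable {G : Type*} [Group G]

/-- class-2 identity (squares and commutators of elements of `X` are centralised by `X`):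
`b a = [b,a] a b`; `(ab)^2 = [b,a] a^2 b^2`; `(abc)^2 = [c,a][b,a][c,b] a^2 b^2 c^2`; both sides equal
`[b,a][c,a][c,b] a^4 b^4 c^4`. -/
theorem three_sq {X : Subgroup G}
    (hc : ∀ x ∈ X, ∀ y ∈ X, x * y * x⁻¹ * y⁻¹ ∈ Subgroup.centralizer (X : Set G))
    (hs : ∀ x ∈ X, x ^ 2 ∈ Subgroup.centralizer (X : Set G)) {a b c : G}
    (ha : a ∈ X) (hb : b ∈ X) (hc' : c ∈ X) :
    (a * b * c) ^ 2 * (a ^ 2 * b ^ 2 * c ^ 2) = (a * b) ^ 2 * (a * c) ^ 2 * (b * c) ^ 2 := by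
  have hcomm : ∀ z ∈ Subgroup.centralizer (X : Set G), ∀ x ∈ X, x * z = z * x :=
    fun z hz x hx => Subgroup.mem_centralizer_iff.mp hz x hx
  have key2 : ∀ x ∈ X, ∀ y ∈ X, (x * y) ^ 2 = (y * x * y⁻¹ * x⁻¹) * (x ^ 2 * y ^ 2) := by
    intro x hx y hy
    have hk := hcomm _ (hc y hy x hx) x hx
    have h1 : y * x = (y * x * y⁻¹ * x⁻¹) * x * y := by group
    calc (x * y) ^ 2 = x * (y * x) * y := by rw [pow_two]; simp only [mul_assoc]
      _ = x * ((y * x * y⁻¹ * x⁻¹) * x * y) * y := congrArg (fun t => x * t * y) h1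
      _ = (x * (y * x * y⁻¹ * x⁻¹)) * x * y * y := by simp only [mul_assoc]
      _ = ((y * x * y⁻¹ * x⁻¹) * x) * x * y * y := by rw [hk]
      _ = _ := by simp only [mul_assoc, pow_two]
  have hab : a * b ∈ X := X.mul_mem ha hb
  have hcab : c * (a * b) * c⁻¹ * (a * b)⁻¹ = (c * a * c⁻¹ * a⁻¹) * (c * b * c⁻¹ * b⁻¹) := by
    have hv := hcomm _ (hc c hc' b hb) a ha
    calc c * (a * b) * c⁻¹ * (a * b)⁻¹
        = (c * a * c⁻¹ * a⁻¹) * (a * (c * b * c⁻¹ * b⁻¹)) * a⁻¹ := by group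
      _ = (c * a * c⁻¹ * a⁻¹) * ((c * b * c⁻¹ * b⁻¹) * a) * a⁻¹ := by rw [hv]
      _ = _ := by group
  have hZ : IsMulCommutative ↥(ZS X) := ⟨⟨fun z1 z2 => Subtype.ext (by
    have h2 : (z2 : G) ∈ X ⊓ Subgroup.centralizer (X : Set G) := z2.2
    have h1 : (z1 : G) ∈ X ⊓ Subgroup.centralizer (X : Set G) := z1.2
    exact hcomm _ h2.2 _ h1.1)⟩⟩
  have mk : ∀ g : G, g ∈ X → g ∈ Subgroup.centralizer (X : Set G) →
      ∃ g' : ↥(ZS X), (g' : G) = g := fun g h1 h2 => ⟨⟨g, ⟨h1, h2⟩⟩, rfl⟩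
  obtain ⟨u, hu⟩ := mk (c * a * c⁻¹ * a⁻¹)
    (X.mul_mem (X.mul_mem (X.mul_mem hc' ha) (X.inv_mem hc')) (X.inv_mem ha)) (hc c hc' a ha)
  obtain ⟨v, hv⟩ := mk (c * b * c⁻¹ * b⁻¹)
    (X.mul_mem (X.mul_mem (X.mul_mem hc' hb) (X.inv_mem hc')) (X.inv_mem hb)) (hc c hc' b hb)
  obtain ⟨w, hw⟩ := mk ((a * b) ^ 2) (X.pow_mem hab 2) (hs _ hab)
  obtain ⟨sa, hsa⟩ := mk (a ^ 2) (X.pow_mem ha 2) (hs _ ha)
  obtain ⟨sb, hsb⟩ := mk (b ^ 2) (X.pow_mem hb 2) (hs _ hb)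
  obtain ⟨sc, hsc⟩ := mk (c ^ 2) (X.pow_mem hc' 2) (hs _ hc')
  have hmain : u * v * (w * sc) * (sa * sb * sc) = w * (u * (sa * sc)) * (v * (sb * sc)) := by
    ac_rfl
  have hmain' := congrArg Subtype.val hmain
  simp only [Subgroup.coe_mul, hu, hv, hw, hsa, hsb, hsc] at hmain'
  rw [key2 (a * b) hab c hc', hcab, key2 a ha c hc', key2 b hb c hc']
  exact hmain'

end Cfsg.Agent.Helper17.NG
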