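import Mathlib
import Cfsg.Agent.Lib.NG.NGDefs
import Cfsg.Agent.Lib.NG.NGTHREE
import Cfsg.Agent.Lib.Helper19.QuadComm
import Cfsg.Agent.Lib.T57.Norm

/-! S1904 piece NG-ECENT (helper17 design; see plans/S1904_plan.md).  STUB: overwrite this file,
keeping the statement(s), namespace and imports (you may ADD imports of non-NG library files).
Aux lemmas: fresh names `ng_ecent_...`. -/

set_option autoImplicit false

namespace Cfsg.Agent.Helper17.NG

variable {G : Type*} [Group G]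

open Cfsg.Agent.Helper19.QuadComm in
/-- `Quad` gives the class-two bookkeeping structure -/
theorem ng_ecent_c2 {X V : Subgroup G} (hQ : Quad X V) : C2 X V where
  le := hQ.le
  comm := fun _ hx _ hy => hQ.comm (Subgroup.commutator_mem_commutator hx hy)
  cen := fun v hv _ hx => Subgroup.mem_centralizer_iff.mp (hQ.central hx) v hv

open Cfsg.Agent.Helper19.QuadComm in
theorem ng_ecent_cover2 [Finite G] (t0 t1 : G) (K H : Subgroup G)
    (hc : ∀ z ∈ K, t0⁻¹ * z ∈ H ∨ t1⁻¹ * z ∈ H) : Nat.card ↥K ≤ 2 * Nat.card ↥H := by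
  apply card_le_of_cover 2 ![t0, t1] K H
  intro z hz
  rcases hc z hz with h | h
  · exact ⟨0, by simpa using h⟩
  · exact ⟨1, by simpa using h⟩

open Cfsg.Agent.Helper19.QuadComm in
theorem ng_ecent_cover4 [Finite G] (t0 t1 t2 t3 : G) (K H : Subgroup G)
    (hc : ∀ z ∈ K, t0⁻¹ * z ∈ H ∨ t1⁻¹ * z ∈ H ∨ t2⁻¹ * z ∈ H ∨ t3⁻¹ * z ∈ H) :
    Nat.card ↥K ≤ 4 * Nat.card ↥H := by
  apply card_le_of_cover 4 ![t0, t1, t2, t3] K H
  intro z hz
  rcases hc z hz with h | h | h | h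
  · exact ⟨0, by simpa using h⟩
  · exact ⟨1, by simpa using h⟩
  · exact ⟨2, by simpa using h⟩
  · exact ⟨3, by simpa using h⟩

/-- parity modulo the subgroup of order two of a group of order four -/
theorem ng_ecent_par [Finite G] {V : Subgroup G} (hV4 : Nat.card ↥V = 4) {v1 : G} (hv1 : v1 ∈ V)
    (hne : v1 ≠ 1) (hsq : v1 * v1 = 1) {p q : G} (hp : p ∈ V) (hq : q ∈ V) :
    p * q ∈ Subgroup.zpowers v1 ↔ (p ∈ Subgroup.zpowers v1 ↔ q ∈ Subgroup.zpowers v1) := by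
  have hCV : Subgroup.zpowers v1 ≤ V := Subgroup.zpowers_le.mpr hv1
  have hcardC : Nat.card ↥(Subgroup.zpowers v1) = 2 := by
    rw [Nat.card_zpowers]
    have hf : Fact (Nat.Prime 2) := ⟨Nat.prime_two⟩
    exact orderOf_eq_prime (by rw [pow_two]; exact hsq) hne
  have hidx : ((Subgroup.zpowers v1).subgroupOf V).index = 2 := by
    have h1 := Subgroup.card_mul_index ((Subgroup.zpowers v1).subgroupOf V)
    have h2 : Nat.card ↥((Subgroup.zpowers v1).subgroupOf V) = 2 := by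
      rw [Nat.card_congr (Subgroup.subgroupOfEquivOfLe hCV).toEquiv, hcardC]
    rw [h2, hV4] at h1
    omega
  have h3 := Subgroup.mul_mem_iff_of_index_two hidx (a := (⟨p, hp⟩ : ↥V)) (b := ⟨q, hq⟩)
  simpa [Subgroup.mem_subgroupOf] using h3

/-- an element of `C_X(x)` outside `V ∪ xV` has its square outside `⟨x²⟩` -/
theorem ng_ecent_sq {X V : Subgroup G} (hQ : Quad X V) {x : G} (hx : x ∈ X) {w : G}
    (hwX : w ∈ X) (hwx : w * x = x * w) (hwV : w ∉ V) (hxw : x⁻¹ * w ∉ V) :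
    w ^ 2 ∉ Subgroup.zpowers (x ^ 2) := by
  intro hmem
  have hv1sq : x ^ 2 * x ^ 2 = 1 := by
    rw [← pow_two]
    exact hQ.vsq _ (hQ.sq x hx)
  rcases Cfsg.Agent.Helper10.T57.t57_norm_mem_zpowers (x ^ 2) hv1sq hmem with h | h
  · exact hwV (hQ.aniso w hwX h)
  · apply hxw
    apply hQ.aniso _ (X.mul_mem (X.inv_mem hx) hwX)
    have hc : w * x⁻¹ = x⁻¹ * w := by
      calc w * x⁻¹ = x⁻¹ * (x * w) * x⁻¹ := by group
        _ = x⁻¹ * (w * x) * x⁻¹ := by rw [hwx]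
        _ = x⁻¹ * w := by group
    calc (x⁻¹ * w) ^ 2 = x⁻¹ * (w * x⁻¹) * w := by rw [pow_two]; group
      _ = x⁻¹ * (x⁻¹ * w) * w := by rw [hc]
      _ = (x * x)⁻¹ * (w * w) := by group
      _ = 1 := by rw [← pow_two, ← pow_two, h]; group

open Cfsg.Agent.Helper19.QuadComm in
/-- For `x ∈ X \ V`: `card (C_X(x)) ≤ 32`.  Put `v1 := x^2 ≠ 1` (`hQ.aniso`), `D := V ⊔ zpowers x`
(order 8, `D ≤ Cx := X ⊓ C({x})`).  For `y ∈ Cx \ D`: `y^2 ≠ 1` and `(x y)^2 = x^2 y^2 ≠ 1`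
(`x y ∉ V`), so `y^2 ∈ V \ {1, v1}`.  Suppose `card Cx ≥ 64`; then there are `y1 y2 y3 ∈ Cx` whose
seven nontrivial products `y1, y2, y3, y1 y2, y1 y3, y2 y3, y1 y2 y3` all lie outside `D`
(`Cx/D` has order `≥ 8`; it is elementary abelian since squares lie in `V ≤ D`).  All seven squares lie in
`V \ {1, v1}`, i.e. in the nontrivial coset of `zpowers v1` in `V` (`card V = 4`).  By `three_sq` (inside
`X`: squares and commutators lie in `V`, central):
`(y1 y2 y3)^2 * (y1^2 y2^2 y3^2) = (y1 y2)^2 (y1 y3)^2 (y2 y3)^2`; modulo `zpowers v1` the right side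
and `y1^2 y2^2 y3^2` are both the nontrivial coset (odd number of factors), so `(y1 y2 y3)^2 ∈ zpowers v1`,
contradiction. -/
theorem card_centralizer_le [Finite G] {X V : Subgroup G} (hQ : Quad X V) {x : G} (hx : x ∈ X)
    (hxV : x ∉ V) : Nat.card ↥(X ⊓ Subgroup.centralizer ({x} : Set G)) ≤ 32 := by
  have h2 : C2 X V := ng_ecent_c2 hQ
  have hv1V : x ^ 2 ∈ V := hQ.sq x hx
  have hv1ne : x ^ 2 ≠ 1 := fun h => hxV (hQ.aniso x hx h)
  have hv1sq : x ^ 2 * x ^ 2 = 1 := by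
    rw [← pow_two]
    exact hQ.vsq _ hv1V
  have hmemCx : ∀ z, z ∈ X ⊓ Subgroup.centralizer ({x} : Set G) ↔ z ∈ X ∧ z * x = x * z := by
    intro z
    rw [Subgroup.mem_inf, Subgroup.mem_centralizer_singleton_iff]
  have hV4 := hQ.card
  by_cases hA : ∀ z ∈ X ⊓ Subgroup.centralizer ({x} : Set G), z ∈ V ∨ x⁻¹ * z ∈ V
  · have h8 := ng_ecent_cover2 1 x (X ⊓ Subgroup.centralizer ({x} : Set G)) V
      (fun z hz => by simpa using hA z hz)
    omega
  · push Not at hA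
    obtain ⟨y, hyC, hyV, hxy⟩ := hA
    obtain ⟨hyX, hyx⟩ := (hmemCx y).1 hyC
    have hy2 : y ^ 2 ∉ Subgroup.zpowers (x ^ 2) := ng_ecent_sq hQ hx hyX hyx hyV hxy
    have hK16 : Nat.card ↥(h2.S (Subgroup.zpowers (x ^ 2)) y hyX ⊓
        (X ⊓ Subgroup.centralizer ({x} : Set G))) ≤ 16 := by
      have h16 := ng_ecent_cover4 1 x y⁻¹ (y⁻¹ * x)
        (h2.S (Subgroup.zpowers (x ^ 2)) y hyX ⊓ (X ⊓ Subgroup.centralizer ({x} : Set G))) V ?_
      · omega
      intro z hz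
      by_contra hcon
      push Not at hcon
      obtain ⟨c0, c1, c2, c3⟩ := hcon
      have hzS : z ∈ X ∧ z * y * z⁻¹ * y⁻¹ ∈ Subgroup.zpowers (x ^ 2) := hz.1
      obtain ⟨hzX, hzx⟩ := (hmemCx z).1 hz.2
      have c0' : z ∉ V := by simpa using c0
      have c2' : y * z ∉ V := by simpa using c2
      have c3' : x⁻¹ * (y * z) ∉ V := by
        intro h
        apply c3
        have e : (y⁻¹ * x)⁻¹ * z = x⁻¹ * (y * z) := by group
        rw [e]
        exact h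
      have hz2 := ng_ecent_sq hQ hx hzX hzx c0' c1
      have hyzx : (y * z) * x = x * (y * z) := by
        rw [mul_assoc, hzx, ← mul_assoc, hyx, mul_assoc]
      have hyz2 := ng_ecent_sq hQ hx (X.mul_mem hyX hzX) hyzx c2' c3'
      apply hyz2
      rw [h2.sq_mul hyX hzX]
      have hp1 : y ^ 2 * z ^ 2 ∈ Subgroup.zpowers (x ^ 2) :=
        (ng_ecent_par hV4 hv1V hv1ne hv1sq (hQ.sq y hyX) (hQ.sq z hzX)).2
          ⟨fun h => absurd h hy2, fun h => absurd h hz2⟩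
      exact (ng_ecent_par hV4 hv1V hv1ne hv1sq (h2.comm z hzX y hyX)
        (V.mul_mem (hQ.sq y hyX) (hQ.sq z hzX))).2 ⟨fun _ => hp1, fun _ => hzS.2⟩
    by_cases hK : X ⊓ Subgroup.centralizer ({x} : Set G) ≤
        h2.S (Subgroup.zpowers (x ^ 2)) y hyX ⊓ (X ⊓ Subgroup.centralizer ({x} : Set G))
    · have h3 := Subgroup.card_le_of_le hK
      omega
    · obtain ⟨z₀, hz₀C, hz₀K⟩ := SetLike.not_le_iff_exists.mp hK
      obtain ⟨hz₀X, -⟩ := (hmemCx z₀).1 hz₀C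
      have hz₀c : z₀ * y * z₀⁻¹ * y⁻¹ ∉ Subgroup.zpowers (x ^ 2) := by
        intro h
        exact hz₀K ⟨⟨hz₀X, h⟩, hz₀C⟩
      have h32 := ng_ecent_cover2 1 z₀ (X ⊓ Subgroup.centralizer ({x} : Set G))
        (h2.S (Subgroup.zpowers (x ^ 2)) y hyX ⊓ (X ⊓ Subgroup.centralizer ({x} : Set G))) ?_
      · omega
      intro z' hz'C
      by_cases hz'K : z' ∈ h2.S (Subgroup.zpowers (x ^ 2)) y hyX ⊓
          (X ⊓ Subgroup.centralizer ({x} : Set G))
      · left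
        simpa using hz'K
      · right
        obtain ⟨hz'X, -⟩ := (hmemCx z').1 hz'C
        have hz'c : z' * y * z'⁻¹ * y⁻¹ ∉ Subgroup.zpowers (x ^ 2) := by
          intro h
          exact hz'K ⟨⟨hz'X, h⟩, hz'C⟩
        refine ⟨⟨X.mul_mem (X.inv_mem hz₀X) hz'X, ?_⟩,
          Subgroup.mul_mem _ (Subgroup.inv_mem _ hz₀C) hz'C⟩
        rw [h2.comm_mul_left (X.inv_mem hz₀X) hz'X hyX, h2.comm_inv_left hz₀X hyX]
        refine (ng_ecent_par hV4 hv1V hv1ne hv1sq (h2.comm z' hz'X y hyX)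
          (V.inv_mem (h2.comm z₀ hz₀X y hyX))).2 ⟨fun h => absurd h hz'c, fun h => ?_⟩
        exact absurd (by simpa using Subgroup.inv_mem _ h) hz₀c

end Cfsg.Agent.Helper17.NG
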