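import Mathlib
import Cfsg.Agent.Lib.NG.NGDefs
import Cfsg.Agent.Lib.NG.NGECENT
import Cfsg.Agent.Lib.NG.NGEAPP

/-! S1904 piece NG-ECARD (helper17 design; see plans/S1904_plan.md).  STUB: overwrite this file,
keeping the statement(s), namespace and imports (you may ADD imports of non-NG library files).
Aux lemmas: fresh names `ng_ecard_...`. -/

set_option autoImplicit false

namespace Cfsg.Agent.Helper17.NG

variable {G : Type*} [Group G]

/-- if all commutators `g r g⁻¹ r⁻¹` (`g ∈ X`) lie in `W`, the index of `C_X(r)` in `X` is at most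
`card W` -/
theorem ng_ecard_key [Finite G] (X W : Subgroup G) (r : G)
    (hr : ∀ g ∈ X, g * r * g⁻¹ * r⁻¹ ∈ W) :
    Nat.card ↥X ≤ Nat.card ↥W * Nat.card ↥(X ⊓ Subgroup.centralizer ({r} : Set G)) := by
  classical
  have h1 := Subgroup.card_eq_card_quotient_mul_card_subgroup
    ((X ⊓ Subgroup.centralizer ({r} : Set G)).subgroupOf X)
  have h2 : Nat.card ↥((X ⊓ Subgroup.centralizer ({r} : Set G)).subgroupOf X) =
      Nat.card ↥(X ⊓ Subgroup.centralizer ({r} : Set G)) :=
    Nat.card_congr (Subgroup.subgroupOfEquivOfLe inf_le_left).toEquiv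
  have h3 : Nat.card (↥X ⧸ (X ⊓ Subgroup.centralizer ({r} : Set G)).subgroupOf X) ≤
      Nat.card ↥W := by
    let F : (↥X ⧸ (X ⊓ Subgroup.centralizer ({r} : Set G)).subgroupOf X) → ↥W :=
      fun q => ⟨(q.out : G) * r * (q.out : G)⁻¹ * r⁻¹, hr _ q.out.2⟩
    apply Nat.card_le_card_of_injective F
    intro q q' hqq
    have h4 : (q.out : G) * r * (q.out : G)⁻¹ * r⁻¹ = (q'.out : G) * r * (q'.out : G)⁻¹ * r⁻¹ :=
      congrArg Subtype.val hqq
    have h6 : (q.out : G) * r * (q.out : G)⁻¹ = (q'.out : G) * r * (q'.out : G)⁻¹ :=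
      mul_right_cancel h4
    have h5 : (QuotientGroup.mk q.out :
        ↥X ⧸ (X ⊓ Subgroup.centralizer ({r} : Set G)).subgroupOf X) = QuotientGroup.mk q'.out := by
      rw [QuotientGroup.eq, Subgroup.mem_subgroupOf]
      have hcen : (q.out : G)⁻¹ * (q'.out : G) ∈ Subgroup.centralizer ({r} : Set G) := by
        rw [Subgroup.mem_centralizer_iff]
        intro k hk
        rw [Set.mem_singleton_iff] at hk
        subst hk
        calc k * ((q.out : G)⁻¹ * (q'.out : G))
            = (q.out : G)⁻¹ * ((q.out : G) * k * (q.out : G)⁻¹) * (q'.out : G) := by group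
          _ = (q.out : G)⁻¹ * ((q'.out : G) * k * (q'.out : G)⁻¹) * (q'.out : G) := by rw [h6]
          _ = (q.out : G)⁻¹ * (q'.out : G) * k := by group
      exact ⟨X.mul_mem (X.inv_mem q.out.2) q'.out.2, hcen⟩
    rw [QuotientGroup.out_eq', QuotientGroup.out_eq'] at h5
    exact h5
  rw [h1, h2]
  exact Nat.mul_le_mul_right _ h3

/-- `card X ≤ 64`.  `card X = 4 * 2^n` (2-group, `V ≤ X`).  If `X = V` done.  Take `x ∈ X \ V`: the
conjugates `g x g⁻¹ = (g x g⁻¹ x⁻¹) x` (`g ∈ X`) lie in `V x`, so `(X ⊓ C({x})).relIndex X ≤ 4`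
(orbit-stabiliser for conjugation), and `card_centralizer_le` gives `card X ≤ 128`.  If `card X = 128`
then `n = 5` is odd: `exists_index_two` (any `v1 ∈ V`, `v1 ≠ 1`) gives `r ∈ X \ V` all of whose
conjugates lie in `(zpowers v1) r`, so the index of `C_X(r)` is `≤ 2` and `card X ≤ 2 * 32`, contradiction. -/
theorem card_le_64 [Finite G] {X V : Subgroup G} (hX2 : IsPGroup 2 ↥X) (hQ : Quad X V) :
    Nat.card ↥X ≤ 64 := by
  classical
  by_cases hXV : X ≤ V
  · have h1 : X = V := le_antisymm hXV hQ.le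
    rw [h1, hQ.card]
    norm_num
  · obtain ⟨x, hx, hxV⟩ := SetLike.not_le_iff_exists.mp hXV
    have hcomV : ∀ r ∈ X, ∀ g ∈ X, g * r * g⁻¹ * r⁻¹ ∈ V := by
      intro r hr g hg
      apply hQ.comm
      have h1 := Subgroup.commutator_mem_commutator hg hr
      rwa [commutatorElement_def] at h1
    have h128 : Nat.card ↥X ≤ 4 * 32 := by
      calc Nat.card ↥X
          ≤ Nat.card ↥V * Nat.card ↥(X ⊓ Subgroup.centralizer ({x} : Set G)) :=
            ng_ecard_key X V x (hcomV x hx)
        _ ≤ 4 * 32 := by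
            rw [hQ.card]
            exact Nat.mul_le_mul_left _ (card_centralizer_le hQ hx hxV)
    obtain ⟨m, hm⟩ := (IsPGroup.iff_card (p := 2) (G := ↥X)).mp hX2
    by_contra hgt
    push Not at hgt
    have hm7 : m = 7 := by
      rw [hm] at hgt h128
      have h6 : 6 < m := (Nat.pow_lt_pow_iff_right (by norm_num : 1 < 2)).mp (by simpa using hgt)
      have h7 : m ≤ 7 :=
        (Nat.pow_le_pow_iff_right (by norm_num : 1 < 2)).mp (by simpa using h128)
      omega
    have hc128 : Nat.card ↥X = 4 * 2 ^ 5 := by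
      rw [hm, hm7]
      norm_num
    obtain ⟨v1, hv1, hv11⟩ : ∃ v1 ∈ V, v1 ≠ 1 := by
      by_contra hcon
      push Not at hcon
      have h1 : V = ⊥ := (Subgroup.eq_bot_iff_forall V).mpr hcon
      have h2 := hQ.card
      rw [h1, Subgroup.card_bot] at h2
      norm_num at h2
    obtain ⟨r, hrX, hrV, hrc⟩ := exists_index_two hQ 5 (by decide) hc128 hv1 hv11
    have hZ2 : Nat.card ↥(Subgroup.zpowers v1) = 2 := by
      rw [Nat.card_zpowers]
      exact orderOf_eq_prime (hQ.vsq v1 hv1) hv11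
    have h64 : Nat.card ↥X ≤ 2 * 32 := by
      calc Nat.card ↥X
          ≤ Nat.card ↥(Subgroup.zpowers v1) *
              Nat.card ↥(X ⊓ Subgroup.centralizer ({r} : Set G)) :=
            ng_ecard_key X (Subgroup.zpowers v1) r (fun g hg => by
              have h1 := Subgroup.inv_mem _ (hrc g hg)
              have e1 : (r * g * r⁻¹ * g⁻¹)⁻¹ = g * r * g⁻¹ * r⁻¹ := by group
              rw [e1] at h1
              exact h1)
        _ ≤ 2 * 32 := by
            rw [hZ2]
            exact Nat.mul_le_mul_left _ (card_centralizer_le hQ hrX hrV)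
    omega

end Cfsg.Agent.Helper17.NG
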