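import Mathlib
import Cfsg.Agent.Lib.NG.NGDefs
import Cfsg.Agent.Lib.Helper19.QuadComm

/-! S1904 piece NG-ECOMM (helper17 design; see plans/S1904_plan.md).  STUB: overwrite this file,
keeping the statement(s), namespace and imports (you may ADD imports of non-NG library files).
Aux lemmas: fresh names `ng_ecomm_...`. -/

set_option autoImplicit false

namespace Cfsg.Agent.Helper17.NG

variable {G : Type*} [Group G]

open Cfsg.Agent.Helper19.QuadComm in
/-- `Quad` gives the class-two bookkeeping structure -/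
theorem ng_ecomm_c2 {X V : Subgroup G} (hQ : Quad X V) : C2 X V where
  le := hQ.le
  comm := fun _ hx _ hy => hQ.comm (Subgroup.commutator_mem_commutator hx hy)
  cen := fun v hv _ hx => Subgroup.mem_centralizer_iff.mp (hQ.central hx) v hv

open Cfsg.Agent.Helper19.QuadComm in
/-- `X` is generated by `V` and two elements when `card X ≤ 16` -/
theorem ng_ecomm_gen [Finite G] {X V : Subgroup G} (hQ : Quad X V) (hcard : Nat.card ↥X ≤ 16) :
    ∃ a ∈ X, ∃ b ∈ X, ∀ K : Subgroup G, V ≤ K → a ∈ K → b ∈ K → X ≤ K := by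
  by_cases h1 : X ≤ V
  · exact ⟨1, X.one_mem, 1, X.one_mem, fun K hVK _ _ => h1.trans hVK⟩
  · obtain ⟨a, haX, haV⟩ := SetLike.not_le_iff_exists.mp h1
    have hK1X : V ⊔ Subgroup.zpowers a ≤ X := sup_le hQ.le (Subgroup.zpowers_le.mpr haX)
    have hne1 : V ≠ V ⊔ Subgroup.zpowers a := by
      intro he
      apply haV
      rw [he]
      exact Subgroup.mem_sup_right (Subgroup.mem_zpowers a)
    have hc1 : 2 * Nat.card ↥V ≤ Nat.card ↥(V ⊔ Subgroup.zpowers a) :=
      two_mul_card_le le_sup_left hne1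
    by_cases h2 : X ≤ V ⊔ Subgroup.zpowers a
    · refine ⟨a, haX, 1, X.one_mem, fun K hVK haK _ => ?_⟩
      exact h2.trans (sup_le hVK (Subgroup.zpowers_le.mpr haK))
    · obtain ⟨b, hbX, hbK⟩ := SetLike.not_le_iff_exists.mp h2
      have hK2X : (V ⊔ Subgroup.zpowers a) ⊔ Subgroup.zpowers b ≤ X :=
        sup_le hK1X (Subgroup.zpowers_le.mpr hbX)
      have hne2 : V ⊔ Subgroup.zpowers a ≠ (V ⊔ Subgroup.zpowers a) ⊔ Subgroup.zpowers b := by
        intro he
        apply hbK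
        rw [he]
        exact Subgroup.mem_sup_right (Subgroup.mem_zpowers b)
      have hc2 : 2 * Nat.card ↥(V ⊔ Subgroup.zpowers a) ≤
          Nat.card ↥((V ⊔ Subgroup.zpowers a) ⊔ Subgroup.zpowers b) :=
        two_mul_card_le le_sup_left hne2
      have hV4 := hQ.card
      have heq : (V ⊔ Subgroup.zpowers a) ⊔ Subgroup.zpowers b = X :=
        Subgroup.eq_of_le_of_card_ge hK2X (by omega)
      refine ⟨a, haX, b, hbX, fun K hVK haK hbK' => ?_⟩
      rw [← heq]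
      exact sup_le (sup_le hVK (Subgroup.zpowers_le.mpr haK)) (Subgroup.zpowers_le.mpr hbK')

open Cfsg.Agent.Helper19.QuadComm in
/-- If `card X ≤ 16` then `X = ⟨a, b⟩ V` for some `a b` (`X/V` elementary abelian of order `≤ 4`),
`V` central, so `⁅X,X⁆` is generated by `a b a⁻¹ b⁻¹`, which has order `≤ 2` (it lies in `V`). -/
theorem card_commutator_le [Finite G] {X V : Subgroup G} (hQ : Quad X V)
    (hcard : Nat.card ↥X ≤ 16) : Nat.card ↥(⁅X, X⁆) ≤ 2 := by
  have h2 : C2 X V := ng_ecomm_c2 hQ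
  obtain ⟨a, haX, b, hbX, hgen⟩ := ng_ecomm_gen hQ hcard
  have hcV : a * b * a⁻¹ * b⁻¹ ∈ V := h2.comm a haX b hbX
  -- step 1: commutators with `a` and `b`
  have hone : ∀ y : G, y * y * y⁻¹ * y⁻¹ = 1 := fun y => by group
  have hstep1 : X ≤ h2.S (Subgroup.zpowers (a * b * a⁻¹ * b⁻¹)) a haX ⊓
      h2.S (Subgroup.zpowers (a * b * a⁻¹ * b⁻¹)) b hbX := by
    apply hgen
    · exact le_inf (h2.V_le_S _ a haX) (h2.V_le_S _ b hbX)
    · refine ⟨⟨haX, ?_⟩, ⟨haX, Subgroup.mem_zpowers _⟩⟩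
      rw [hone a]
      exact Subgroup.one_mem _
    · refine ⟨⟨hbX, ?_⟩, ⟨hbX, ?_⟩⟩
      · rw [comm_swap a b]
        exact Subgroup.inv_mem _ (Subgroup.mem_zpowers _)
      · rw [hone b]
        exact Subgroup.one_mem _
  -- step 2: all commutators
  have hstep2 : ∀ (x : G) (hx : x ∈ X), X ≤ h2.S (Subgroup.zpowers (a * b * a⁻¹ * b⁻¹)) x hx := by
    intro x hx
    apply hgen
    · exact h2.V_le_S _ x hx
    · refine ⟨haX, ?_⟩
      rw [comm_swap x a]
      exact Subgroup.inv_mem _ (hstep1 hx).1.2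
    · refine ⟨hbX, ?_⟩
      rw [comm_swap x b]
      exact Subgroup.inv_mem _ (hstep1 hx).2.2
  have hle : ⁅X, X⁆ ≤ Subgroup.zpowers (a * b * a⁻¹ * b⁻¹) := by
    rw [Subgroup.commutator_le]
    intro g₁ hg₁ g₂ hg₂
    exact (hstep2 g₂ hg₂ hg₁).2
  have hc2 : (a * b * a⁻¹ * b⁻¹) ^ 2 = 1 := hQ.vsq _ hcV
  have hord : orderOf (a * b * a⁻¹ * b⁻¹) ≤ 2 :=
    Nat.le_of_dvd (by norm_num) (orderOf_dvd_of_pow_eq_one hc2)
  calc Nat.card ↥(⁅X, X⁆) ≤ Nat.card ↥(Subgroup.zpowers (a * b * a⁻¹ * b⁻¹)) :=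
        Subgroup.card_le_of_le hle
    _ = orderOf (a * b * a⁻¹ * b⁻¹) := Nat.card_zpowers _
    _ ≤ 2 := hord

end Cfsg.Agent.Helper17.NG
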