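import Mathlib
import Cfsg.Agent.Lib.NG.NGDefs
import Cfsg.Agent.Lib.MB.MBABFIX

/-! S1904 piece NG-FIXQ (helper17 design; see plans/S1904_plan.md).  STUB: overwrite this file,
keeping the statement(s), namespace and imports (you may ADD imports of non-NG library files).
Aux lemmas: fresh names `ng_fixq_...`. -/

set_option autoImplicit false

namespace Cfsg.Agent.Helper17.NG

variable {G : Type*} [Group G]

/-- No `H`-fixed points on abelian quotients of `X`.  In `Q = G ⧸ N`: `X̄ = X.map mk` is an abelian normal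
2-subgroup, `H̄ = H.map mk` has odd order, `⁅X̄, H̄⁆ = X̄` (image of `C.comm`), `x̄ ∈ X̄ ⊓ C(H̄)`.
Coprime action on an abelian group: `⁅X̄,H̄⁆ ⊓ C(H̄) = ⊥`
(`Cfsg.Agent.Helper17.MB.commutator_inf_centralizer_eq_bot` in Lib/MB/MBABFIX or
`Helper1.CoprimeAbelian.commutator_inf_centralizer_eq_bot`).  So `x̄ = 1`. -/
theorem fix_quot [Finite G] {X H : Subgroup G} (C : Ctx X H) {N : Subgroup G} (hN : N.Normal)
    (hNX : N ≤ X) (hab : ⁅X, X⁆ ≤ N) {x : G} (hx : x ∈ X)
    (hfix : ∀ h ∈ H, h * x * h⁻¹ * x⁻¹ ∈ N) : x ∈ N := by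
  haveI := hN
  haveI : Fact (Nat.Prime 2) := ⟨Nat.prime_two⟩
  have hXn : X.Normal := C.normal
  have hsurj : Function.Surjective (QuotientGroup.mk' N) := QuotientGroup.mk'_surjective N
  have hXbn : (X.map (QuotientGroup.mk' N)).Normal := Subgroup.Normal.map hXn _ hsurj
  have hnorm : H.map (QuotientGroup.mk' N) ≤
      Subgroup.normalizer ((X.map (QuotientGroup.mk' N) : Subgroup (G ⧸ N)) : Set (G ⧸ N)) := by
    intro g _
    rw [Subgroup.mem_normalizer_iff]
    intro y
    constructor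
    · intro hy
      exact hXbn.conj_mem y hy g
    · intro hy
      have h1 := hXbn.conj_mem _ hy g⁻¹
      have h2 : g⁻¹ * (g * y * g⁻¹) * g⁻¹⁻¹ = y := by group
      rwa [h2] at h1
  have hcop : (Nat.card ↥(X.map (QuotientGroup.mk' N))).Coprime
      (Nat.card ↥(H.map (QuotientGroup.mk' N))) := by
    obtain ⟨k, hk⟩ := C.two.exists_card_eq
    have h1 : Nat.card ↥(X.map (QuotientGroup.mk' N)) ∣ 2 ^ k := by
      rw [← hk]
      exact Subgroup.card_map_dvd X (QuotientGroup.mk' N)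
    have h2 : Nat.card ↥(H.map (QuotientGroup.mk' N)) ∣ Nat.card ↥H :=
      Subgroup.card_map_dvd H (QuotientGroup.mk' N)
    have h3 : (2 ^ k).Coprime (Nat.card ↥H) :=
      Nat.Coprime.pow_left k C.odd.symm
    exact Nat.Coprime.coprime_dvd_left h1 (Nat.Coprime.coprime_dvd_right h2 h3)
  have hab' : ∀ a ∈ X.map (QuotientGroup.mk' N), ∀ b ∈ X.map (QuotientGroup.mk' N),
      a * b = b * a := by
    rintro _ ⟨a, ha, rfl⟩ _ ⟨b, hb, rfl⟩
    have h1 : a * b * a⁻¹ * b⁻¹ ∈ N := by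
      apply hab
      have := Subgroup.commutator_mem_commutator ha hb
      rwa [commutatorElement_def] at this
    have h2 : (QuotientGroup.mk' N) (a * b * a⁻¹ * b⁻¹) = 1 :=
      (QuotientGroup.eq_one_iff _).mpr h1
    rw [map_mul, map_mul, map_mul, map_inv, map_inv] at h2
    have h3 := mul_inv_eq_one.mp h2
    have h4 := mul_inv_eq_iff_eq_mul.mp h3
    exact h4
  have hbot := Cfsg.Agent.Helper17.MB.commutator_inf_centralizer_eq_bot
    (X.map (QuotientGroup.mk' N)) (H.map (QuotientGroup.mk' N)) hnorm hcop hab'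
  have hmem : (QuotientGroup.mk' N) x ∈
      ⁅X.map (QuotientGroup.mk' N), H.map (QuotientGroup.mk' N)⁆ ⊓
        Subgroup.centralizer ((H.map (QuotientGroup.mk' N) : Subgroup (G ⧸ N)) : Set (G ⧸ N)) := by
    rw [Subgroup.mem_inf]
    refine ⟨?_, ?_⟩
    · rw [← Subgroup.map_commutator]
      exact Subgroup.mem_map_of_mem _ (C.comm hx)
    · rw [Subgroup.mem_centralizer_iff]
      rintro _ ⟨h, hh, rfl⟩
      have h2 : (QuotientGroup.mk' N) (h * x * h⁻¹ * x⁻¹) = 1 :=
        (QuotientGroup.eq_one_iff _).mpr (hfix h hh)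
      rw [map_mul, map_mul, map_mul, map_inv, map_inv] at h2
      have h3 := mul_inv_eq_one.mp h2
      have h4 := mul_inv_eq_iff_eq_mul.mp h3
      exact h4
  rw [hbot, Subgroup.mem_bot] at hmem
  exact (QuotientGroup.eq_one_iff x).mp hmem

end Cfsg.Agent.Helper17.NG
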