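import Mathlib
import Cfsg.Agent.Lib.NG.NGDefs
import Cfsg.Agent.Lib.Helper7.Coprime

/-! S1904 piece NG-HCENT (helper17 design; see plans/S1904_plan.md). -/

set_option autoImplicit false

namespace Cfsg.Agent.Helper17.NG

variable {G : Type*} [Group G]

/-- the inductive step: elements of `B` of order dividing `2^k` are centralised by `H` -/
theorem ng_hcent_aux [Finite G] {H B : Subgroup G} (hodd : (Nat.card ↥H).Coprime 2)
    (hBc : ∀ x ∈ B, ∀ y ∈ B, x * y = y * x)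
    (hHB : H ≤ Subgroup.normalizer (B : Set G))
    (hinv : ∀ b ∈ B, b ^ 2 = 1 → ∀ h ∈ H, h * b * h⁻¹ = b) :
    ∀ k : ℕ, ∀ b ∈ B, b ^ (2 ^ k) = 1 → ∀ h ∈ H, h * b * h⁻¹ = b := by
  intro k
  induction k with
  | zero =>
    intro b _ hb1 h _
    rw [pow_zero, pow_one] at hb1
    rw [hb1, mul_one, mul_inv_cancel]
  | succ k ih =>
    intro b hb hbk h hh
    have hb2 : b ^ 2 ∈ B := B.pow_mem hb 2
    have hb2k : (b ^ 2) ^ (2 ^ k) = 1 := by
      rw [← pow_mul, ← pow_succ']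
      exact hbk
    have h1 : h * b ^ 2 * h⁻¹ = b ^ 2 := ih (b ^ 2) hb2 hb2k h hh
    have hcb : h * b * h⁻¹ ∈ B := by
      have h2 := hHB hh
      rw [Subgroup.mem_normalizer_iff] at h2
      exact (h2 b).mp hb
    have hc : b⁻¹ * (h * b * h⁻¹) ∈ B := B.mul_mem (B.inv_mem hb) hcb
    have hc2 : (b⁻¹ * (h * b * h⁻¹)) ^ 2 = 1 := by
      have h3 : (h * b * h⁻¹) * b⁻¹ = b⁻¹ * (h * b * h⁻¹) := hBc _ hcb _ (B.inv_mem hb)
      have h4 : (h * b * h⁻¹) * (h * b * h⁻¹) = b ^ 2 := by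
        rw [← h1, pow_two]
        group
      calc (b⁻¹ * (h * b * h⁻¹)) ^ 2
          = b⁻¹ * ((h * b * h⁻¹) * b⁻¹) * (h * b * h⁻¹) := by rw [pow_two]; group
        _ = b⁻¹ * (b⁻¹ * (h * b * h⁻¹)) * (h * b * h⁻¹) := by rw [h3]
        _ = b⁻¹ * b⁻¹ * ((h * b * h⁻¹) * (h * b * h⁻¹)) := by group
        _ = 1 := by rw [h4, pow_two]; group
    have hza := hinv _ hc hc2 h hh
    have hoh : orderOf h ∣ Nat.card ↥H := Subgroup.orderOf_dvd_natCard H hh
    have hoc : orderOf (b⁻¹ * (h * b * h⁻¹)) ∣ 2 := orderOf_dvd_of_pow_eq_one hc2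
    have hcop : (orderOf h).Coprime (orderOf (b⁻¹ * (h * b * h⁻¹))) :=
      Nat.Coprime.coprime_dvd_left hoh (Nat.Coprime.coprime_dvd_right hoc hodd)
    exact Cfsg.Agent.Helper7.conj_eq_self_of_coprime h b (isOfFinOrder_of_finite h) hza hcop

/-- An odd-order group acting on an abelian 2-group and centralising its involutions centralises it.
Induction on `k` with `b^(2^k) = 1`: `c := h b h⁻¹ b⁻¹ ∈ B`, `c^2 = h b^2 h⁻¹ b⁻² = 1` by induction
(`B` abelian), so `h c h⁻¹ = c`, `h^j b h^-j = c^j b` (`Helper7.conj_pow_eq_mul_pow` in Lib/Helper7/Coprime),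
with `j = orderOf h` odd: `c^j = 1`, `c^2 = 1`, so `c = 1`. -/
theorem H_centralizes_of_inv [Finite G] {H B : Subgroup G} (hodd : (Nat.card ↥H).Coprime 2)
    (hB2 : IsPGroup 2 ↥B) (hBc : IsMulCommutative ↥B)
    (hHB : H ≤ Subgroup.normalizer (B : Set G))
    (hinv : ∀ b ∈ B, b ^ 2 = 1 → ∀ h ∈ H, h * b * h⁻¹ = b) :
    H ≤ Subgroup.centralizer (B : Set G) := by
  have hBc' : ∀ x ∈ B, ∀ y ∈ B, x * y = y * x := by
    intro x hx y hy
    have h1 := (isMulCommutative_iff.mp hBc) ⟨x, hx⟩ ⟨y, hy⟩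
    exact congrArg Subtype.val h1
  intro h hh
  rw [Subgroup.mem_centralizer_iff]
  intro b hb
  obtain ⟨k, hk⟩ := hB2 ⟨b, hb⟩
  have hk' : b ^ (2 ^ k) = 1 := by
    have h1 := congrArg Subtype.val hk
    rw [Subgroup.coe_pow, Subgroup.coe_one] at h1
    exact h1
  have h2 := ng_hcent_aux hodd hBc' hHB hinv k b hb hk' h hh
  have h3 : h * b = b * h := mul_inv_eq_iff_eq_mul.mp h2
  exact h3.symm

end Cfsg.Agent.Helper17.NG
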