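import Mathlib
import Cfsg.Agent.Lib.NG.NGDefs
import Cfsg.Agent.Lib.NG.NGEODD

/-! S1904 piece NG-I16 (helper17 design; see plans/S1904_plan.md).  STUB: overwrite this file,
keeping the statement(s), namespace and imports (you may ADD imports of non-NG library files).
Aux lemmas: fresh names `ng_i16_...`. -/

set_option autoImplicit false

namespace Cfsg.Agent.Helper17.NG

variable {G : Type*} [Group G]

/-- a group `Z` of order 2 is `zpowers z` for an involution `z` -/
theorem ng_i16_gen [Finite G] {Z : Subgroup G} (h2 : Nat.card ↥Z = 2) :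
    ∃ z ∈ Z, z ≠ 1 ∧ z ^ 2 = 1 ∧ Subgroup.zpowers z = Z := by
  have h1 : 1 < Nat.card ↥Z := by rw [h2]; norm_num
  have : Nontrivial ↥Z := (Finite.one_lt_card_iff_nontrivial).mp h1
  obtain ⟨x, hx⟩ := exists_ne (1 : ↥Z)
  have hz1 : (x : G) ≠ 1 := fun h => hx (Subtype.ext h)
  have hz2 : (x : G) ^ 2 = 1 := by
    have h3 : x ^ Nat.card ↥Z = 1 := pow_card_eq_one'
    rw [h2] at h3
    have := congrArg Subtype.val h3
    simpa using this
  refine ⟨x, x.2, hz1, hz2, ?_⟩
  apply Subgroup.eq_of_le_of_card_ge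
  · rw [Subgroup.zpowers_le]
    exact x.2
  · rw [h2, Nat.card_zpowers, orderOf_eq_prime hz2 hz1]

/-- `card X ≠ 16`: else `K := ↥X` has `card K = 2^(3+1)`, `c` = generator of `Z`, and `odd_rank`
(`n = 3`) gives a central element outside `Z = ZS X`. -/
theorem ces_card_ne_16 [Finite G] {X H Z : Subgroup G} (C : Ctx X H) (hZ : CES X Z) :
    Nat.card ↥X ≠ 16 := by
  intro h16
  obtain ⟨z, hzZ, hz1, hz2, hgen⟩ := ng_i16_gen hZ.card
  have hZS : ∀ g : G, g ∈ Z ↔ g ∈ X ∧ g ∈ Subgroup.centralizer (X : Set G) := by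
    intro g
    rw [← hZ.center]
    exact Subgroup.mem_inf
  have hzX : z ∈ X := ((hZS z).mp hzZ).1
  -- membership in `zpowers` of the subtype element
  have hmem : ∀ g : ↥X, g ∈ Subgroup.zpowers (⟨z, hzX⟩ : ↥X) ↔ (g : G) ∈ Z := by
    intro g
    rw [← hgen, Subgroup.mem_zpowers_iff, Subgroup.mem_zpowers_iff]
    constructor
    · rintro ⟨k, hk⟩
      refine ⟨k, ?_⟩
      have := congrArg Subtype.val hk
      simpa using this
    · rintro ⟨k, hk⟩
      refine ⟨k, ?_⟩
      apply Subtype.ext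
      simpa using hk
  have hc : (⟨z, hzX⟩ : ↥X) ∈ Subgroup.center ↥X := by
    rw [Subgroup.mem_center_iff]
    intro g
    apply Subtype.ext
    show (g : G) * z = z * (g : G)
    have := ((hZS z).mp hzZ).2
    rw [Subgroup.mem_centralizer_iff] at this
    exact this g g.2
  have hc1 : (⟨z, hzX⟩ : ↥X) ≠ 1 := fun h => hz1 (congrArg Subtype.val h)
  have hc2 : (⟨z, hzX⟩ : ↥X) ^ 2 = 1 := Subtype.ext (by simpa using hz2)
  have hsq : ∀ g : ↥X, g ^ 2 ∈ Subgroup.zpowers (⟨z, hzX⟩ : ↥X) := by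
    intro g
    rw [hmem]
    have := hZ.sq g g.2
    simpa using this
  have hcomm : ∀ g h : ↥X, g * h * g⁻¹ * h⁻¹ ∈ Subgroup.zpowers (⟨z, hzX⟩ : ↥X) := by
    intro g h
    rw [hmem, ← hZ.comm]
    have := Subgroup.commutator_mem_commutator g.2 h.2
    rw [commutatorElement_def] at this
    simpa using this
  obtain ⟨r, hr, hrn⟩ := odd_rank (⟨z, hzX⟩ : ↥X) hc hc1 hc2 hsq hcomm 3 (by decide)
    (by rw [h16]; norm_num)
  apply hrn
  rw [hmem, hZS]
  refine ⟨r.2, ?_⟩
  rw [Subgroup.mem_centralizer_iff]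
  intro g hg
  rw [Subgroup.mem_center_iff] at hr
  have := hr ⟨g, hg⟩
  exact congrArg Subtype.val this

end Cfsg.Agent.Helper17.NG
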