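import Mathlib
import Cfsg.Agent.Lib.NG.NGDefs
import Cfsg.Agent.Lib.NG.NGTHREE

/-! S1904 piece NG-IE8 (helper17 design; see plans/S1904_plan.md). -/

set_option autoImplicit false

namespace Cfsg.Agent.Helper17.NG

variable {G : Type*} [Group G]

/-- a subgroup with more elements than a list has an element outside the list -/
theorem ng_ie8_avoid [Finite G] (Y : Subgroup G) (l : List G) (h : l.length < Nat.card ↥Y) :
    ∃ y ∈ Y, y ∉ l := by
  classical
  by_contra hne
  push_neg at hne
  have h1 : (Y : Set G) ⊆ ↑l.toFinset := by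
    intro y hy
    rw [Finset.mem_coe, List.mem_toFinset]
    exact hne y hy
  have h2 : (Y : Set G).ncard ≤ (↑l.toFinset : Set G).ncard :=
    Set.ncard_le_ncard h1 (Finset.finite_toSet _)
  rw [Set.ncard_coe_finset] at h2
  have h3 := List.toFinset_card_le l
  have h4 : Nat.card ↥Y = (Y : Set G).ncard := Nat.card_coe_set_eq (Y : Set G)
  omega

/-- a list of distinct elements of a subgroup is no longer than the subgroup is big -/
theorem ng_ie8_card_ge [Finite G] (Y : Subgroup G) (l : List G) (hl : l.Nodup)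
    (h : ∀ x ∈ l, x ∈ Y) : l.length ≤ Nat.card ↥Y := by
  classical
  have h1 : (↑l.toFinset : Set G) ⊆ (Y : Set G) := by
    intro y hy
    rw [Finset.mem_coe, List.mem_toFinset] at hy
    exact h y hy
  have h2 : (↑l.toFinset : Set G).ncard ≤ (Y : Set G).ncard :=
    Set.ncard_le_ncard h1 (Set.toFinite _)
  rw [Set.ncard_coe_finset, List.toFinset_card_of_nodup hl] at h2
  have h4 : Nat.card ↥Y = (Y : Set G).ncard := Nat.card_coe_set_eq (Y : Set G)
  omega

/-- three elements of `Y`, none of whose seven products lies in the list `l` -/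
theorem ng_ie8_pick [Finite G] (Y : Subgroup G) (l : List G) (h : 4 * l.length < Nat.card ↥Y) :
    ∃ a ∈ Y, ∃ b ∈ Y, ∃ c ∈ Y, a ∉ l ∧ b ∉ l ∧ c ∉ l ∧ a * b ∉ l ∧ a * c ∉ l ∧ b * c ∉ l ∧
      a * b * c ∉ l := by
  obtain ⟨a, haY, ha⟩ := ng_ie8_avoid Y l (by omega)
  obtain ⟨b, hbY, hb⟩ := ng_ie8_avoid Y (l ++ l.map (fun d => a⁻¹ * d)) (by
    rw [List.length_append, List.length_map]; omega)
  obtain ⟨c, hcY, hc⟩ := ng_ie8_avoid Y (l ++ l.map (fun d => a⁻¹ * d) ++
    l.map (fun d => b⁻¹ * d) ++ l.map (fun d => (a * b)⁻¹ * d)) (by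
    simp only [List.length_append, List.length_map]; omega)
  simp only [List.mem_append, List.mem_map, not_or, not_exists, not_and] at hb hc
  refine ⟨a, haY, b, hbY, c, hcY, ha, hb.1, hc.1.1.1, ?_, ?_, ?_, ?_⟩
  · intro hab
    exact hb.2 (a * b) hab (by group)
  · intro hac
    exact hc.1.1.2 (a * c) hac (by group)
  · intro hbc
    exact hc.1.2 (b * c) hbc (by group)
  · intro habc
    exact hc.2 (a * b * c) habc (by group)

/-- the generator of `Z` -/
theorem ng_ie8_basic [Finite G] {X Z : Subgroup G} (hZ : CES X Z) :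
    ∃ z : G, z ∈ Z ∧ z ≠ 1 ∧ (∀ y ∈ Z, y = 1 ∨ y = z) ∧ z ^ 2 = 1 ∧ z ∈ X ∧
      ∀ x ∈ X, x * z = z * x := by
  have hcard := hZ.card
  obtain ⟨⟨z, hzZ⟩, hz1, hzu⟩ := (Nat.card_eq_two_iff' (1 : ↥Z)).mp hcard
  have hz1' : z ≠ 1 := by
    intro h
    apply hz1
    exact Subtype.ext h
  have hall : ∀ y ∈ Z, y = 1 ∨ y = z := by
    intro y hy
    by_cases h1 : y = 1
    · exact Or.inl h1
    · right
      have h2 : (⟨y, hy⟩ : ↥Z) ≠ 1 := by
        intro h
        exact h1 (congrArg Subtype.val h)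
      exact congrArg Subtype.val (hzu ⟨y, hy⟩ h2)
  have hz2 : z ^ 2 = 1 := by
    have h1 : (⟨z, hzZ⟩ : ↥Z) ^ Nat.card ↥Z = 1 := pow_card_eq_one'
    rw [hcard] at h1
    have h2 := congrArg Subtype.val h1
    rw [Subgroup.coe_pow, Subgroup.coe_one] at h2
    exact h2
  have hzS : z ∈ ZS X := by
    rw [hZ.center]
    exact hzZ
  obtain ⟨hzX, hzC⟩ := hzS
  have hzC' : z ∈ Subgroup.centralizer (X : Set G) := hzC
  rw [Subgroup.mem_centralizer_iff] at hzC'
  exact ⟨z, hzZ, hz1', hall, hz2, hzX, fun x hx => hzC' x hx⟩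

/-- an involution of `Y` outside the list `l` -/
theorem ng_ie8_pick_inv [Finite G] {X Z : Subgroup G} (hZ : CES X Z) (Y : Subgroup G)
    (hYX : Y ≤ X) (l : List G) (h : 4 * l.length < Nat.card ↥Y) :
    ∃ w ∈ Y, w ∉ l ∧ w ^ 2 = 1 := by
  obtain ⟨z, hzZ, hz1, hZz, hz2, hzX, hzc⟩ := ng_ie8_basic hZ
  obtain ⟨a, haY, b, hbY, c, hcY, ha, hb, hc, hab, hac, hbc, habc⟩ := ng_ie8_pick Y l h
  have hZC : Z ≤ Subgroup.centralizer (X : Set G) := by
    rw [← hZ.center]
    exact inf_le_right
  have hcomm : ∀ x ∈ X, ∀ y ∈ X, x * y * x⁻¹ * y⁻¹ ∈ Subgroup.centralizer (X : Set G) := by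
    intro x hx y hy
    apply hZC
    rw [← hZ.comm, ← commutatorElement_def]
    exact Subgroup.commutator_mem_commutator hx hy
  have hsq : ∀ x ∈ X, x ^ 2 ∈ Subgroup.centralizer (X : Set G) :=
    fun x hx => hZC (hZ.sq x hx)
  have h3 := three_sq hcomm hsq (hYX haY) (hYX hbY) (hYX hcY)
  have key : ∀ x ∈ Y, x ^ 2 = 1 ∨ x ^ 2 = z := fun x hx => hZz _ (hZ.sq x (hYX hx))
  by_contra hcon
  push_neg at hcon
  have e1 : a ^ 2 = z := (key a haY).resolve_left (hcon a haY ha)
  have e2 : b ^ 2 = z := (key b hbY).resolve_left (hcon b hbY hb)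
  have e3 : c ^ 2 = z := (key c hcY).resolve_left (hcon c hcY hc)
  have e4 : (a * b) ^ 2 = z :=
    (key _ (Y.mul_mem haY hbY)).resolve_left (hcon _ (Y.mul_mem haY hbY) hab)
  have e5 : (a * c) ^ 2 = z :=
    (key _ (Y.mul_mem haY hcY)).resolve_left (hcon _ (Y.mul_mem haY hcY) hac)
  have e6 : (b * c) ^ 2 = z :=
    (key _ (Y.mul_mem hbY hcY)).resolve_left (hcon _ (Y.mul_mem hbY hcY) hbc)
  have e7 : (a * b * c) ^ 2 = z :=
    (key _ (Y.mul_mem (Y.mul_mem haY hbY) hcY)).resolve_left
      (hcon _ (Y.mul_mem (Y.mul_mem haY hbY) hcY) habc)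
  rw [e1, e2, e3, e4, e5, e6, e7] at h3
  apply hz1
  exact mul_right_cancel (h3.trans (one_mul _).symm)

/-- `card X ≤ 32` for `CES`.  Suppose `card X ≥ 64`.  `X/Z` is elementary abelian (squares and
commutators in `Z`, `card Z = 2`, `Z` central).  (a) there is an involution `u ∈ X \ Z`: pick
`a b c ∈ X` independent modulo `Z`; by `three_sq` one of the seven products has square `1`
(if all seven squares were the generator `z` of `Z`, then
`(abc)^2 * z^3 = z^3`, so `(abc)^2 = 1`).  (b) `Cu := X ⊓ C({u})` has index `≤ 2` (conjugates of `u` lie in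
`Z u`), `card Cu ≥ 32`, `D := Z ⊔ zpowers u` has order 4, so `Cu/D` has order `≥ 8`: pick
`a b c ∈ Cu` independent modulo `D`; again one of the seven products `w` is an involution, `w ∉ D`.
(c) `E := D ⊔ zpowers w` is elementary abelian of order 8, contains `Z = ⁅X,X⁆`, hence is
normalised by `X`; `C.rank` gives `8 ≤ 4`. -/
theorem ces_exists_involution [Finite G] {X Z : Subgroup G} (hZ : CES X Z)
    (h16 : 16 ≤ Nat.card ↥X) : ∃ u ∈ X, u ∉ Z ∧ u ^ 2 = 1 := by
  obtain ⟨z, hzZ, hz1, hZz, hz2, hzX, hzc⟩ := ng_ie8_basic hZ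
  obtain ⟨u, huX, hul, hu2⟩ := ng_ie8_pick_inv hZ X le_rfl [1, z] (by
    simp only [List.length_cons, List.length_nil]; omega)
  refine ⟨u, huX, ?_, hu2⟩
  intro huZ
  apply hul
  simp only [List.mem_cons, List.not_mem_nil, or_false]
  exact hZz u huZ

/-- the centraliser of an element has index at most two -/
theorem ng_ie8_index [Finite G] {X Z : Subgroup G} (hZ : CES X Z) (u : G) (huX : u ∈ X) :
    Nat.card ↥X ≤ 2 * Nat.card ↥(X ⊓ Subgroup.centralizer ({u} : Set G)) := by
  obtain ⟨z, hzZ, hz1, hZz, hz2, hzX, hzc⟩ := ng_ie8_basic hZ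
  have hconj : ∀ x ∈ X, x * u * x⁻¹ = u ∨ x * u * x⁻¹ = z * u := by
    intro x hx
    have h1 : x * u * x⁻¹ * u⁻¹ ∈ Z := by
      rw [← hZ.comm, ← commutatorElement_def]
      exact Subgroup.commutator_mem_commutator hx huX
    rcases hZz _ h1 with h2 | h2
    · left
      exact mul_inv_eq_one.mp h2
    · right
      exact mul_inv_eq_iff_eq_mul.mp h2
  have hmem : ∀ x ∈ X, x * u * x⁻¹ = u → x ∈ X ⊓ Subgroup.centralizer ({u} : Set G) := by
    intro x hx h1
    refine ⟨hx, ?_⟩
    show x ∈ Subgroup.centralizer ({u} : Set G)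
    rw [Subgroup.mem_centralizer_iff]
    intro y hy
    rw [Set.mem_singleton_iff] at hy
    rw [hy]
    exact (mul_inv_eq_iff_eq_mul.mp h1).symm
  by_cases hall : ∀ x ∈ X, x ∈ X ⊓ Subgroup.centralizer ({u} : Set G)
  · have h1 : Nat.card ↥X ≤ Nat.card ↥(X ⊓ Subgroup.centralizer ({u} : Set G)) :=
      Subgroup.card_le_of_le hall
    omega
  · push_neg at hall
    obtain ⟨t, htX, htC⟩ := hall
    have ht : t * u * t⁻¹ = z * u :=
      (hconj t htX).resolve_left (fun h => htC (hmem t htX h))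
    have hsub : (X : Set G) ⊆ ((X ⊓ Subgroup.centralizer ({u} : Set G) : Subgroup G) : Set G) ∪
        (fun y => t * y) '' ((X ⊓ Subgroup.centralizer ({u} : Set G) : Subgroup G) : Set G) := by
      intro x hx
      rcases hconj x hx with h1 | h1
      · left
        exact hmem x hx h1
      · right
        refine ⟨t⁻¹ * x, hmem _ (X.mul_mem (X.inv_mem htX) hx) ?_, by group⟩
        have e : t⁻¹ * x * u * (t⁻¹ * x)⁻¹ = t⁻¹ * (x * u * x⁻¹) * t := by group
        rw [e, h1, ← ht]
        group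
    have h2 := Set.ncard_le_ncard hsub (Set.toFinite _)
    have h3 := Set.ncard_union_le
      ((X ⊓ Subgroup.centralizer ({u} : Set G) : Subgroup G) : Set G)
      ((fun y => t * y) '' ((X ⊓ Subgroup.centralizer ({u} : Set G) : Subgroup G) : Set G))
    have h4 := Set.ncard_image_le (f := fun y => t * y)
      (Set.toFinite ((X ⊓ Subgroup.centralizer ({u} : Set G) : Subgroup G) : Set G))
    have h5 : Nat.card ↥X = (X : Set G).ncard := Nat.card_coe_set_eq (X : Set G)
    have h6 : Nat.card ↥(X ⊓ Subgroup.centralizer ({u} : Set G)) =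
        ((X ⊓ Subgroup.centralizer ({u} : Set G) : Subgroup G) : Set G).ncard :=
      Nat.card_coe_set_eq _
    omega

theorem ces_card_le [Finite G] {X H Z : Subgroup G} (C : Ctx X H) (hZ : CES X Z) :
    Nat.card ↥X ≤ 32 := by
  by_contra hcon
  push_neg at hcon
  have : Fact (Nat.Prime 2) := ⟨Nat.prime_two⟩
  obtain ⟨n, hn⟩ := IsPGroup.iff_card.mp C.two
  have h64 : 64 ≤ Nat.card ↥X := by
    rw [hn] at hcon ⊢
    have h5 : 5 < n := by
      by_contra h5
      push_neg at h5
      have h6 := Nat.pow_le_pow_right (by norm_num : 0 < 2) h5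
      norm_num at h6
      omega
    calc 64 = 2 ^ 6 := by norm_num
      _ ≤ 2 ^ n := Nat.pow_le_pow_right (by norm_num) h5
  obtain ⟨z, hzZ, hz1, hZz, hz2, hzX, hzc⟩ := ng_ie8_basic hZ
  obtain ⟨u, huX, huZ, hu2⟩ := ces_exists_involution hZ (by omega)
  have hidx := ng_ie8_index hZ u huX
  obtain ⟨w, hwC, hwl, hw2⟩ := ng_ie8_pick_inv hZ (X ⊓ Subgroup.centralizer ({u} : Set G))
    inf_le_left [1, z, u, u * z] (by
      simp only [List.length_cons, List.length_nil]; omega)
  have hwX : w ∈ X := hwC.1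
  have hwu : u * w = w * u := by
    have h1 : w ∈ Subgroup.centralizer ({u} : Set G) := hwC.2
    rw [Subgroup.mem_centralizer_iff] at h1
    exact h1 u (Set.mem_singleton u)
  have hzu : u * z = z * u := hzc u huX
  have hzw : w * z = z * w := hzc w hwX
  -- the subgroup `E`
  have h0 : ({z, u, w} : Set G) ⊆ (Subgroup.centralizer ({z, u, w} : Set G) : Set G) := by
    intro s hs
    rw [SetLike.mem_coe, Subgroup.mem_centralizer_iff]
    intro t ht
    simp only [Set.mem_insert_iff, Set.mem_singleton_iff] at hs ht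
    rcases hs with hs | hs | hs <;> rcases ht with ht | ht | ht <;> rw [hs, ht] <;>
      first
        | exact hzu
        | exact hzu.symm
        | exact hzw
        | exact hzw.symm
        | exact hwu
        | exact hwu.symm
  have h1 : Subgroup.closure ({z, u, w} : Set G) ≤ Subgroup.centralizer ({z, u, w} : Set G) :=
    (Subgroup.closure_le _).mpr h0
  have h2 : Subgroup.closure ({z, u, w} : Set G) ≤
      Subgroup.centralizer (Subgroup.closure ({z, u, w} : Set G) : Set G) :=
    le_trans (Subgroup.closure_le_centralizer_centralizer _) (Subgroup.centralizer_le h1)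
  have hEcomm : ∀ x ∈ Subgroup.closure ({z, u, w} : Set G),
      ∀ y ∈ Subgroup.closure ({z, u, w} : Set G), x * y = y * x := by
    intro x hx y hy
    have h3 := h2 hy
    rw [Subgroup.mem_centralizer_iff] at h3
    exact h3 x hx
  have hEexp : ∀ e ∈ Subgroup.closure ({z, u, w} : Set G), e ^ 2 = 1 := by
    intro e he
    induction he using Subgroup.closure_induction with
    | mem x hx =>
      simp only [Set.mem_insert_iff, Set.mem_singleton_iff] at hx
      rcases hx with hx | hx | hx <;> rw [hx]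
      · exact hz2
      · exact hu2
      · exact hw2
    | one => exact one_pow 2
    | mul x y hx hy hx2 hy2 =>
      rw [(show Commute x y from hEcomm x hx y hy).mul_pow, hx2, hy2, one_mul]
    | inv x hx hx2 => rw [inv_pow, hx2, inv_one]
  have hzE : z ∈ Subgroup.closure ({z, u, w} : Set G) :=
    Subgroup.subset_closure (by simp)
  have huE : u ∈ Subgroup.closure ({z, u, w} : Set G) :=
    Subgroup.subset_closure (by simp)
  have hwE : w ∈ Subgroup.closure ({z, u, w} : Set G) :=
    Subgroup.subset_closure (by simp)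
  have hEX : Subgroup.closure ({z, u, w} : Set G) ≤ X := by
    rw [Subgroup.closure_le]
    intro s hs
    simp only [Set.mem_insert_iff, Set.mem_singleton_iff] at hs
    rcases hs with hs | hs | hs <;> rw [hs]
    · exact hzX
    · exact huX
    · exact hwX
  have hZE : Z ≤ Subgroup.closure ({z, u, w} : Set G) := by
    intro y hy
    rcases hZz y hy with h3 | h3 <;> rw [h3]
    · exact Subgroup.one_mem _
    · exact hzE
  have hconjE : ∀ x ∈ X, ∀ e ∈ Subgroup.closure ({z, u, w} : Set G),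
      x * e * x⁻¹ ∈ Subgroup.closure ({z, u, w} : Set G) := by
    intro x hx e he
    have h3 : x * e * x⁻¹ * e⁻¹ ∈ Z := by
      rw [← hZ.comm, ← commutatorElement_def]
      exact Subgroup.commutator_mem_commutator hx (hEX he)
    have h4 : x * e * x⁻¹ = (x * e * x⁻¹ * e⁻¹) * e := by group
    rw [h4]
    exact Subgroup.mul_mem _ (hZE h3) he
  have hnorm : X ≤ Subgroup.normalizer (Subgroup.closure ({z, u, w} : Set G) : Set G) := by
    intro x hx
    rw [Subgroup.mem_normalizer_iff]
    intro e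
    constructor
    · intro he
      exact hconjE x hx e he
    · intro he
      have h3 := hconjE x⁻¹ (X.inv_mem hx) _ he
      have h4 : x⁻¹ * (x * e * x⁻¹) * x⁻¹⁻¹ = e := by group
      rw [h4] at h3
      exact h3
  have hEA : Cfsg.IsElementaryAbelian 2 (Subgroup.closure ({z, u, w} : Set G)) := by
    refine ⟨isMulCommutative_iff.mpr ?_, hEexp⟩
    intro a b
    exact Subtype.ext (hEcomm a.1 a.2 b.1 b.2)
  have hrank := C.rank _ hEX hnorm hEA
  -- five distinct elements
  have hu1 : u ≠ 1 := fun h => huZ (h ▸ Z.one_mem)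
  have huz : u ≠ z := fun h => huZ (h ▸ hzZ)
  simp only [List.mem_cons, List.not_mem_nil, or_false, not_or] at hwl
  obtain ⟨hw1, hwz, hwu', hwuz⟩ := hwl
  have huz1 : u * z ≠ 1 := by
    intro h
    apply huZ
    have h3 : u = z⁻¹ := mul_eq_one_iff_eq_inv.mp h
    rw [h3]
    exact Z.inv_mem hzZ
  have huzz : u * z ≠ z := by
    intro h
    exact hu1 (mul_eq_right.mp h)
  have huzu : u * z ≠ u := by
    intro h
    exact hz1 (mul_eq_left.mp h)
  have hnodup : [1, z, u, u * z, w].Nodup := by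
    simp only [List.nodup_cons, List.mem_cons, List.not_mem_nil, or_false, not_or,
      List.nodup_nil, and_true, not_false_eq_true]
    exact ⟨⟨hz1.symm, hu1.symm, huz1.symm, fun h => hw1 h.symm⟩,
      ⟨huz.symm, huzz.symm, fun h => hwz h.symm⟩,
      ⟨huzu.symm, fun h => hwu' h.symm⟩, fun h => hwuz h.symm⟩
  have hge := ng_ie8_card_ge (Subgroup.closure ({z, u, w} : Set G)) [1, z, u, u * z, w] hnodup (by
    intro x hx
    simp only [List.mem_cons, List.not_mem_nil, or_false] at hx
    rcases hx with hx | hx | hx | hx | hx <;> rw [hx]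
    · exact Subgroup.one_mem _
    · exact hzE
    · exact huE
    · exact Subgroup.mul_mem _ huE hzE
    · exact hwE)
  simp only [List.length_cons, List.length_nil] at hge
  omega

end Cfsg.Agent.Helper17.NG
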