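import Mathlib
import Cfsg.Agent.Lib.NG.NGDefs
import Cfsg.Agent.Lib.NG.NGTHREE
import Cfsg.Agent.Lib.NG.NGIE8

/-! S1904 piece NG-I32 (helper17 design; see plans/S1904_plan.md).  STUB: overwrite this file,
keeping the statement(s), namespace and imports (you may ADD imports of non-NG library files).
Aux lemmas: fresh names `ng_i32_...`. -/

set_option autoImplicit false

namespace Cfsg.Agent.Helper17.NG

variable {G : Type*} [Group G]

/-- a group `Z` of order 2 is `zpowers z` for an involution `z` -/
theorem ng_i32_gen [Finite G] {Z : Subgroup G} (h2 : Nat.card ↥Z = 2) :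
    ∃ z ∈ Z, z ≠ 1 ∧ z ^ 2 = 1 ∧ ∀ g ∈ Z, g = 1 ∨ g = z := by
  have h1 : 1 < Nat.card ↥Z := by rw [h2]; norm_num
  have : Nontrivial ↥Z := (Finite.one_lt_card_iff_nontrivial).mp h1
  obtain ⟨x, hx⟩ := exists_ne (1 : ↥Z)
  have hz1 : (x : G) ≠ 1 := fun h => hx (Subtype.ext h)
  have hz2 : (x : G) ^ 2 = 1 := by
    have h3 : x ^ Nat.card ↥Z = 1 := pow_card_eq_one'
    rw [h2] at h3
    have := congrArg Subtype.val h3
    simpa using this
  refine ⟨x, x.2, hz1, hz2, ?_⟩
  have hgen : Subgroup.zpowers (x : G) = Z := by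
    apply Subgroup.eq_of_le_of_card_ge
    · rw [Subgroup.zpowers_le]
      exact x.2
    · rw [h2, Nat.card_zpowers, orderOf_eq_prime hz2 hz1]
  intro g hg
  rw [← hgen, Subgroup.mem_zpowers_iff] at hg
  obtain ⟨k, rfl⟩ := hg
  rcases Int.even_or_odd' k with ⟨m, hm | hm⟩
  · left
    rw [hm, zpow_mul, zpow_two, ← pow_two, hz2, one_zpow]
  · right
    rw [hm, zpow_add, zpow_one, zpow_mul, zpow_two, ← pow_two, hz2, one_zpow, one_mul]

/-- pairwise commuting involutions `z, u, w` with `w ∉ {1, z, u, z u}`, `z ≠ 1`, `u ∉ {1, z}`,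
inside `X`, with `⁅X, X⁆ ⊆ {1, z}`: contradiction with the rank hypothesis -/
theorem ng_i32_rank [Finite G] {X H : Subgroup G} (C : Ctx X H) {z u w : G}
    (hzX : z ∈ X) (huX : u ∈ X) (hwX : w ∈ X) (hz2 : z ^ 2 = 1) (hu2 : u ^ 2 = 1) (hw2 : w ^ 2 = 1)
    (hzu : z * u = u * z) (hzw : z * w = w * z) (huw : u * w = w * u)
    (hz1 : z ≠ 1) (hu1 : u ≠ 1) (huz : u ≠ z)
    (hw : w ≠ 1 ∧ w ≠ z ∧ w ≠ u ∧ w ≠ z * u)
    (hcomm : ∀ x ∈ X, ∀ y ∈ X, x * y * x⁻¹ * y⁻¹ = 1 ∨ x * y * x⁻¹ * y⁻¹ = z) : False := by
  classical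
  have : Fintype G := Fintype.ofFinite G
  set S : Set G := {z, u, w} with hS
  set E : Subgroup G := Subgroup.closure S with hE
  have hSE : S ⊆ (E : Set G) := Subgroup.subset_closure
  have hzE : z ∈ E := hSE (by simp [hS])
  have huE : u ∈ E := hSE (by simp [hS])
  have hwE : w ∈ E := hSE (by simp [hS])
  -- pairwise commuting generators
  have hSc : ∀ a ∈ S, ∀ b ∈ S, a * b = b * a := by
    intro a ha b hb
    simp only [hS, Set.mem_insert_iff, Set.mem_singleton_iff] at ha hb
    rcases ha with rfl | rfl | rfl <;> rcases hb with rfl | rfl | rfl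
    · rfl
    · exact hzu
    · exact hzw
    · exact hzu.symm
    · rfl
    · exact huw
    · exact hzw.symm
    · exact huw.symm
    · rfl
  -- `E` is commutative
  have hEc1 : ∀ a ∈ S, ∀ b ∈ E, b * a = a * b := by
    intro a ha
    have : E ≤ Subgroup.centralizer ({a} : Set G) := by
      rw [hE, Subgroup.closure_le]
      intro b hb
      rw [SetLike.mem_coe, Subgroup.mem_centralizer_singleton_iff]
      exact hSc b hb a ha
    intro b hb
    have := this hb
    rwa [Subgroup.mem_centralizer_singleton_iff] at this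
  have hEc : ∀ a ∈ E, ∀ b ∈ E, a * b = b * a := by
    intro a ha
    have : E ≤ Subgroup.centralizer ({a} : Set G) := by
      rw [hE, Subgroup.closure_le]
      intro b hb
      rw [SetLike.mem_coe, Subgroup.mem_centralizer_singleton_iff]
      exact (hEc1 b hb a ha).symm
    intro b hb
    have := this hb
    rw [Subgroup.mem_centralizer_singleton_iff] at this
    exact this.symm
  -- exponent two
  have hE2 : ∀ a ∈ E, a ^ 2 = 1 := by
    intro a ha
    induction ha using Subgroup.closure_induction with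
    | mem x hx =>
      simp only [hS, Set.mem_insert_iff, Set.mem_singleton_iff] at hx
      rcases hx with rfl | rfl | rfl
      · exact hz2
      · exact hu2
      · exact hw2
    | one => exact one_pow 2
    | mul x y hx hy hx2 hy2 =>
      have hc : Commute x y := hEc x hx y hy
      rw [hc.mul_pow, hx2, hy2, one_mul]
    | inv x hx hx2 => rw [inv_pow, hx2, inv_one]
  have hEX : E ≤ X := by
    rw [hE, Subgroup.closure_le]
    intro a ha
    simp only [hS, Set.mem_insert_iff, Set.mem_singleton_iff] at ha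
    rcases ha with rfl | rfl | rfl
    · exact hzX
    · exact huX
    · exact hwX
  -- `X` normalises `E`
  have hconj : ∀ x ∈ X, ∀ e ∈ E, x * e * x⁻¹ ∈ E := by
    intro x hx e he
    have h1 : x * e * x⁻¹ = (x * e * x⁻¹ * e⁻¹) * e := by group
    rw [h1]
    rcases hcomm x hx e (hEX he) with h2 | h2
    · rw [h2, one_mul]; exact he
    · rw [h2]; exact E.mul_mem hzE he
  have hXN : X ≤ Subgroup.normalizer (E : Set G) := by
    intro x hx
    rw [Subgroup.mem_normalizer_iff]
    intro e
    constructor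
    · exact hconj x hx e
    · intro h
      have := hconj x⁻¹ (X.inv_mem hx) _ h
      have e2 : x⁻¹ * (x * e * x⁻¹) * x⁻¹⁻¹ = e := by group
      rwa [e2] at this
  have hEA : Cfsg.IsElementaryAbelian 2 E :=
    ⟨⟨⟨fun a b => Subtype.ext (hEc a a.2 b b.2)⟩⟩, hE2⟩
  have hle := C.rank E hEX hXN hEA
  -- five distinct elements of `E`
  have h5 : 5 ≤ Nat.card ↥E := by
    have hsub : ({1, z, u, z * u, w} : Finset G) ⊆ Finset.univ.filter (fun g => g ∈ E) := by
      intro g hg
      simp only [Finset.mem_insert, Finset.mem_singleton] at hg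
      rw [Finset.mem_filter]
      refine ⟨Finset.mem_univ _, ?_⟩
      rcases hg with rfl | rfl | rfl | rfl | rfl
      · exact E.one_mem
      · exact hzE
      · exact huE
      · exact E.mul_mem hzE huE
      · exact hwE
    have hcard : ({1, z, u, z * u, w} : Finset G).card = 5 := by
      have hzu1 : z * u ≠ 1 := by
        intro h
        apply huz
        have : u = z⁻¹ := eq_inv_of_mul_eq_one_right h
        rw [this]
        exact inv_eq_of_mul_eq_one_left (by rw [← pow_two]; exact hz2)
      have hzuz : z * u ≠ z := by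
        intro h
        exact hu1 (mul_left_cancel (h.trans (mul_one z).symm))
      have hzuu : z * u ≠ u := by
        intro h
        exact hz1 (mul_right_cancel (h.trans (one_mul u).symm))
      rw [Finset.card_insert_of_notMem, Finset.card_insert_of_notMem,
        Finset.card_insert_of_notMem, Finset.card_insert_of_notMem, Finset.card_singleton]
      · simp only [Finset.mem_singleton]
        exact fun h => hw.2.2.2 h.symm
      · simp only [Finset.mem_insert, Finset.mem_singleton, not_or]
        exact ⟨fun h => hzuu h.symm, fun h => hw.2.2.1 h.symm⟩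
      · simp only [Finset.mem_insert, Finset.mem_singleton, not_or]
        exact ⟨fun h => huz h.symm, fun h => hzuz h.symm, fun h => hw.2.1 h.symm⟩
      · simp only [Finset.mem_insert, Finset.mem_singleton, not_or]
        exact ⟨fun h => hz1 h.symm, fun h => hu1 h.symm, fun h => hzu1 h.symm,
          fun h => hw.1 h.symm⟩
    have h1 := Finset.card_le_card hsub
    rw [hcard] at h1
    rw [Nat.card_eq_fintype_card, Fintype.card_subtype]
    exact h1
  omega

open scoped commutatorElement in
/-- `card X = 32` gives exactly 11 involutions.  (a) as in `ces_card_le` (a) there is an involution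
`u ∈ X \ Z` (`card (X/Z) = 16 ≥ 8`).  (b) `Cu := X ⊓ C({u})` has index exactly 2 (`u ∉ ZS X = Z`;
conjugates in `Z u`), `card Cu = 16`; every involution `w` of `Cu` lies in `D := Z ⊔ zpowers u` (else
`D ⊔ zpowers w` is a normal elementary abelian subgroup of order 8, against `C.rank`): `Cu` has exactly the
3 involutions `z, u, u z`.  (c) for `x ∈ X \ Cu`: `x u x⁻¹ = z u`, and `(x u)^2 = x^2 * z` (compute:
`x u x u = x^2 (x⁻¹ u x) u = x^2 z u u`), `x^2 ∈ Z = {1, z}`: exactly one of `x`, `x u` is an
involution; `x ↦ x u` is a fixed-point-free involution of the 16-element set `X \ Cu`: 8 involutions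
there.  Total `3 + 8 = 11`.  (`orderOf x = 2 ↔ x^2 = 1 ∧ x ≠ 1`.) -/
theorem ces_32 [Finite G] {X H Z : Subgroup G} (C : Ctx X H) (hZ : CES X Z)
    (h32 : Nat.card ↥X = 32) : Nat.card {x : ↥X // orderOf x = 2} = 11 := by
  classical
  have : Fintype G := Fintype.ofFinite G
  obtain ⟨z, hzZ, hz1, hz2, hZall⟩ := ng_i32_gen hZ.card
  have hzinv : z⁻¹ = z := inv_eq_of_mul_eq_one_left (by rw [← pow_two]; exact hz2)
  have hzz : z * z = 1 := by rw [← pow_two]; exact hz2
  -- `z ∈ X`, central
  have hzZS : z ∈ ZS X := by rw [hZ.center]; exact hzZ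
  have hzX : z ∈ X := hzZS.1
  have hzc : ∀ x ∈ X, x * z = z * x := by
    intro x hx
    have : z ∈ Subgroup.centralizer (X : Set G) := hzZS.2
    rw [Subgroup.mem_centralizer_iff] at this
    exact this x hx
  -- commutators and squares
  have hcomm : ∀ x ∈ X, ∀ y ∈ X, x * y * x⁻¹ * y⁻¹ = 1 ∨ x * y * x⁻¹ * y⁻¹ = z := by
    intro x hx y hy
    have : ⁅x, y⁆ ∈ ⁅X, X⁆ := Subgroup.commutator_mem_commutator hx hy
    rw [hZ.comm, commutatorElement_def] at this
    exact hZall _ this
  have hsq : ∀ x ∈ X, x ^ 2 = 1 ∨ x ^ 2 = z := fun x hx => hZall _ (hZ.sq x hx)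
  obtain ⟨u, huX, huZ, hu2⟩ := ces_exists_involution hZ (by rw [h32]; norm_num)
  have huu : u * u = 1 := by rw [← pow_two]; exact hu2
  have hu1 : u ≠ 1 := fun h => huZ (h ▸ Z.one_mem)
  have huz : u ≠ z := fun h => huZ (h ▸ hzZ)
  have hzu : z * u = u * z := (hzc u huX).symm
  -- dichotomy
  have hdich : ∀ x ∈ X, x * u = u * x ∨ x * u = z * u * x := by
    intro x hx
    have h0 : x * u = (x * u * x⁻¹ * u⁻¹) * (u * x) := by group
    rcases hcomm x hx u huX with h | h
    · left
      rw [h0, h, one_mul]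
    · right
      rw [h0, h, mul_assoc]
  have hnc : ∀ x ∈ X, x * u ≠ u * x → x * u = z * u * x := by
    intro x hx hne
    rcases hdich x hx with h | h
    · exact absurd h hne
    · exact h
  -- `x₀`
  have hx0 : ∃ x₀ ∈ X, x₀ * u ≠ u * x₀ := by
    by_contra hcon
    push Not at hcon
    apply huZ
    rw [← hZ.center]
    refine ⟨huX, ?_⟩
    show u ∈ Subgroup.centralizer (X : Set G)
    rw [Subgroup.mem_centralizer_iff]
    intro x hx
    exact hcon x hx
  obtain ⟨x₀, hx₀X, hx₀u⟩ := hx0
  have hx₀z : x₀ * u = z * u * x₀ := hnc x₀ hx₀X hx₀u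
  -- the finsets
  set FX : Finset G := Finset.univ.filter (fun g : G => g ∈ X) with hFX
  have hmemFX : ∀ g, g ∈ FX ↔ g ∈ X := by
    intro g
    simp [hFX]
  have hFXcard : FX.card = 32 := by
    rw [← h32, Nat.card_eq_fintype_card, Fintype.card_subtype]
  set FA : Finset G := FX.filter (fun g : G => g * u = u * g) with hFA
  set FB : Finset G := FX.filter (fun g : G => ¬ g * u = u * g) with hFB
  have hmemFA : ∀ g, g ∈ FA ↔ g ∈ X ∧ g * u = u * g := by
    intro g
    rw [hFA, Finset.mem_filter, hmemFX]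
  have hmemFB : ∀ g, g ∈ FB ↔ g ∈ X ∧ ¬ g * u = u * g := by
    intro g
    rw [hFB, Finset.mem_filter, hmemFX]
  have hAB : FA.card + FB.card = 32 := by
    rw [← hFXcard, hFA, hFB]
    exact Finset.card_filter_add_card_filter_not _
  have hABeq : FA.card = FB.card := by
    apply Finset.card_nbij' (fun g => x₀ * g) (fun g => x₀⁻¹ * g)
    · intro g hg
      rw [Finset.mem_coe, hmemFA] at hg
      rw [Finset.mem_coe, hmemFB]
      refine ⟨X.mul_mem hx₀X hg.1, ?_⟩
      intro h
      apply hz1
      have h1 : x₀ * g * u = z * (u * (x₀ * g)) := by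
        rw [mul_assoc, hg.2, ← mul_assoc, hx₀z, mul_assoc, mul_assoc]
      rw [h] at h1
      have := mul_right_cancel (a := (1 : G)) (b := u * (x₀ * g)) (c := z) (by rw [one_mul]; exact h1)
      exact this.symm
    · intro g hg
      rw [Finset.mem_coe, hmemFB] at hg
      rw [Finset.mem_coe, hmemFA]
      refine ⟨X.mul_mem (X.inv_mem hx₀X) hg.1, ?_⟩
      have h1 : g * u = z * u * g := hnc g hg.1 hg.2
      have h2 : u * x₀⁻¹ = x₀⁻¹ * (z * u) := by
        have : x₀⁻¹ * (x₀ * u) * x₀⁻¹ = x₀⁻¹ * (z * u * x₀) * x₀⁻¹ := by rw [hx₀z]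
        have e1 : x₀⁻¹ * (x₀ * u) * x₀⁻¹ = u * x₀⁻¹ := by group
        have e2 : x₀⁻¹ * (z * u * x₀) * x₀⁻¹ = x₀⁻¹ * (z * u) := by group
        rw [e1, e2] at this
        exact this
      rw [mul_assoc, h1, ← mul_assoc, ← mul_assoc, ← mul_assoc, mul_assoc x₀⁻¹ z u, ← h2]
    · intro g _
      simp
    · intro g _
      simp
  have hFBcard : FB.card = 16 := by omega
  -- split `FB` by squares
  set IB : Finset G := FB.filter (fun g : G => g ^ 2 = 1) with hIB
  set NB : Finset G := FB.filter (fun g : G => ¬ g ^ 2 = 1) with hNB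
  have hIN : IB.card + NB.card = 16 := by
    rw [← hFBcard, hIB, hNB]
    exact Finset.card_filter_add_card_filter_not _
  -- `(x u)^2 = z x^2` on `FB`
  have hxu2 : ∀ g ∈ X, ¬ g * u = u * g → (g * u) ^ 2 = z * g ^ 2 := by
    intro g hg hne
    have h1 : g * u = z * u * g := hnc g hg hne
    have h2 : u * g = z * (g * u) := by
      rw [h1, ← mul_assoc, ← mul_assoc, hzz, one_mul]
    rw [pow_two, pow_two]
    calc g * u * (g * u) = g * (u * g) * u := by group
      _ = g * (z * (g * u)) * u := by rw [h2]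
      _ = (g * z) * g * (u * u) := by group
      _ = z * (g * g) := by rw [hzc g hg, huu, mul_one, mul_assoc]
  have hFBu : ∀ g, g ∈ FB → g * u ∈ FB := by
    intro g hg
    rw [hmemFB] at hg ⊢
    refine ⟨X.mul_mem hg.1 huX, ?_⟩
    intro h
    apply hg.2
    have : g * u * u = u * g * u := by rw [h, mul_assoc]
    exact mul_right_cancel this
  have hINeq : IB.card = NB.card := by
    apply Finset.card_nbij' (fun g => g * u) (fun g => g * u)
    · intro g hg
      rw [Finset.mem_coe, hIB, Finset.mem_filter] at hg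
      rw [Finset.mem_coe, hNB, Finset.mem_filter]
      refine ⟨hFBu g hg.1, ?_⟩
      have hg' := (hmemFB g).mp hg.1
      rw [hxu2 g hg'.1 hg'.2, hg.2, mul_one]
      exact hz1
    · intro g hg
      rw [Finset.mem_coe, hNB, Finset.mem_filter] at hg
      rw [Finset.mem_coe, hIB, Finset.mem_filter]
      refine ⟨hFBu g hg.1, ?_⟩
      have hg' := (hmemFB g).mp hg.1
      rw [hxu2 g hg'.1 hg'.2]
      rcases hsq g hg'.1 with h | h
      · exact absurd h hg.2
      · rw [h, hzz]
    · intro g _
      simp only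
      rw [mul_assoc, huu, mul_one]
    · intro g _
      simp only
      rw [mul_assoc, huu, mul_one]
  have hIBcard : IB.card = 8 := by omega
  -- the involutions
  set T : Finset G := Finset.univ.filter (fun g : G => g ∈ X ∧ g ^ 2 = 1 ∧ g ≠ 1) with hT
  have hord : ∀ g : G, orderOf g = 2 ↔ g ^ 2 = 1 ∧ g ≠ 1 := fun g => orderOf_eq_prime_iff
  let e : {x : ↥X // orderOf x = 2} ≃ {g : G // g ∈ T} :=
    { toFun := fun x => ⟨x.1.1, by
        rw [hT, Finset.mem_filter]
        refine ⟨Finset.mem_univ _, x.1.2, ?_⟩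
        have := x.2
        rw [← Subgroup.orderOf_coe] at this
        exact (hord _).mp this⟩
      invFun := fun g => ⟨⟨g.1, ((Finset.mem_filter.mp g.2).2).1⟩, by
        rw [← Subgroup.orderOf_coe]
        exact (hord _).mpr (Finset.mem_filter.mp g.2).2.2⟩
      left_inv := fun x => rfl
      right_inv := fun g => rfl }
  rw [Nat.card_congr e, Nat.card_eq_fintype_card, Fintype.card_coe]
  -- `T = {z, u, z u} ∪ IB`
  have hzu1 : z * u ≠ 1 := by
    intro h
    apply huz
    have : u = z⁻¹ := eq_inv_of_mul_eq_one_right h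
    rw [this, hzinv]
  have hzuz : z * u ≠ z := by
    intro h
    exact hu1 (mul_left_cancel (h.trans (mul_one z).symm))
  have hzuu : z * u ≠ u := by
    intro h
    exact hz1 (mul_right_cancel (h.trans (one_mul u).symm))
  have hTeq : T = ({z, u, z * u} : Finset G) ∪ IB := by
    ext g
    rw [hT, Finset.mem_filter, Finset.mem_union, hIB, Finset.mem_filter, hmemFB]
    simp only [Finset.mem_univ, true_and, Finset.mem_insert, Finset.mem_singleton]
    constructor
    · rintro ⟨hgX, hg2, hg1⟩
      by_cases hc : g * u = u * g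
      · left
        by_contra hcon
        push Not at hcon
        have hzg : z * g = g * z := (hzc g hgX).symm
        exact ng_i32_rank C hzX huX hgX hz2 hu2 hg2 hzu hzg hc.symm hz1 hu1 huz
          ⟨hg1, hcon.1, hcon.2.1, hcon.2.2⟩ hcomm
      · right
        exact ⟨⟨hgX, hc⟩, hg2⟩
    · rintro (h | h)
      · rcases h with rfl | rfl | rfl
        · exact ⟨hzX, hz2, hz1⟩
        · exact ⟨huX, hu2, hu1⟩
        · refine ⟨X.mul_mem hzX huX, ?_, hzu1⟩
          have hc : Commute z u := hzu
          rw [hc.mul_pow, hz2, hu2, one_mul]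
      · refine ⟨h.1.1, h.2, ?_⟩
        rintro rfl
        apply h.1.2
        rw [one_mul, mul_one]
  have hdisj : Disjoint ({z, u, z * u} : Finset G) IB := by
    rw [Finset.disjoint_left]
    intro g hg hgIB
    rw [hIB, Finset.mem_filter, hmemFB] at hgIB
    apply hgIB.1.2
    simp only [Finset.mem_insert, Finset.mem_singleton] at hg
    rcases hg with rfl | rfl | rfl
    · exact hzu
    · rfl
    · rw [mul_assoc, huu, mul_one, ← mul_assoc, ← hzu, mul_assoc, huu, mul_one]
  have h3 : ({z, u, z * u} : Finset G).card = 3 := by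
    rw [Finset.card_insert_of_notMem, Finset.card_insert_of_notMem, Finset.card_singleton]
    · simp only [Finset.mem_singleton]
      exact fun h => hzuu h.symm
    · simp only [Finset.mem_insert, Finset.mem_singleton, not_or]
      exact ⟨fun h => huz h.symm, fun h => hzuz h.symm⟩
  rw [hTeq, Finset.card_union_of_disjoint hdisj, h3, hIBcard]

end Cfsg.Agent.Helper17.NG
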