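import Mathlib
import Cfsg.Agent.Lib.NG.NGDefs
import Cfsg.Agent.Lib.NG.NGHCENT
import Cfsg.Agent.Lib.NG.NGCENTH

/-! S1904 piece NG-ICENT (helper17 design; see plans/S1904_plan.md).  STUB: overwrite this file,
keeping the statement(s), namespace and imports (you may ADD imports of non-NG library files).
Aux lemmas: fresh names `ng_icent_...`. -/

set_option autoImplicit false

namespace Cfsg.Agent.Helper17.NG

variable {G : Type*} [Group G]

/-- in a finite cyclic group two elements of order at most `2`, both non-trivial, are equal -/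
theorem ng_icent_inv_unique {A : Type*} [Group A] [Finite A] [IsCyclic A] {b c : A}
    (hb : b ^ 2 = 1) (hc : c ^ 2 = 1) (hb1 : b ≠ 1) (hc1 : c ≠ 1) : c = b := by
  classical
  letI : Fintype A := Fintype.ofFinite A
  by_contra hne
  have h1 := IsCyclic.card_pow_eq_one_le (α := A) (n := 2) (by norm_num)
  have h2 : ({1, b, c} : Finset A) ⊆ Finset.univ.filter (fun a : A => a ^ 2 = 1) := by
    intro x hx
    rw [Finset.mem_filter]
    refine ⟨Finset.mem_univ _, ?_⟩
    rw [Finset.mem_insert, Finset.mem_insert, Finset.mem_singleton] at hx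
    rcases hx with rfl | rfl | rfl
    · exact one_pow 2
    · exact hb
    · exact hc
  have h3 : ({1, b, c} : Finset A).card = 3 :=
    Finset.card_eq_three.mpr ⟨1, b, c, fun h => hb1 h.symm, fun h => hc1 h.symm,
      fun h => hne h.symm, rfl⟩
  have h4 := Finset.card_le_card h2
  rw [h3] at h4
  omega

/-- `Z0 := C0 ⊓ C(C0)` is normal in `G` (`C0` normal), abelian, inside `X`, hence cyclic by `hcyc`.  A cyclic
2-group has at most one involution, which is therefore fixed by every `h ∈ H`
(`h b h⁻¹ ∈ Z0` is again an involution); `H_centralizes_of_inv` gives `H ≤ C(Z0)` and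
`centralizes_of_H` gives `X ≤ C(Z0)`. -/
theorem crit_center_central [Finite G] {X H C0 : Subgroup G} (C : Ctx X H)
    (hcyc : ∀ B : Subgroup G, B ≤ X → B.Normal → IsMulCommutative ↥B → IsCyclic ↥B)
    (hC0X : C0 ≤ X) (hC0 : C0.Normal) :
    H ≤ Subgroup.centralizer ((C0 ⊓ Subgroup.centralizer (C0 : Set G) : Subgroup G) : Set G) ∧
    X ≤ Subgroup.centralizer ((C0 ⊓ Subgroup.centralizer (C0 : Set G) : Subgroup G) : Set G) := by
  haveI := hC0
  haveI : (Subgroup.centralizer (C0 : Set G)).Normal := Subgroup.normal_centralizer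
  set Z0 : Subgroup G := C0 ⊓ Subgroup.centralizer (C0 : Set G) with hZ0
  have hZ0n : Z0.Normal := by rw [hZ0]; infer_instance
  have hZ0X : Z0 ≤ X := fun x hx => hC0X hx.1
  have hZ0c : IsMulCommutative ↥Z0 := by
    rw [isMulCommutative_iff]
    intro x y
    apply Subtype.ext
    have h1 := Subgroup.mem_centralizer_iff.mp x.2.2 (y : G) y.2.1
    rw [Subgroup.coe_mul, Subgroup.coe_mul]
    exact h1.symm
  haveI hZ0cyc : IsCyclic ↥Z0 := hcyc Z0 hZ0X hZ0n hZ0c
  have hZ02 : IsPGroup 2 ↥Z0 := C.two.to_le hZ0X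
  have hHn : H ≤ Subgroup.normalizer (Z0 : Set G) := by
    intro h _
    rw [Subgroup.mem_normalizer_iff]
    intro y
    constructor
    · intro hy
      exact hZ0n.conj_mem y hy h
    · intro hy
      have h1 := hZ0n.conj_mem _ hy h⁻¹
      have h2 : h⁻¹ * (h * y * h⁻¹) * h⁻¹⁻¹ = y := by group
      rwa [h2] at h1
  have hinv : ∀ b ∈ Z0, b ^ 2 = 1 → ∀ h ∈ H, h * b * h⁻¹ = b := by
    intro b hb hb2 h _
    by_cases hb1 : b = 1
    · rw [hb1, mul_one, mul_inv_cancel]
    · have hcb : h * b * h⁻¹ ∈ Z0 := hZ0n.conj_mem b hb h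
      have hc2 : (h * b * h⁻¹) ^ 2 = 1 := by
        rw [pow_two]
        calc h * b * h⁻¹ * (h * b * h⁻¹) = h * (b * b) * h⁻¹ := by group
          _ = 1 := by rw [← pow_two, hb2, mul_one, mul_inv_cancel]
      have hc1 : h * b * h⁻¹ ≠ 1 := by
        intro h1
        apply hb1
        have : b = h⁻¹ * (h * b * h⁻¹) * h := by group
        rw [this, h1, mul_one, inv_mul_cancel]
      have h5 := ng_icent_inv_unique (A := ↥Z0) (b := ⟨b, hb⟩) (c := ⟨h * b * h⁻¹, hcb⟩)
        (by apply Subtype.ext; exact hb2) (by apply Subtype.ext; exact hc2)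
        (by intro h6; exact hb1 (congrArg Subtype.val h6))
        (by intro h6; exact hc1 (congrArg Subtype.val h6))
      exact congrArg Subtype.val h5
  have hH : H ≤ Subgroup.centralizer (Z0 : Set G) :=
    H_centralizes_of_inv C.odd hZ02 hZ0c hHn hinv
  exact ⟨hH, centralizes_of_H C hZ0n hH⟩

end Cfsg.Agent.Helper17.NG
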