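import Mathlib
import Cfsg.Agent.Lib.NG.NGDefs

/-! S1904 piece NG-OMSQ (helper17 design; see plans/S1904_plan.md).  STUB: overwrite this file,
keeping the statement(s), namespace and imports (you may ADD imports of non-NG library files).
Aux lemmas: fresh names `ng_omsq_...`. -/

set_option autoImplicit false

namespace Cfsg.Agent.Helper17.NG

variable {G : Type*} [Group G]

/-- elements of a commutative subgroup commute in `G` -/
theorem ng_omsq_comm {B : Subgroup G} (hB : IsMulCommutative ↥B) {x y : G} (hx : x ∈ B)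
    (hy : y ∈ B) : x * y = y * x :=
  congrArg Subtype.val (hB.is_comm.comm ⟨x, hx⟩ ⟨y, hy⟩)

/-- the `n`-torsion of a commutative subgroup, as a subgroup -/
def ng_omsq_tors (B : Subgroup G) (hB : IsMulCommutative ↥B) (n : ℕ) : Subgroup G where
  carrier := {b | b ∈ B ∧ b ^ n = 1}
  one_mem' := ⟨B.one_mem, one_pow n⟩
  mul_mem' := by
    rintro a b ⟨ha, ha'⟩ ⟨hb, hb'⟩
    refine ⟨B.mul_mem ha hb, ?_⟩
    have hc : Commute a b := ng_omsq_comm hB ha hb
    rw [hc.mul_pow, ha', hb', one_mul]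
  inv_mem' := by
    rintro a ⟨ha, ha'⟩
    exact ⟨B.inv_mem ha, by rw [inv_pow, ha', inv_one]⟩

/-- the squares of a commutative subgroup, as a subgroup -/
def ng_omsq_sqs (B : Subgroup G) (hB : IsMulCommutative ↥B) : Subgroup G where
  carrier := {g | ∃ b ∈ B, g = b ^ 2}
  one_mem' := ⟨1, B.one_mem, (one_pow 2).symm⟩
  mul_mem' := by
    rintro _ _ ⟨a, ha, rfl⟩ ⟨b, hb, rfl⟩
    refine ⟨a * b, B.mul_mem ha hb, ?_⟩
    have hc : Commute a b := ng_omsq_comm hB ha hb
    rw [hc.mul_pow]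
  inv_mem' := by
    rintro _ ⟨a, ha, rfl⟩
    exact ⟨a⁻¹, B.inv_mem ha, by rw [inv_pow]⟩

/-- basic facts on `Om`, `Om2`, `Sq` of an abelian subgroup. -/
theorem mem_Om {B : Subgroup G} (hB : IsMulCommutative ↥B) {b : G} :
    b ∈ Om B ↔ b ∈ B ∧ b ^ 2 = 1 := by
  constructor
  · intro h
    have hle : Om B ≤ ng_omsq_tors B hB 2 := by
      unfold Om
      rw [Subgroup.closure_le]
      intro x hx
      exact hx
    exact hle h
  · intro h
    exact Subgroup.subset_closure h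

theorem mem_Om2 {B : Subgroup G} (hB : IsMulCommutative ↥B) {b : G} :
    b ∈ Om2 B ↔ b ∈ B ∧ b ^ 4 = 1 := by
  constructor
  · intro h
    have hle : Om2 B ≤ ng_omsq_tors B hB 4 := by
      unfold Om2
      rw [Subgroup.closure_le]
      intro x hx
      exact hx
    exact hle h
  · intro h
    exact Subgroup.subset_closure h

theorem mem_Sq {B : Subgroup G} (hB : IsMulCommutative ↥B) {g : G} :
    g ∈ Sq B ↔ ∃ b ∈ B, g = b ^ 2 := by
  constructor
  · intro h
    have hle : Sq B ≤ ng_omsq_sqs B hB := by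
      unfold Sq
      rw [Subgroup.closure_le]
      intro x hx
      exact hx
    exact hle h
  · intro h
    exact Subgroup.subset_closure h

theorem Om_le (B : Subgroup G) : Om B ≤ B := by
  unfold Om
  rw [Subgroup.closure_le]
  intro x hx
  exact hx.1

theorem Om2_le (B : Subgroup G) : Om2 B ≤ B := by
  unfold Om2
  rw [Subgroup.closure_le]
  intro x hx
  exact hx.1

theorem Sq_le (B : Subgroup G) : Sq B ≤ B := by
  unfold Sq
  rw [Subgroup.closure_le]
  rintro x ⟨b, hb, rfl⟩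
  exact B.pow_mem hb 2

/-- a closure is stable under a conjugation stabilising the generating set -/
theorem ng_omsq_conj_closure (S : Set G) (g : G) (hS : ∀ s ∈ S, g * s * g⁻¹ ∈ S) :
    ∀ x ∈ Subgroup.closure S, g * x * g⁻¹ ∈ Subgroup.closure S := by
  intro x hx
  refine Subgroup.closure_induction (p := fun y _ => g * y * g⁻¹ ∈ Subgroup.closure S)
    ?_ ?_ ?_ ?_ hx
  · intro y hy
    exact Subgroup.subset_closure (hS y hy)
  · rw [mul_one, mul_inv_cancel]
    exact Subgroup.one_mem _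
  · intro y z _ _ hy hz
    have e : g * (y * z) * g⁻¹ = (g * y * g⁻¹) * (g * z * g⁻¹) := by group
    rw [e]
    exact Subgroup.mul_mem _ hy hz
  · intro y _ hy
    have e : g * y⁻¹ * g⁻¹ = (g * y * g⁻¹)⁻¹ := by group
    rw [e]
    exact Subgroup.inv_mem _ hy

theorem ng_omsq_conj_pow (g y : G) (n : ℕ) : (g * y * g⁻¹) ^ n = g * y ^ n * g⁻¹ := by
  induction n with
  | zero => simp
  | succ n ih =>
    rw [pow_succ, ih, pow_succ]
    group

theorem ng_omsq_Om_conj {B : Subgroup G} (g : G) (hg : ∀ b ∈ B, g * b * g⁻¹ ∈ B) :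
    ∀ x ∈ Om B, g * x * g⁻¹ ∈ Om B := by
  unfold Om
  apply ng_omsq_conj_closure
  rintro s ⟨hs, hs2⟩
  refine ⟨hg s hs, ?_⟩
  rw [ng_omsq_conj_pow, hs2, mul_one, mul_inv_cancel]

theorem ng_omsq_Om2_conj {B : Subgroup G} (g : G) (hg : ∀ b ∈ B, g * b * g⁻¹ ∈ B) :
    ∀ x ∈ Om2 B, g * x * g⁻¹ ∈ Om2 B := by
  unfold Om2
  apply ng_omsq_conj_closure
  rintro s ⟨hs, hs2⟩
  refine ⟨hg s hs, ?_⟩
  rw [ng_omsq_conj_pow, hs2, mul_one, mul_inv_cancel]

theorem ng_omsq_Sq_conj {B : Subgroup G} (g : G) (hg : ∀ b ∈ B, g * b * g⁻¹ ∈ B) :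
    ∀ x ∈ Sq B, g * x * g⁻¹ ∈ Sq B := by
  unfold Sq
  apply ng_omsq_conj_closure
  rintro s ⟨b, hb, rfl⟩
  exact ⟨g * b * g⁻¹, hg b hb, (ng_omsq_conj_pow g b 2).symm⟩

theorem Om_normalizer {B K : Subgroup G} (h : K ≤ Subgroup.normalizer (B : Set G)) :
    K ≤ Subgroup.normalizer (Om B : Set G) := by
  intro k hk
  have hk1 := h hk
  have hk2 := h (K.inv_mem hk)
  rw [Subgroup.mem_normalizer_iff] at hk1 hk2
  have h1 : ∀ b ∈ B, k * b * k⁻¹ ∈ B := fun b hb => (hk1 b).mp hb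
  have h2 : ∀ b ∈ B, k⁻¹ * b * k⁻¹⁻¹ ∈ B := fun b hb => (hk2 b).mp hb
  rw [Subgroup.mem_normalizer_iff]
  intro x
  constructor
  · intro hx
    exact ng_omsq_Om_conj k h1 x hx
  · intro hx
    have h3 := ng_omsq_Om_conj k⁻¹ h2 _ hx
    have e : k⁻¹ * (k * x * k⁻¹) * k⁻¹⁻¹ = x := by group
    rwa [e] at h3

theorem Om_normal {B : Subgroup G} (hB : B.Normal) : (Om B).Normal :=
  ⟨fun n hn g => ng_omsq_Om_conj g (fun b hb => hB.conj_mem b hb g) n hn⟩

theorem Om2_normal {B : Subgroup G} (hB : B.Normal) : (Om2 B).Normal :=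
  ⟨fun n hn g => ng_omsq_Om2_conj g (fun b hb => hB.conj_mem b hb g) n hn⟩

theorem Sq_normal {B : Subgroup G} (hB : B.Normal) : (Sq B).Normal :=
  ⟨fun n hn g => ng_omsq_Sq_conj g (fun b hb => hB.conj_mem b hb g) n hn⟩

/-- kernel and image of the squaring endomorphism of the finite abelian group `B`. -/
theorem card_Om_mul_card_Sq [Finite G] {B : Subgroup G} (hB : IsMulCommutative ↥B) :
    Nat.card ↥(Om B) * Nat.card ↥(Sq B) = Nat.card ↥B := by
  letI : CommGroup ↥B :=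
    { (inferInstance : Group ↥B) with mul_comm := hB.is_comm.comm }
  let φ : ↥B →* ↥B := powMonoidHom 2
  have hφ : ∀ y : ↥B, φ y = y ^ 2 := fun y => rfl
  have h1 : Om B = (φ.ker).map B.subtype := by
    ext x
    rw [mem_Om hB, Subgroup.mem_map]
    constructor
    · rintro ⟨hx, hx2⟩
      refine ⟨⟨x, hx⟩, ?_, rfl⟩
      rw [MonoidHom.mem_ker, hφ]
      exact Subtype.ext (by rw [Subgroup.coe_pow]; exact hx2)
    · rintro ⟨y, hy, rfl⟩
      rw [MonoidHom.mem_ker, hφ] at hy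
      refine ⟨y.2, ?_⟩
      have := congrArg Subtype.val hy
      rwa [Subgroup.coe_pow] at this
  have h2 : Sq B = (φ.range).map B.subtype := by
    ext x
    rw [mem_Sq hB, Subgroup.mem_map]
    constructor
    · rintro ⟨b, hb, rfl⟩
      refine ⟨⟨b, hb⟩ ^ 2, ⟨⟨b, hb⟩, hφ _⟩, ?_⟩
      rw [Subgroup.coe_subtype, Subgroup.coe_pow]
    · rintro ⟨y, ⟨w, hw⟩, rfl⟩
      refine ⟨(w : G), w.2, ?_⟩
      rw [← hw, hφ, Subgroup.coe_subtype, Subgroup.coe_pow]
  have hinj : Function.Injective B.subtype := B.subtype_injective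
  rw [h1, h2, Subgroup.card_map_of_injective hinj, Subgroup.card_map_of_injective hinj,
    ← Subgroup.index_ker, Subgroup.card_mul_index]

theorem Om_elementary {B : Subgroup G} (hB : IsMulCommutative ↥B) :
    Cfsg.IsElementaryAbelian 2 (Om B) := by
  refine ⟨⟨⟨fun a b => ?_⟩⟩, ?_⟩
  · exact Subtype.ext (ng_omsq_comm hB (Om_le B a.2) (Om_le B b.2))
  · intro a ha
    exact ((mem_Om hB).mp ha).2

end Cfsg.Agent.Helper17.NG
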