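import Mathlib
import Cfsg.Agent.Lib.NG.NGDefs
import Cfsg.Agent.Lib.NG.NGICENT
import Cfsg.Agent.Lib.NG.NGFIXQ
import Cfsg.Agent.Lib.NG.NGOMSQ

/-! S1904 piece NG-ICES (helper17 design; see plans/S1904_plan.md).  STUB: overwrite this file,
keeping the statement(s), namespace and imports (you may ADD imports of non-NG library files).
Aux lemmas: fresh names `ng_ices_...`. -/

set_option autoImplicit false

namespace Cfsg.Agent.Helper17.NG

variable {G : Type*} [Group G]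

/-- With `C0 = X`: `ZS X` is cyclic (`hcyc`), nontrivial, centralised by `H` (`crit_center_central`).
Every commutator `k = x y x⁻¹ y⁻¹` (`x,y ∈ X`) lies in `ZS X` and has `k^2 = 1` (as in `crit_eq`), so
`⁅X,X⁆ ≤ Om (ZS X)`, of order `≤ 2`; `X` nonabelian, so `⁅X,X⁆ = Om (ZS X)` has order 2.
`fix_quot` with `N = ⁅X,X⁆` (normal in `G` as `X` is) gives `ZS X ≤ ⁅X,X⁆`.  Hence `ZS X = ⁅X,X⁆` of order 2,
and squares lie in `ZS X` by `hsq`. -/
theorem ces_of_crit [Finite G] {X H : Subgroup G} (C : Ctx X H)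
    (hcyc : ∀ B : Subgroup G, B ≤ X → B.Normal → IsMulCommutative ↥B → IsCyclic ↥B)
    (hsq : ∀ c ∈ X, c ^ 2 ∈ Subgroup.centralizer (X : Set G))
    (hcomm : ∀ c ∈ X, ∀ x ∈ X, c * x * c⁻¹ * x⁻¹ ∈ X ⊓ Subgroup.centralizer (X : Set G)) :
    CES X (ZS X) := by
  have hXn : X.Normal := C.normal
  haveI := hXn
  haveI : (Subgroup.centralizer (X : Set G)).Normal := Subgroup.normal_centralizer
  obtain ⟨hHZ, -⟩ := crit_center_central C hcyc (le_refl X) hXn
  have hZdef : ZS X = X ⊓ Subgroup.centralizer (X : Set G) := rfl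
  have hZn : (ZS X).Normal := by rw [hZdef]; infer_instance
  have hZX : ZS X ≤ X := fun x hx => hx.1
  have hZc : IsMulCommutative ↥(ZS X) := by
    rw [isMulCommutative_iff]
    intro x y
    apply Subtype.ext
    have h1 := Subgroup.mem_centralizer_iff.mp x.2.2 (y : G) y.2.1
    rw [Subgroup.coe_mul, Subgroup.coe_mul]
    exact h1.symm
  haveI hZcyc : IsCyclic ↥(ZS X) := hcyc (ZS X) hZX hZn hZc
  -- commutators are in `ZS X` and have square one
  have hk2 : ∀ x ∈ X, ∀ y ∈ X, (x * y * x⁻¹ * y⁻¹) * (x * y * x⁻¹ * y⁻¹) = 1 := by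
    intro x hx y hy
    have hk := hcomm x hx y hy
    have hkx : x * (x * y * x⁻¹ * y⁻¹) = (x * y * x⁻¹ * y⁻¹) * x :=
      Subgroup.mem_centralizer_iff.mp hk.2 x hx
    have hxx : y * (x * x) = (x * x) * y := by
      have h1 := Subgroup.mem_centralizer_iff.mp (hsq x hx) y hy
      rwa [pow_two] at h1
    calc (x * y * x⁻¹ * y⁻¹) * (x * y * x⁻¹ * y⁻¹)
        = ((x * y * x⁻¹ * y⁻¹) * x) * y * x⁻¹ * y⁻¹ := by group
      _ = (x * (x * y * x⁻¹ * y⁻¹)) * y * x⁻¹ * y⁻¹ := by rw [hkx]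
      _ = ((x * x) * y) * x⁻¹ * x⁻¹ * y⁻¹ := by group
      _ = (y * (x * x)) * x⁻¹ * x⁻¹ * y⁻¹ := by rw [hxx]
      _ = 1 := by group
  -- a non-trivial commutator
  have hex : ∃ x ∈ X, ∃ y ∈ X, x * y * x⁻¹ * y⁻¹ ≠ 1 := by
    by_contra hno
    push Not at hno
    apply C.nonab
    rw [isMulCommutative_iff]
    intro x y
    apply Subtype.ext
    have h1 := hno x x.2 y y.2
    rw [Subgroup.coe_mul, Subgroup.coe_mul]
    have h2 := mul_inv_eq_one.mp h1
    exact mul_inv_eq_iff_eq_mul.mp h2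
  obtain ⟨x₀, hx₀, y₀, hy₀, hk1⟩ := hex
  set k : G := x₀ * y₀ * x₀⁻¹ * y₀⁻¹ with hk
  have hkZ : k ∈ ZS X := hcomm x₀ hx₀ y₀ hy₀
  have hkk : k * k = 1 := hk2 x₀ hx₀ y₀ hy₀
  -- every commutator is in `zpowers k`
  have hcz : ⁅X, X⁆ ≤ Subgroup.zpowers k := by
    rw [Subgroup.commutator_le]
    intro x hx y hy
    rw [commutatorElement_def]
    by_cases hc1 : x * y * x⁻¹ * y⁻¹ = 1
    · rw [hc1]; exact Subgroup.one_mem _
    · have hcZ : x * y * x⁻¹ * y⁻¹ ∈ ZS X := hcomm x hx y hy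
      have h5 := ng_icent_inv_unique (A := ↥(ZS X)) (b := ⟨k, hkZ⟩)
        (c := ⟨x * y * x⁻¹ * y⁻¹, hcZ⟩)
        (by apply Subtype.ext; rw [Subgroup.coe_pow, pow_two]; exact hkk)
        (by apply Subtype.ext; rw [Subgroup.coe_pow, pow_two]; exact hk2 x hx y hy)
        (by intro h6; exact hk1 (congrArg Subtype.val h6))
        (by intro h6; exact hc1 (congrArg Subtype.val h6))
      have h6 : x * y * x⁻¹ * y⁻¹ = k := congrArg Subtype.val h5
      rw [h6]; exact Subgroup.mem_zpowers k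
  have hkc : k ∈ ⁅X, X⁆ := by
    have := Subgroup.commutator_mem_commutator hx₀ hy₀
    rwa [commutatorElement_def] at this
  have hzc : Subgroup.zpowers k ≤ ⁅X, X⁆ := Subgroup.zpowers_le.mpr hkc
  have hcomm_eq : ⁅X, X⁆ = Subgroup.zpowers k := le_antisymm hcz hzc
  -- `⁅X,X⁆ ≤ ZS X`
  have hcZ : ⁅X, X⁆ ≤ ZS X := by
    rw [Subgroup.commutator_le]
    intro x hx y hy
    rw [commutatorElement_def]
    exact hcomm x hx y hy
  -- `ZS X ≤ ⁅X,X⁆`
  have hNn : (⁅X, X⁆ : Subgroup G).Normal := Subgroup.commutator_normal X X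
  have hNX : ⁅X, X⁆ ≤ X := hcZ.trans hZX
  have hZc' : ZS X ≤ ⁅X, X⁆ := by
    intro z hz
    apply fix_quot C hNn hNX (le_refl _) (hZX hz)
    intro h hh
    have h1 := Subgroup.mem_centralizer_iff.mp (hHZ hh) z hz
    -- `z * h = h * z`
    have h2 : h * z * h⁻¹ * z⁻¹ = 1 := by
      rw [← h1]; group
    rw [h2]; exact Subgroup.one_mem _
  have hZeq : ZS X = ⁅X, X⁆ := le_antisymm hZc' hcZ
  haveI : Fact (Nat.Prime 2) := ⟨Nat.prime_two⟩
  have hord : orderOf k = 2 := orderOf_eq_prime (by rw [pow_two]; exact hkk) hk1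
  refine ⟨?_, rfl, hZeq.symm, ?_⟩
  · rw [hZeq, hcomm_eq, Nat.card_zpowers, hord]
  · intro x hx
    exact ⟨X.pow_mem hx 2, hsq x hx⟩

end Cfsg.Agent.Helper17.NG
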