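import Mathlib
import Cfsg.Agent.Lib.NG.NGDefs
import Cfsg.Agent.Lib.Helper1.Critical
import Cfsg.Agent.Lib.Helper21.PGroupFrattini

/-! S1904 piece NG-ICRIT (helper17 design; see plans/S1904_plan.md).  STUB: overwrite this file,
keeping the statement(s), namespace and imports (you may ADD imports of non-NG library files).
Aux lemmas: fresh names `ng_icrit_...`. -/

set_option autoImplicit false

namespace Cfsg.Agent.Helper17.NG

open scoped commutatorElement

variable {G : Type*} [Group G]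

/-- Thompson critical subgroup, internal form.  Apply `Cfsg.Agent.Helper1.exists_critical`
(Lib/Helper1/Critical.lean) to the 2-group `↥X`: get a characteristic `K ≤ ↥X` with
`Φ(K) ≤ Z(K)`, `⁅K, ⊤⁆ ≤ K ⊓ C(K)`, `C(K) ≤ K`.  Put `C := K.map X.subtype`; it is normal in `G`
because `K` is characteristic in the normal subgroup `X` (conjugation by `g` restricts to an automorphism
of `↥X`).  `c^2 ∈ Φ(K)` for `c ∈ K` (squares lie in the Frattini subgroup of a 2-group:
`Cfsg.Agent.Helper9.frattini_le_ker_of_elementary` or `IsPGroup`-facts in Lib/MB/MBPHIPROPS). -/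
theorem exists_crit [Finite G] {X : Subgroup G} (hX : X.Normal) (hX2 : IsPGroup 2 ↥X) :
    ∃ C : Subgroup G, C ≤ X ∧ C.Normal ∧
      (∀ c ∈ C, c ^ 2 ∈ Subgroup.centralizer (C : Set G)) ∧
      (∀ c ∈ C, ∀ x ∈ X, c * x * c⁻¹ * x⁻¹ ∈ C ⊓ Subgroup.centralizer (C : Set G)) ∧
      X ⊓ Subgroup.centralizer (C : Set G) ≤ C := by
  haveI : Fact (Nat.Prime 2) := ⟨Nat.prime_two⟩
  haveI := hX
  obtain ⟨K, hKchar, hΦ, hcomm, hcent⟩ :=
    Cfsg.Agent.Helper1.exists_critical (P := ↥X) (p := 2) hX2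
  haveI := hKchar
  have hK2 : IsPGroup 2 ↥K := hX2.to_subgroup K
  -- transport of the centraliser
  have hcz : ∀ y : ↥X, y ∈ Subgroup.centralizer (K : Set ↥X) →
      (y : G) ∈ Subgroup.centralizer ((K.map X.subtype : Subgroup G) : Set G) := by
    intro y hy
    rw [Subgroup.mem_centralizer_iff]
    intro h hh
    obtain ⟨k, hk, rfl⟩ := Subgroup.mem_map.mp hh
    have := Subgroup.mem_centralizer_iff.mp hy k hk
    exact congrArg Subtype.val this
  refine ⟨K.map X.subtype, Subgroup.map_subtype_le K,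
    ConjAct.normal_of_characteristic_of_normal, ?_, ?_, ?_⟩
  · intro c hc
    obtain ⟨k, hk, rfl⟩ := Subgroup.mem_map.mp hc
    have h1 : (⟨k, hk⟩ : ↥K) ^ 2 ∈ frattini ↥K :=
      Cfsg.Agent.Helper21.pow_mem_frattini_of_isPGroup hK2 _
    have h2 : k ^ 2 ∈ (frattini ↥K).map K.subtype :=
      Subgroup.mem_map.mpr ⟨_, h1, rfl⟩
    have h3 := hcz _ (hΦ h2)
    simpa using h3
  · intro c hc x hx
    obtain ⟨k, hk, rfl⟩ := Subgroup.mem_map.mp hc
    have h1 : ⁅k, (⟨x, hx⟩ : ↥X)⁆ ∈ ⁅K, (⊤ : Subgroup ↥X)⁆ :=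
      Subgroup.commutator_mem_commutator hk (Subgroup.mem_top _)
    have h2 := hcomm h1
    have e : (X.subtype k) * x * (X.subtype k)⁻¹ * x⁻¹ = ((⁅k, (⟨x, hx⟩ : ↥X)⁆ : ↥X) : G) := by
      rw [commutatorElement_def]; rfl
    rw [e]
    exact ⟨Subgroup.mem_map.mpr ⟨_, h2.1, rfl⟩, hcz _ h2.2⟩
  · intro g hg
    obtain ⟨hgX, hgC⟩ := hg
    have h1 : (⟨g, hgX⟩ : ↥X) ∈ Subgroup.centralizer (K : Set ↥X) := by
      rw [Subgroup.mem_centralizer_iff]
      intro k hk
      apply Subtype.ext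
      exact Subgroup.mem_centralizer_iff.mp hgC (k : G) (Subgroup.mem_map.mpr ⟨k, hk, rfl⟩)
    exact Subgroup.mem_map.mpr ⟨_, hcent h1, rfl⟩

end Cfsg.Agent.Helper17.NG
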