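import Mathlib
import Cfsg.Agent.Lib.NG.NGDefs

/-! S1904 piece NG-IDX2 (helper17 design; see plans/S1904_plan.md).  STUB: overwrite this file,
keeping the statement(s), namespace and imports (you may ADD imports of non-NG library files).
Aux lemmas: fresh names `ng_idx2_...`. -/

set_option autoImplicit false

namespace Cfsg.Agent.Helper17.NG

variable {G : Type*} [Group G]

/-- `X` has no `G`-normal subgroup of index 2.  If `K ≠ X` the index is 2; for `x ∈ X`, `h ∈ H`,
`h x h⁻¹` and `x` lie in the same coset of `K` (both in `K` or both in the unique other coset, as `h`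
normalises `X` and `K`), so `⁅X,H⁆ ≤ K`, contradicting `C.comm`. -/
theorem eq_of_relIndex_le_two [Finite G] {X H : Subgroup G} (C : Ctx X H) {K : Subgroup G}
    (hK : K.Normal) (hKX : K ≤ X) (hidx : K.relIndex X ≤ 2) : K = X := by
  by_contra hne
  have hlt : ¬ X ≤ K := fun h => hne (le_antisymm hKX h)
  have h1 : K.relIndex X ≠ 1 := fun h => hlt (Subgroup.relIndex_eq_one.mp h)
  have h0 : (K.subgroupOf X).index ≠ 0 := Subgroup.index_ne_zero_of_finite
  have h2 : (K.subgroupOf X).index = 2 := by
    unfold Subgroup.relIndex at hidx h1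
    omega
  have key : ∀ a ∈ X, ∀ b ∈ X, (a ∈ K ↔ b ∈ K) → a * b ∈ K := by
    intro a ha b hb hab
    have h3 := (Subgroup.mul_mem_iff_of_index_two h2 (a := ⟨a, ha⟩) (b := ⟨b, hb⟩)).mpr
      (by rw [Subgroup.mem_subgroupOf, Subgroup.mem_subgroupOf]; exact hab)
    rw [Subgroup.mem_subgroupOf] at h3
    exact h3
  have hcomm : ⁅X, H⁆ ≤ K := by
    rw [Subgroup.commutator_le]
    intro x hx h hh
    rw [commutatorElement_def]
    have e : x * h * x⁻¹ * h⁻¹ = x * (h * x⁻¹ * h⁻¹) := by group
    rw [e]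
    apply key x hx _ (C.normal.conj_mem _ (X.inv_mem hx) h)
    constructor
    · intro hxK
      exact hK.conj_mem _ (K.inv_mem hxK) h
    · intro hc
      have h4 := hK.conj_mem _ hc h⁻¹
      have e2 : h⁻¹ * (h * x⁻¹ * h⁻¹) * h⁻¹⁻¹ = x⁻¹ := by group
      rw [e2] at h4
      simpa using K.inv_mem h4
  exact hlt (C.comm.trans hcomm)

end Cfsg.Agent.Helper17.NG
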