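import Mathlib
import Cfsg.Agent.Lib.NG.NGDefs
import Cfsg.Agent.Lib.NG.NGICENT
import Cfsg.Agent.Lib.NG.NGOMSQ

/-! S1904 piece NG-IEQ (helper17 design; see plans/S1904_plan.md).  PROVED by helper13 (aux lemmas `ng_ieq_...`). -/

set_option autoImplicit false

namespace Cfsg.Agent.Helper17.NG

variable {G : Type*} [Group G]


theorem ng_ieq_cyc_sq_le {Z : Type*} [Group Z] [Finite Z] [IsCyclic Z] (R : Subgroup Z)
    (hR : ∀ k ∈ R, k ^ 2 = 1) : Nat.card ↥R ≤ 2 := by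
  classical
  haveI := Fintype.ofFinite Z
  have h1 := IsCyclic.card_pow_eq_one_le (α := Z) (n := 2) (by norm_num)
  have h2 : Nat.card ↥R ≤ (Finset.univ.filter fun a : Z => a ^ 2 = 1).card := by
    rw [Nat.card_eq_fintype_card, ← Fintype.card_coe]
    apply Fintype.card_le_of_injective (fun r : ↥R => (⟨r.1, by simp [hR r.1 r.2]⟩ :
      {x // x ∈ (Finset.univ.filter fun a : Z => a ^ 2 = 1)}))
    intro a b hab
    simp only [Subtype.mk.injEq] at hab
    exact Subtype.ext hab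
  omega

theorem ng_ieq_half [Finite G] {X C0 Y : Subgroup G}
    (hZc : IsCyclic ↥(C0 ⊓ Subgroup.centralizer (C0 : Set G)))
    (hXZ : X ≤ Subgroup.centralizer ((C0 ⊓ Subgroup.centralizer (C0 : Set G) : Subgroup G) : Set G))
    (hC0X : C0 ≤ X)
    (hsq : ∀ c ∈ C0, c ^ 2 ∈ Subgroup.centralizer (C0 : Set G))
    (hcomm : ∀ c ∈ C0, ∀ x ∈ X, c * x * c⁻¹ * x⁻¹ ∈ C0 ⊓ Subgroup.centralizer (C0 : Set G))
    (hY : Y ≤ X) {c : G} (hc : c ∈ C0) :
    Nat.card ↥Y ≤ 2 * Nat.card ↥(Y ⊓ Subgroup.centralizer ({c} : Set G)) := by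
  classical
  set Z0 : Subgroup G := C0 ⊓ Subgroup.centralizer (C0 : Set G) with hZ0
  -- elements of Z0 commute with elements of X
  have hcz : ∀ k ∈ Z0, ∀ x ∈ X, k * x = x * k := by
    intro k hk x hx
    exact Subgroup.mem_centralizer_iff.1 (hXZ hx) k hk
  let φ : ↥Y →* ↥Z0 :=
    { toFun := fun y => ⟨c * y.1 * c⁻¹ * y.1⁻¹, hcomm c hc y.1 (hY y.2)⟩
      map_one' := by ext; simp
      map_mul' := by
        intro y1 y2
        ext
        have hk2 := hcomm c hc y2.1 (hY y2.2)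
        have h1 := hcz _ hk2 (y1.1)⁻¹ (X.inv_mem (hY y1.2))
        simp only [Subgroup.coe_mul]
        calc c * (y1.1 * y2.1) * c⁻¹ * (y1.1 * y2.1)⁻¹
            = c * y1.1 * c⁻¹ * ((c * y2.1 * c⁻¹ * y2.1⁻¹) * y1.1⁻¹) := by group
          _ = c * y1.1 * c⁻¹ * (y1.1⁻¹ * (c * y2.1 * c⁻¹ * y2.1⁻¹)) := by rw [h1]
          _ = _ := by group }
  have hrange : ∀ k ∈ φ.range, k ^ 2 = 1 := by
    rintro k ⟨y, rfl⟩
    ext
    simp only [Subgroup.coe_pow, Subgroup.coe_one]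
    show (c * y.1 * c⁻¹ * y.1⁻¹) ^ 2 = 1
    have hk := hcomm c hc y.1 (hY y.2)
    -- k commutes with c
    have hkc : c * (c * y.1 * c⁻¹ * y.1⁻¹) = (c * y.1 * c⁻¹ * y.1⁻¹) * c :=
      Subgroup.mem_centralizer_iff.1 hk.2 c hc
    -- c^2 ∈ Z0 commutes with y
    have hc2 : c ^ 2 ∈ Z0 := ⟨C0.pow_mem hc 2, hsq c hc⟩
    have hc2y := hcz _ hc2 y.1 (hY y.2)
    -- compute
    have e1 : c * y.1 * c⁻¹ = (c * y.1 * c⁻¹ * y.1⁻¹) * y.1 := by group
    have e2 : c ^ 2 * y.1 * (c ^ 2)⁻¹ = (c * y.1 * c⁻¹ * y.1⁻¹) ^ 2 * y.1 := by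
      calc c ^ 2 * y.1 * (c ^ 2)⁻¹ = c * (c * y.1 * c⁻¹) * c⁻¹ := by rw [pow_two]; group
        _ = c * ((c * y.1 * c⁻¹ * y.1⁻¹) * y.1) * c⁻¹ := by rw [← e1]
        _ = (c * (c * y.1 * c⁻¹ * y.1⁻¹)) * y.1 * c⁻¹ := by group
        _ = ((c * y.1 * c⁻¹ * y.1⁻¹) * c) * y.1 * c⁻¹ := by rw [hkc]
        _ = (c * y.1 * c⁻¹ * y.1⁻¹) * (c * y.1 * c⁻¹) := by group
        _ = (c * y.1 * c⁻¹ * y.1⁻¹) * ((c * y.1 * c⁻¹ * y.1⁻¹) * y.1) := by rw [← e1]
        _ = _ := by rw [pow_two]; group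
    have e3 : c ^ 2 * y.1 * (c ^ 2)⁻¹ = y.1 := by rw [hc2y]; group
    rw [e3] at e2
    have := mul_right_cancel (a := (1:G)) (b := y.1) (c := (c * y.1 * c⁻¹ * y.1⁻¹) ^ 2) (by simpa using e2)
    exact this.symm
  have hker : φ.ker = (Y ⊓ Subgroup.centralizer ({c} : Set G)).subgroupOf Y := by
    ext y
    rw [MonoidHom.mem_ker, Subgroup.mem_subgroupOf, Subgroup.mem_inf, Subgroup.mem_centralizer_iff]
    constructor
    · intro h
      refine ⟨y.2, ?_⟩
      intro g hg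
      rw [Set.mem_singleton_iff] at hg
      rw [hg]
      have : c * y.1 * c⁻¹ * y.1⁻¹ = 1 := congrArg Subtype.val h
      calc c * y.1 = (c * y.1 * c⁻¹ * y.1⁻¹) * y.1 * c := by group
        _ = y.1 * c := by rw [this]; group
    · rintro ⟨_, h⟩
      have := h c rfl
      ext
      show c * y.1 * c⁻¹ * y.1⁻¹ = 1
      rw [this]; group
  have hZfin : Finite ↥Z0 := inferInstance
  have h2 : Nat.card ↥φ.range ≤ 2 := by
    have := hZc
    exact ng_ieq_cyc_sq_le φ.range hrange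
  have h3 : Nat.card ↥φ.ker * φ.ker.index = Nat.card ↥Y := Subgroup.card_mul_index _
  rw [Subgroup.index_ker] at h3
  have h4 : Nat.card ↥φ.ker = Nat.card ↥(Y ⊓ Subgroup.centralizer ({c} : Set G)) := by
    rw [hker]
    exact Nat.card_congr (Subgroup.subgroupOfEquivOfLe inf_le_left).toEquiv
  rw [← h3, h4]
  calc Nat.card ↥(Y ⊓ Subgroup.centralizer ({c} : Set G)) * Nat.card ↥φ.range
      ≤ Nat.card ↥(Y ⊓ Subgroup.centralizer ({c} : Set G)) * 2 := Nat.mul_le_mul_left _ h2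
    _ = _ := by ring


theorem ng_ieq_induct [Finite G] {X C0 : Subgroup G}
    (hZc : IsCyclic ↥(C0 ⊓ Subgroup.centralizer (C0 : Set G)))
    (hXZ : X ≤ Subgroup.centralizer ((C0 ⊓ Subgroup.centralizer (C0 : Set G) : Subgroup G) : Set G))
    (hC0X : C0 ≤ X)
    (hsq : ∀ c ∈ C0, c ^ 2 ∈ Subgroup.centralizer (C0 : Set G))
    (hcomm : ∀ c ∈ C0, ∀ x ∈ X, c * x * c⁻¹ * x⁻¹ ∈ C0 ⊓ Subgroup.centralizer (C0 : Set G))
    (m : ℕ) :
    ∀ n : ℕ, ∀ D : Subgroup G, D ≤ C0 → Nat.card ↥C0 - Nat.card ↥D ≤ n →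
      m ≤ Nat.card ↥D * Nat.card ↥(X ⊓ Subgroup.centralizer (D : Set G)) →
      m ≤ Nat.card ↥C0 * Nat.card ↥(X ⊓ Subgroup.centralizer (C0 : Set G)) := by
  intro n
  induction n with
  | zero =>
    intro D hD hn hP
    have h1 : Nat.card ↥D ≤ Nat.card ↥C0 := Subgroup.card_le_of_le hD
    have h2 : Nat.card ↥C0 ≤ Nat.card ↥D := by omega
    have : D = C0 := Subgroup.eq_of_le_of_card_ge hD h2
    rw [this] at hP
    exact hP
  | succ n ih =>
    intro D hD hn hP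
    by_cases hDC : D = C0
    · rw [hDC] at hP; exact hP
    · have hlt : D < C0 := lt_of_le_of_ne hD hDC
      obtain ⟨c, hc, hcD⟩ := SetLike.exists_of_lt hlt
      set D' : Subgroup G := D ⊔ Subgroup.zpowers c with hD'
      have hDD' : D ≤ D' := le_sup_left
      have hcD' : c ∈ D' := (le_sup_right : Subgroup.zpowers c ≤ D') (Subgroup.mem_zpowers c)
      have hD'C : D' ≤ C0 := sup_le hD (by rw [Subgroup.zpowers_le]; exact hc)
      have hne : D ≠ D' := fun h => hcD (h ▸ hcD')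
      have hdvd : Nat.card ↥D ∣ Nat.card ↥D' := Subgroup.card_dvd_of_le hDD'
      have hle : Nat.card ↥D ≤ Nat.card ↥D' := Subgroup.card_le_of_le hDD'
      have hlt' : Nat.card ↥D < Nat.card ↥D' := by
        rcases lt_or_eq_of_le hle with h | h
        · exact h
        · exact absurd (Subgroup.eq_of_le_of_card_ge hDD' h.ge) hne
      have hpos : 0 < Nat.card ↥D := Nat.card_pos
      have h2D : 2 * Nat.card ↥D ≤ Nat.card ↥D' := by
        obtain ⟨k, hk⟩ := hdvd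
        rw [hk] at hlt' ⊢
        have : 2 ≤ k := by
          by_contra hk2
          have : k ≤ 1 := by omega
          nlinarith
        nlinarith
      have hhalf := ng_ieq_half (Y := X ⊓ Subgroup.centralizer (D : Set G)) hZc hXZ hC0X hsq hcomm
        inf_le_left hc
      have hsub : X ⊓ Subgroup.centralizer (D : Set G) ⊓ Subgroup.centralizer ({c} : Set G) ≤
          X ⊓ Subgroup.centralizer (D' : Set G) := by
        intro g hg
        obtain ⟨⟨hgX, hgD⟩, hgc⟩ := hg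
        refine ⟨hgX, ?_⟩
        have : D' ≤ Subgroup.centralizer ({g} : Set G) := by
          apply sup_le
          · intro d hd
            rw [Subgroup.mem_centralizer_iff]
            intro x hx
            rw [Set.mem_singleton_iff] at hx
            rw [hx]
            exact (Subgroup.mem_centralizer_iff.1 hgD d hd).symm
          · rw [Subgroup.zpowers_le, Subgroup.mem_centralizer_iff]
            intro x hx
            rw [Set.mem_singleton_iff] at hx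
            rw [hx]
            exact (Subgroup.mem_centralizer_iff.1 hgc c rfl).symm
        show g ∈ Subgroup.centralizer (D' : Set G)
        rw [Subgroup.mem_centralizer_iff]
        intro d hd
        exact (Subgroup.mem_centralizer_iff.1 (this hd) g rfl).symm
      have hsubc := Subgroup.card_le_of_le hsub
      apply ih D' hD'C (by omega)
      calc m ≤ Nat.card ↥D * Nat.card ↥(X ⊓ Subgroup.centralizer (D : Set G)) := hP
        _ ≤ Nat.card ↥D * (2 * Nat.card ↥(X ⊓ Subgroup.centralizer (D' : Set G))) := by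
            apply Nat.mul_le_mul_left
            exact hhalf.trans (Nat.mul_le_mul_left _ hsubc)
        _ = (2 * Nat.card ↥D) * Nat.card ↥(X ⊓ Subgroup.centralizer (D' : Set G)) := by ring
        _ ≤ _ := Nat.mul_le_mul_right _ h2D

/-- `X = C0`.  Let `Z0 = C0 ⊓ C(C0)` (cyclic, centralised by `X` by `crit_center_central`).
For `c ∈ C0`, `x ∈ X`: `k := c x c⁻¹ x⁻¹ ∈ Z0`; `k` commutes with `c` and `x`; `x⁻¹`-conjugation:
`c x^{-1}...`; as `c^2 ∈ Z0` is centralised by `x`, one gets `k^2 = 1` (from `x c x⁻¹ = k⁻¹ c`: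
`x c^2 x⁻¹ = k⁻² c^2`).  So `k ∈ Om Z0`, of order `≤ 2` (`Z0` cyclic): every `c ∈ C0` has at most
2 conjugates under `X`, i.e. `(X ⊓ C({c})).relIndex X ≤ 2`.  Induction over subgroups
`Z0 ≤ D ≤ C0` (add one element at a time; `c^2 ∈ Z0 ≤ D`, commutators of `C0` lie in `Z0`, so
`D ⊔ zpowers c` has index `≤ 2` over `D`): `card X ≤ (card D / card Z0) * card (X ⊓ C(D))`.  For `D = C0`:
`X ⊓ C(C0) = Z0` (`hself`), so `card X ≤ card C0`, and `C0 ≤ X` gives equality. -/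
theorem crit_eq [Finite G] {X H C0 : Subgroup G} (C : Ctx X H)
    (hcyc : ∀ B : Subgroup G, B ≤ X → B.Normal → IsMulCommutative ↥B → IsCyclic ↥B)
    (hC0X : C0 ≤ X) (hC0 : C0.Normal)
    (hsq : ∀ c ∈ C0, c ^ 2 ∈ Subgroup.centralizer (C0 : Set G))
    (hcomm : ∀ c ∈ C0, ∀ x ∈ X, c * x * c⁻¹ * x⁻¹ ∈ C0 ⊓ Subgroup.centralizer (C0 : Set G))
    (hself : X ⊓ Subgroup.centralizer (C0 : Set G) ≤ C0) : C0 = X := by
  set Z0 : Subgroup G := C0 ⊓ Subgroup.centralizer (C0 : Set G) with hZ0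
  have hXZ : X ≤ Subgroup.centralizer ((Z0 : Subgroup G) : Set G) :=
    (crit_center_central C hcyc hC0X hC0).2
  have hZ0X : Z0 ≤ X := inf_le_left.trans hC0X
  have hZ0n : Z0.Normal := by
    haveI := hC0
    exact inferInstance
  have hZ0ab : IsMulCommutative ↥Z0 := by
    refine ⟨⟨?_⟩⟩
    intro a b
    ext
    simp only [Subgroup.coe_mul]
    exact (Subgroup.mem_centralizer_iff.1 b.2.2 a.1 a.2.1)
  have hZc : IsCyclic ↥Z0 := hcyc Z0 hZ0X hZ0n hZ0ab
  have hXCZ : X ⊓ Subgroup.centralizer (Z0 : Set G) = X := inf_eq_left.2 hXZ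
  have hXCC : X ⊓ Subgroup.centralizer (C0 : Set G) = Z0 := by
    apply le_antisymm
    · intro g hg
      exact ⟨hself hg, hg.2⟩
    · intro g hg
      exact ⟨hC0X hg.1, hg.2⟩
  have key := ng_ieq_induct hZc hXZ hC0X hsq hcomm (Nat.card ↥Z0 * Nat.card ↥X)
    (Nat.card ↥C0 - Nat.card ↥Z0) Z0 inf_le_left le_rfl (by rw [hXCZ])
  rw [hXCC] at key
  have hpos : 0 < Nat.card ↥Z0 := Nat.card_pos
  have hle : Nat.card ↥X ≤ Nat.card ↥C0 := by
    have : Nat.card ↥Z0 * Nat.card ↥X ≤ Nat.card ↥Z0 * Nat.card ↥C0 := by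
      rw [mul_comm (Nat.card ↥Z0) (Nat.card ↥C0)]; exact key
    exact Nat.le_of_mul_le_mul_left this hpos
  exact Subgroup.eq_of_le_of_card_ge hC0X hle

end Cfsg.Agent.Helper17.NG
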