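import Mathlib
import Cfsg.Agent.Lib.NG.NGDefs
import Cfsg.Agent.Lib.MB.MBPHIPROPS
import Cfsg.Agent.Lib.Helper28.LargeStructA

/-! S1904 piece NG-IES (helper17 design; see plans/S1904_plan.md).  STUB: overwrite this file,
keeping the statement(s), namespace and imports (you may ADD imports of non-NG library files).
Aux lemmas: fresh names `ng_ies_...`. -/

set_option autoImplicit false

namespace Cfsg.Agent.Helper17.NG

variable {G : Type*} [Group G]

/-- the center of `↥X` is `(ZS X).subgroupOf X`. -/
theorem ng_ies_center_eq (X : Subgroup G) :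
    Subgroup.center ↥X = (ZS X).subgroupOf X := by
  ext x
  rw [Subgroup.mem_center_iff, Subgroup.mem_subgroupOf]
  unfold ZS
  rw [Subgroup.mem_inf, Subgroup.mem_centralizer_iff]
  constructor
  · intro h
    refine ⟨x.2, ?_⟩
    intro g hg
    have := h ⟨g, hg⟩
    exact congrArg Subtype.val this
  · rintro ⟨-, h⟩ g
    apply Subtype.ext
    exact h g.1 g.2

/-- the commutator subgroup of `↥X` is `⁅X, X⁆.subgroupOf X`. -/
theorem ng_ies_comm_eq (X : Subgroup G) :
    commutator ↥X = (⁅X, X⁆).subgroupOf X := by
  have hXX : ⁅X, X⁆ = (commutator ↥X).map X.subtype := by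
    rw [commutator_def, Subgroup.map_commutator, ← MonoidHom.range_eq_map, Subgroup.range_subtype]
  rw [hXX]
  unfold Subgroup.subgroupOf
  rw [Subgroup.comap_map_eq_self_of_injective X.subtype_injective]

/-- `CES` gives `IsExtraspecial 2 ↥X` (`center`, `commutator` as in `concl_of_c64`; `frattini ↥X`:
`≤ Z` since `X/Z` is elementary abelian, `≥` since it contains the commutator subgroup). -/
theorem ces_extraspecial [Finite G] {X Z : Subgroup G} (hX2 : IsPGroup 2 ↥X) (hZ : CES X Z) :
    Cfsg.IsExtraspecial 2 ↥X := by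
  haveI : Fact (Nat.Prime 2) := ⟨Nat.prime_two⟩
  have hcen : Subgroup.center ↥X = Z.subgroupOf X := by
    rw [ng_ies_center_eq, hZ.center]
  have hcom : commutator ↥X = Z.subgroupOf X := by
    rw [ng_ies_comm_eq, hZ.comm]
  have hZX : Z ≤ X := by
    rw [← hZ.center]
    exact inf_le_left
  obtain ⟨h1, h2⟩ := Cfsg.Agent.S0012.result 2 hX2
  have hfr : frattini ↥X = Subgroup.center ↥X := by
    apply le_antisymm
    · apply Cfsg.Agent.Helper28.LargeStruct.frattini_le_of_quot_elem
      · intro a
        rw [hcen, Subgroup.mem_subgroupOf]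
        have := hZ.sq a.1 a.2
        rw [pow_two] at this
        exact this
      · intro a b
        have : a * b * a⁻¹ * b⁻¹ ∈ commutator ↥X := by
          rw [commutator_def]
          exact Subgroup.commutator_mem_commutator (Subgroup.mem_top a) (Subgroup.mem_top b)
        rw [hcom] at this
        rw [hcen]
        exact this
    · rw [hcen, ← hcom]
      exact h1
  refine ⟨⟨hX2, hfr, ?_⟩, ?_⟩
  · rw [hcom, hcen]
  · rw [hcen]
    rw [Nat.card_congr (Subgroup.subgroupOfEquivOfLe hZX).toEquiv]
    exact hZ.card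

end Cfsg.Agent.Helper17.NG
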