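import Mathlib
import Cfsg.Agent.Lib.NG.NGDefs
import Cfsg.Agent.Lib.Helper16.Q8Aut
import Cfsg.Agent.Lib.NG.NGFIXQ
import Cfsg.Agent.S4189

/-! S1904 piece NG-IQ8 (helper17 design; see plans/S1904_plan.md).  STUB: overwrite this file,
keeping the statement(s), namespace and imports (you may ADD imports of non-NG library files).
Aux lemmas: fresh names `ng_iq8_...`. -/

set_option autoImplicit false

namespace Cfsg.Agent.Helper17.NG

variable {G : Type*} [Group G]

/-- `card X = 8`.  `X/Z` has order 4.  By `fix_quot` (`N = Z = ⁅X,X⁆`) no nontrivial coset of `Z` in `X`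
is `H`-fixed, so some `h ∈ H` permutes the three nontrivial cosets cyclically (an odd-order permutation
of 3 points without... : the image of `H` in `Sym(3 cosets)` has odd order and no fixed point, so it
is transitive).  `H` centralises `Z` (order 2, normal).  `x ↦ x^2` is constant on cosets of `Z`
(`(x z)^2 = x^2`) and `(h x h⁻¹)^2 = x^2`, so all `x ∈ X \ Z` have the same square `s ∈ Z`.  If `s = 1`
then `X` has exponent 2, so abelian: contradiction.  So every `x ∈ X \ Z` has order 4: pick `b ∈ X \ Z`,
`y ∈ X \ (Z ⊔ zpowers b)`: `y^2 = b^2`, `y b y⁻¹ = b⁻¹` (`y b y⁻¹ b⁻¹ ∈ Z`, `≠ 1` else `X` abelian).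
Conclude with `Cfsg.Agent.Helper16.IsQ8.nonempty_mulEquiv` (Lib/Helper16/Q8Aut.lean; check its namespace)
applied in `↥X`.

(helper7: proved instead via the proved statement S4189: a nonabelian 2-group with `|P : P'| = 4`
and `Aut P` not a 2-group is `Q8`; here `Aut X` is not a 2-group because otherwise the odd-order
group `H` centralises `X`, so `X ≤ ⁅X,H⁆ = ⊥`.) -/
theorem ces_q8 [Finite G] {X H Z : Subgroup G} (C : Ctx X H) (hZ : CES X Z)
    (h8 : Nat.card ↥X = 8) : Nonempty (↥X ≃* QuaternionGroup 2) := by
  classical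
  haveI := C.normal
  apply Cfsg.Agent.S4189.result C.two C.nonab
  · -- `(commutator ↥X).index = 4`
    have h1 : (commutator ↥X).map X.subtype = Z := by
      rw [commutator_def, Subgroup.map_commutator, ← MonoidHom.range_eq_map, Subgroup.range_subtype]
      exact hZ.comm
    have h2 : Nat.card ↥(commutator ↥X) = 2 := by
      rw [← hZ.card, ← h1]
      exact Nat.card_congr
        (Subgroup.equivMapOfInjective _ _ X.subtype_injective).toEquiv
    have h3 := Subgroup.card_mul_index (commutator ↥X)
    rw [h2, h8] at h3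
    omega
  · -- `MulAut ↥X` is not a 2-group
    intro hA
    have htriv : ∀ h ∈ H, ∀ x ∈ X, h * x * h⁻¹ = x := by
      intro h hh x hx
      obtain ⟨k, hk⟩ := hA (MulAut.conjNormal h : MulAut ↥X)
      have hhH : h ^ Nat.card ↥H = 1 := by
        have h3 := pow_card_eq_one' (G := ↥H) (x := ⟨h, hh⟩)
        have h4 : ((⟨h, hh⟩ : ↥H) ^ Nat.card ↥H : ↥H).1 = ((1 : ↥H) : G) :=
          congrArg Subtype.val h3
        rw [Subgroup.coe_pow, Subgroup.coe_one] at h4
        exact h4
      have hH : (MulAut.conjNormal h : MulAut ↥X) ^ Nat.card ↥H = 1 := by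
        rw [← map_pow, hhH, map_one]
      have hcop : Nat.gcd (2 ^ k) (Nat.card ↥H) = 1 :=
        Nat.Coprime.pow_left k C.odd.symm
      have h1 : (MulAut.conjNormal h : MulAut ↥X) = 1 := by
        have h5 := pow_gcd_eq_one.mpr ⟨hk, hH⟩
        rw [hcop, pow_one] at h5
        exact h5
      have h6 := congrArg (fun β : MulAut ↥X => ((β ⟨x, hx⟩ : ↥X) : G)) h1
      simpa [MulAut.conjNormal_apply] using h6
    have hbot : ⁅X, H⁆ = ⊥ := by
      rw [Subgroup.commutator_eq_bot_iff_le_centralizer]
      intro x hx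
      rw [Subgroup.mem_centralizer_iff]
      intro h hh
      have h7 := htriv h hh x hx
      calc h * x = h * x * h⁻¹ * h := by group
        _ = x * h := by rw [h7]
    have hX : X = ⊥ := le_bot_iff.mp (C.comm.trans hbot.le)
    rw [hX] at h8
    simp at h8

end Cfsg.Agent.Helper17.NG
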