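import Mathlib
import Cfsg.Agent.Lib.NG.NGDefs

/-! S1904 piece NG-MAXAB (helper17 design; see plans/S1904_plan.md).  STUB: overwrite this file,
keeping the statement(s), namespace and imports (you may ADD imports of non-NG library files).
Aux lemmas: fresh names `ng_maxab_...`. -/

set_option autoImplicit false

namespace Cfsg.Agent.Helper17.NG

variable {G : Type*} [Group G]

/-- finiteness: a maximal element among normal abelian subgroups of `X` containing `B`. -/
theorem exists_isMaxAb [Finite G] {X B : Subgroup G} (hBX : B ≤ X) (hB : B.Normal)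
    (hBc : IsMulCommutative ↥B) : ∃ M, IsMaxAb X M ∧ B ≤ M := by
  classical
  have h0 : (fun M : Subgroup G => M ≤ X ∧ M.Normal ∧ IsMulCommutative ↥M ∧ B ≤ M) B :=
    ⟨hBX, hB, hBc, le_rfl⟩
  obtain ⟨M, hBM, hM⟩ := Finite.exists_le_maximal
    (p := fun M : Subgroup G => M ≤ X ∧ M.Normal ∧ IsMulCommutative ↥M ∧ B ≤ M) h0
  obtain ⟨⟨hMX, hMn, hMc, hBM'⟩, hmax⟩ := hM
  refine ⟨M, ⟨hMX, hMn, hMc, ?_⟩, hBM⟩
  intro C hCX hCn hCc hMC
  exact le_antisymm (hmax ⟨hCX, hCn, hCc, hBM.trans hMC⟩ hMC) hMC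

end Cfsg.Agent.Helper17.NG
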