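import Mathlib
import Cfsg.Agent.Lib.NG.NGDefs
import Cfsg.Agent.Lib.NG.NGHCENT
import Cfsg.Agent.Lib.NG.NGCENTH

/-! S1904 piece NG-R1CENT (helper17 design; see plans/S1904_plan.md). -/

set_option autoImplicit false

namespace Cfsg.Agent.Helper17.NG

variable {G : Type*} [Group G]

/-- Regime 1: every `G`-normal abelian `B ≤ X` is centralised by `H` and by `X`.
`B` is a 2-group (`B ≤ X`), its involutions lie in `V` (`hV.inv`, `B` normal so normalised by `X`), `H`
centralises `V`; `H_centralizes_of_inv` then `centralizes_of_H`. -/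
theorem r1_central [Finite G] {X H V B : Subgroup G} (C : Ctx X H) (hV : IsV X V)
    (hH : H ≤ Subgroup.centralizer (V : Set G)) (hBX : B ≤ X) (hB : B.Normal)
    (hBc : IsMulCommutative ↥B) :
    H ≤ Subgroup.centralizer (B : Set G) ∧ X ≤ Subgroup.centralizer (B : Set G) := by
  have hnorm : Subgroup.normalizer (B : Set G) = ⊤ := Subgroup.normalizer_eq_top_iff.mpr hB
  have hB2 : IsPGroup 2 ↥B := by
    intro b
    obtain ⟨k, hk⟩ := C.two ⟨b.1, hBX b.2⟩
    refine ⟨k, ?_⟩
    have h1 := congrArg Subtype.val hk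
    rw [Subgroup.coe_pow, Subgroup.coe_one] at h1
    apply Subtype.ext
    rw [Subgroup.coe_pow, Subgroup.coe_one]
    exact h1
  have hHB : H ≤ Subgroup.normalizer (B : Set G) := by
    rw [hnorm]; exact le_top
  have hXB : X ≤ Subgroup.normalizer (B : Set G) := by
    rw [hnorm]; exact le_top
  have hinv : ∀ b ∈ B, b ^ 2 = 1 → ∀ h ∈ H, h * b * h⁻¹ = b := by
    intro b hb hb2 h hh
    have hbV : b ∈ V := hV.inv B hBX hXB hBc b hb hb2
    have h1 := hH hh
    rw [Subgroup.mem_centralizer_iff] at h1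
    have h2 : b * h = h * b := h1 b hbV
    rw [← h2]
    group
  have hHc : H ≤ Subgroup.centralizer (B : Set G) :=
    H_centralizes_of_inv C.odd hB2 hBc hHB hinv
  exact ⟨hHc, centralizes_of_H C hB hHc⟩

end Cfsg.Agent.Helper17.NG
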