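import Mathlib
import Cfsg.Agent.Lib.NG.NGDefs
import Cfsg.Agent.Lib.NG.NGR1CENT
import Cfsg.Agent.Lib.NG.NGUPMEM
import Cfsg.Agent.Lib.NG.NGUPSAND

/-! S1904 piece NG-R1FIX (helper17 design; see plans/S1904_plan.md).  Proved by helper26. -/

set_option autoImplicit false

namespace Cfsg.Agent.Helper17.NG

variable {G : Type*} [Group G]

/-- `B := ZS X ⊔ zpowers w` is abelian, normalised by `X` (`sandwich_normal`) and by `H` (`hfix`), so normal in
`G` (`C.sup`); `r1_central` gives `w ∈ C(X)`. -/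
theorem r1_no_fix [Finite G] {X H V : Subgroup G} (C : Ctx X H) (hV : IsV X V)
    (hH : H ≤ Subgroup.centralizer (V : Set G)) {w : G} (hw : w ∈ Up X (ZS X))
    (hfix : ∀ h ∈ H, h * w * h⁻¹ * w⁻¹ ∈ ZS X) : w ∈ ZS X := by
  haveI hXn : X.Normal := C.normal
  have hZn : (ZS X).Normal := by
    unfold ZS
    infer_instance
  have hZX : ZS X ≤ X := inf_le_left
  have hwX : w ∈ X := Up_le X (ZS X) hw
  set B : Subgroup G := ZS X ⊔ Subgroup.zpowers w with hBdef
  have hZB : ZS X ≤ B := le_sup_left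
  have hwB : w ∈ B := Subgroup.mem_sup_right (Subgroup.mem_zpowers w)
  have hBX : B ≤ X := sup_le hZX (by rw [Subgroup.zpowers_le]; exact hwX)
  have hBUp : B ≤ Up X (ZS X) :=
    sup_le (le_Up hZn hZX) (by rw [Subgroup.zpowers_le]; exact hw)
  -- `B` is commutative
  have hcommZ : ∀ z ∈ ZS X, ∀ x ∈ X, x * z = z * x := fun z hz x hx =>
    Subgroup.mem_centralizer_iff.1 hz.2 x hx
  have hK : ∀ k : G, (∀ z ∈ ZS X, z * k = k * z) → w * k = k * w → ∀ b ∈ B, b * k = k * b := by
    intro k hk1 hk2 b hb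
    have hle : B ≤ Subgroup.centralizer ({k} : Set G) := by
      refine sup_le ?_ ?_
      · intro z hz
        rw [Subgroup.mem_centralizer_iff]
        intro y hy
        rw [Set.mem_singleton_iff] at hy
        subst hy
        exact (hk1 z hz).symm
      · rw [Subgroup.zpowers_le, Subgroup.mem_centralizer_iff]
        intro y hy
        rw [Set.mem_singleton_iff] at hy
        subst hy
        exact hk2.symm
    have := Subgroup.mem_centralizer_iff.1 (hle hb) k (Set.mem_singleton k)
    exact this.symm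
  have hBcomm : ∀ a ∈ B, ∀ b ∈ B, b * a = a * b := by
    intro a ha b hb
    refine hK a ?_ ?_ b hb
    · intro z hz
      -- `a ∈ B ≤ X` commutes with `z ∈ Z(X)`
      exact (hcommZ z hz a (hBX ha)).symm
    · -- `w * a = a * w`: `a ∈ B`, apply `hK` with `k = w`
      have := hK w (fun z hz => (hcommZ z hz w hwX).symm) rfl a ha
      exact this.symm
  have hBc : IsMulCommutative ↥B :=
    ⟨⟨fun a b => Subtype.ext (hBcomm (b : G) b.2 (a : G) a.2)⟩⟩
  -- `B` is normal in `G`
  have hXB : X ≤ Subgroup.normalizer (B : Set G) := sandwich_normal hZn hZB hBUp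
  have hconj : ∀ h ∈ H, ∀ n ∈ B, h * n * h⁻¹ ∈ B := by
    intro h hh n hn
    have hmap : B.map (MulAut.conj h).toMonoidHom ≤ B := by
      rw [hBdef, Subgroup.map_sup]
      refine sup_le ?_ ?_
      · rintro y ⟨z, hz, rfl⟩
        exact hZB (hZn.conj_mem z hz h)
      · rw [MonoidHom.map_zpowers, Subgroup.zpowers_le]
        show h * w * h⁻¹ ∈ B
        have e : h * w * h⁻¹ = (h * w * h⁻¹ * w⁻¹) * w := by group
        rw [e]
        exact B.mul_mem (hZB (hfix h hh)) hwB
    exact hmap ⟨n, hn, rfl⟩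
  have hHB : H ≤ Subgroup.normalizer (B : Set G) := by
    intro h hh
    rw [Subgroup.mem_normalizer_iff]
    intro n
    constructor
    · exact hconj h hh n
    · intro hn
      have := hconj h⁻¹ (H.inv_mem hh) _ hn
      simpa [mul_assoc] using this
  have hBn : B.Normal := by
    rw [← Subgroup.normalizer_eq_top_iff, eq_top_iff, ← C.sup]
    exact sup_le hXB hHB
  have hcent := (r1_central C hV hH hBX hBn hBc).2
  refine Subgroup.mem_inf.2 ⟨hwX, ?_⟩
  rw [Subgroup.mem_centralizer_iff]
  intro x hx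
  exact (Subgroup.mem_centralizer_iff.1 (hcent hx) w hwB).symm

end Cfsg.Agent.Helper17.NG
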