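import Mathlib
import Cfsg.Agent.Lib.NG.NGDefs
import Cfsg.Agent.Lib.Helper1.CoprimeAbelian
import Cfsg.Agent.Lib.NG.NGR1CENT
import Cfsg.Agent.Lib.NG.NGR1FIX
import Cfsg.Agent.Lib.NG.NGUPMEM
import Cfsg.Agent.Lib.NG.NGOMSQ

/-! S1904 piece NG-R1SQ (helper17 design; see plans/S1904_plan.md).  Proved by helper11:
the norm-map argument is carried out inside `G` with list products, congruences modulo `Z`. -/

set_option autoImplicit false

namespace Cfsg.Agent.Helper17.NG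

variable {G : Type*} [Group G]

/-- products of permuted lists of elements of `W` agree modulo `Z ⊇ [W,W]`. -/
theorem ng_r1sq_perm (Z W : Subgroup G) (hZ : Z.Normal)
    (hab : ∀ a ∈ W, ∀ b ∈ W, a * b * a⁻¹ * b⁻¹ ∈ Z) {L L' : List G} (hp : L.Perm L') :
    (∀ x ∈ L, x ∈ W) → L.prod * L'.prod⁻¹ ∈ Z := by
  induction hp with
  | nil => intro _; simp
  | @cons x l₁ l₂ _ ih =>
    intro hL
    have h1 := ih (fun y hy => hL y (List.mem_cons_of_mem _ hy))
    rw [List.prod_cons, List.prod_cons]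
    have e : x * l₁.prod * (x * l₂.prod)⁻¹ = x * (l₁.prod * l₂.prod⁻¹) * x⁻¹ := by group
    rw [e]
    exact hZ.conj_mem _ h1 x
  | swap x y l =>
    intro hL
    rw [List.prod_cons, List.prod_cons, List.prod_cons, List.prod_cons]
    have e : y * (x * l.prod) * (x * (y * l.prod))⁻¹ = y * x * y⁻¹ * x⁻¹ := by group
    rw [e]
    exact hab y (hL y List.mem_cons_self) x (hL x (List.mem_cons_of_mem _ List.mem_cons_self))
  | @trans l₁ l₂ l₃ h12 _ ih1 ih2 =>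
    intro hL
    have h1 := ih1 hL
    have h2 := ih2 (fun y hy => hL y (h12.mem_iff.mpr hy))
    have e : l₁.prod * l₃.prod⁻¹ = (l₁.prod * l₂.prod⁻¹) * (l₂.prod * l₃.prod⁻¹) := by group
    rw [e]
    exact Z.mul_mem h1 h2

/-- the product of the `H`-conjugates of `w` is congruent to a power of `w` modulo `W1`. -/
theorem ng_r1sq_prod_pow (W1 W H : Subgroup G) (w : G) (hw : w ∈ W)
    (hconj : ∀ a ∈ W, ∀ b ∈ W1, a * b * a⁻¹ ∈ W1)
    (hcomm : ∀ h ∈ H, h * w * h⁻¹ * w⁻¹ ∈ W1) (L : List G) (hL : ∀ h ∈ L, h ∈ H) :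
    (L.map (fun h => h * w * h⁻¹)).prod * (w ^ L.length)⁻¹ ∈ W1 := by
  induction L with
  | nil => simp
  | cons h L ih =>
    have h1 := ih (fun y hy => hL y (List.mem_cons_of_mem _ hy))
    have h2 := hcomm h (hL h List.mem_cons_self)
    rw [List.map_cons, List.prod_cons, List.length_cons, pow_succ']
    have e : h * w * h⁻¹ * (L.map (fun h => h * w * h⁻¹)).prod * (w * w ^ L.length)⁻¹ =
        (h * w * h⁻¹ * w⁻¹) *
          (w * ((L.map (fun h => h * w * h⁻¹)).prod * (w ^ L.length)⁻¹) * w⁻¹) := by group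
    rw [e]
    exact W1.mul_mem h2 (hconj w hw _ h1)

theorem ng_r1sq_conj_prod (k w : G) (L : List G) :
    k * (L.map (fun h => h * w * h⁻¹)).prod * k⁻¹ =
      ((L.map (fun h => k * h)).map (fun h => h * w * h⁻¹)).prod := by
  induction L with
  | nil => simp
  | cons h L ih =>
    simp only [List.map_cons, List.prod_cons]
    rw [← ih]
    group

/-- coprime action on the abelian section `W/Z`, internal form: if `H` (of odd order) has no fixed
point on `W/Z` (of exponent 2) and `[W,H] ⊆ W1 ⊇ Z` then `W ≤ W1`. -/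
theorem ng_r1sq_abstract [Finite G] (Z W1 W H : Subgroup G) (hZ : Z.Normal)
    (hZW1 : Z ≤ W1) (hW1W : W1 ≤ W) (hWn : ∀ h ∈ H, ∀ w ∈ W, h * w * h⁻¹ ∈ W)
    (hab : ∀ a ∈ W, ∀ b ∈ W, a * b * a⁻¹ * b⁻¹ ∈ Z)
    (hcomm : ∀ h ∈ H, ∀ w ∈ W, h * w * h⁻¹ * w⁻¹ ∈ W1)
    (hfix : ∀ w ∈ W, (∀ h ∈ H, h * w * h⁻¹ * w⁻¹ ∈ Z) → w ∈ Z)
    (hsq : ∀ w ∈ W, w ^ 2 ∈ Z) (hodd : (Nat.card ↥H).Coprime 2) : W ≤ W1 := by
  classical
  intro w hw
  letI : Fintype ↥H := Fintype.ofFinite _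
  let L : List G := (Finset.univ : Finset ↥H).toList.map Subtype.val
  have hLmem : ∀ x, x ∈ L ↔ x ∈ H := by
    intro x
    constructor
    · intro hx
      obtain ⟨y, _, rfl⟩ := List.mem_map.mp hx
      exact y.2
    · intro hx
      exact List.mem_map.mpr ⟨⟨x, hx⟩, Finset.mem_toList.mpr (Finset.mem_univ _), rfl⟩
  have hLnd : L.Nodup := (Finset.nodup_toList _).map Subtype.val_injective
  have hLlen : L.length = Nat.card ↥H := by
    rw [List.length_map, Finset.length_toList, Finset.card_univ, Nat.card_eq_fintype_card]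
  have hcW : ∀ x ∈ L.map (fun h => h * w * h⁻¹), x ∈ W := by
    intro x hx
    obtain ⟨h, hh, rfl⟩ := List.mem_map.mp hx
    exact hWn h ((hLmem h).mp hh) w hw
  have hPW : (L.map (fun h => h * w * h⁻¹)).prod ∈ W := Subgroup.list_prod_mem _ hcW
  have hconj : ∀ a ∈ W, ∀ b ∈ W1, a * b * a⁻¹ ∈ W1 := by
    intro a ha b hb
    have := hab a ha b (hW1W hb)
    have e : a * b * a⁻¹ = (a * b * a⁻¹ * b⁻¹) * b := by group
    rw [e]
    exact W1.mul_mem (hZW1 this) hb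
  have hPpow : (L.map (fun h => h * w * h⁻¹)).prod * (w ^ L.length)⁻¹ ∈ W1 :=
    ng_r1sq_prod_pow W1 W H w hw hconj (fun h hh => hcomm h hh w hw) L
      (fun h hh => (hLmem h).mp hh)
  have hPZ : (L.map (fun h => h * w * h⁻¹)).prod ∈ Z := by
    apply hfix _ hPW
    intro k hk
    rw [ng_r1sq_conj_prod k w L]
    have hperm : (L.map (fun h => k * h)).Perm L := by
      rw [List.perm_ext_iff_of_nodup (hLnd.map (mul_right_injective k)) hLnd]
      intro a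
      rw [List.mem_map, hLmem]
      constructor
      · rintro ⟨h, hh, rfl⟩
        exact H.mul_mem hk ((hLmem h).mp hh)
      · intro ha
        exact ⟨k⁻¹ * a, (hLmem _).mpr (H.mul_mem (H.inv_mem hk) ha), by group⟩
    have hperm' := hperm.map (fun h => h * w * h⁻¹)
    refine ng_r1sq_perm Z W hZ hab hperm' ?_
    intro x hx
    exact hcW x (hperm'.mem_iff.mp hx)
  have h2 : w ^ L.length ∈ W1 := by
    have := W1.mul_mem (W1.inv_mem hPpow) (hZW1 hPZ)
    have e : ((L.map (fun h => h * w * h⁻¹)).prod * (w ^ L.length)⁻¹)⁻¹ *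
        (L.map (fun h => h * w * h⁻¹)).prod = w ^ L.length := by group
    rwa [e] at this
  rw [hLlen] at h2
  obtain ⟨m, hm⟩ : ∃ m, Nat.card ↥H = 2 * m + 1 := by
    have h1 : Nat.card ↥H % 2 = 1 := by
      rcases Nat.mod_two_eq_zero_or_one (Nat.card ↥H) with h0 | h1
      · exfalso
        have hd : 2 ∣ Nat.card ↥H := Nat.dvd_of_mod_eq_zero h0
        have := Nat.Coprime.eq_one_of_dvd hodd.symm hd
        omega
      · exact h1
    exact ⟨Nat.card ↥H / 2, by omega⟩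
  rw [hm] at h2
  have h3 : w = ((w ^ 2) ^ m)⁻¹ * w ^ (2 * m + 1) := by
    rw [← pow_mul, pow_succ]
    group
  rw [h3]
  exact W1.mul_mem (W1.inv_mem (W1.pow_mem (hZW1 (hsq w hw)) m)) h2

/-- the subgroup `{w ∈ W | w ^ 2 ∈ Z1}` (given closure under products). -/
def ng_r1sq_sub (W Z1 : Subgroup G)
    (hmul : ∀ a ∈ W, ∀ b ∈ W, a ^ 2 ∈ Z1 → b ^ 2 ∈ Z1 → (a * b) ^ 2 ∈ Z1) : Subgroup G where
  carrier := {w | w ∈ W ∧ w ^ 2 ∈ Z1}
  one_mem' := ⟨W.one_mem, by rw [one_pow]; exact Z1.one_mem⟩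
  mul_mem' := fun ha hb => ⟨W.mul_mem ha.1 hb.1, hmul _ ha.1 _ hb.1 ha.2 hb.2⟩
  inv_mem' := fun ha => ⟨W.inv_mem ha.1, by rw [inv_pow]; exact Z1.inv_mem ha.2⟩

theorem r1_sq_mem [Finite G] {X H V : Subgroup G} (C : Ctx X H) (hV : IsV X V)
    (hH : H ≤ Subgroup.centralizer (V : Set G)) :
    ∀ w ∈ Up X (ZS X), w ^ 2 ∈ V ⊔ Sq (ZS X) := by
  haveI hXn : X.Normal := C.normal
  have hZn : (ZS X).Normal := by
    unfold ZS
    infer_instance
  have hZX : ZS X ≤ X := inf_le_left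
  have hcommZ : ∀ z ∈ ZS X, ∀ x ∈ X, x * z = z * x := fun z hz x hx =>
    Subgroup.mem_centralizer_iff.1 hz.2 x hx
  have hZc : IsMulCommutative ↥(ZS X) :=
    ⟨⟨fun a b => Subtype.ext (hcommZ (b : G) b.2 (a : G) (hZX a.2))⟩⟩
  have hcent := r1_central C hV hH hZX hZn hZc
  have hHZ : ∀ h ∈ H, ∀ z ∈ ZS X, h * z * h⁻¹ = z := by
    intro h hh z hz
    have := Subgroup.mem_centralizer_iff.1 (hcent.1 hh) z hz
    rw [← this]
    group
  have hXnZ : X ≤ Subgroup.normalizer ((ZS X : Subgroup G) : Set G) := by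
    haveI := hZn
    rw [Subgroup.normalizer_eq_top]
    exact le_top
  have hWn : (Up X (ZS X)).Normal := Up_normal hXn hZn
  have hWX : Up X (ZS X) ≤ X := Up_le X (ZS X)
  have hVZ : V ≤ ZS X := fun v hv => ⟨hV.le hv, by
    show v ∈ Subgroup.centralizer (X : Set G)
    rw [Subgroup.mem_centralizer_iff]
    intro x hx
    exact (Subgroup.mem_centralizer_iff.1 (hV.central hx) v hv).symm⟩
  have hZ1Z : V ⊔ Sq (ZS X) ≤ ZS X := sup_le hVZ (Sq_le _)
  -- the key formula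
  have hkey : ∀ a ∈ Up X (ZS X), ∀ b ∈ Up X (ZS X),
      b * a * b⁻¹ * a⁻¹ ∈ V ∧ (a * b) ^ 2 = (b * a * b⁻¹ * a⁻¹) * a ^ 2 * b ^ 2 := by
    intro a ha b hb
    have haX := hWX ha
    have hbX := hWX hb
    have ha' := (mem_Up hZn).mp ha
    have hb' := (mem_Up hZn).mp hb
    have hk : b * a * b⁻¹ * a⁻¹ ∈ ZS X := hb'.2.1 a haX
    have hka : a * (b * a * b⁻¹ * a⁻¹) = (b * a * b⁻¹ * a⁻¹) * a := hcommZ _ hk a haX
    have hk2 : (b * a * b⁻¹ * a⁻¹) ^ 2 = 1 := by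
      have h1 : b * a ^ 2 * b⁻¹ = a ^ 2 := by
        rw [hcommZ (a ^ 2) ha'.2.2 b hbX]
        group
      have h2 : b * a ^ 2 * b⁻¹ = ((b * a * b⁻¹ * a⁻¹) * a) * ((b * a * b⁻¹ * a⁻¹) * a) := by
        simp only [pow_two]
        group
      have h3 : ((b * a * b⁻¹ * a⁻¹) * a) * ((b * a * b⁻¹ * a⁻¹) * a) =
          (b * a * b⁻¹ * a⁻¹) ^ 2 * a ^ 2 := by
        rw [mul_assoc, ← mul_assoc a, hka, pow_two, pow_two]
        simp only [mul_assoc]
      rw [h2, h3] at h1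
      exact mul_eq_right.mp h1
    refine ⟨hV.inv (ZS X) hZX hXnZ hZc _ hk hk2, ?_⟩
    have e : (a * b) ^ 2 = a * (b * a * b⁻¹ * a⁻¹) * (a * b ^ 2) := by
      simp only [pow_two]
      group
    rw [e, hka, pow_two a]
    simp only [mul_assoc]
  have hmul : ∀ a ∈ Up X (ZS X), ∀ b ∈ Up X (ZS X), a ^ 2 ∈ V ⊔ Sq (ZS X) →
      b ^ 2 ∈ V ⊔ Sq (ZS X) → (a * b) ^ 2 ∈ V ⊔ Sq (ZS X) := by
    intro a ha b hb ha2 hb2
    obtain ⟨h1, h2⟩ := hkey a ha b hb
    rw [h2]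
    exact Subgroup.mul_mem _ (Subgroup.mul_mem _ (Subgroup.mem_sup_left h1) ha2) hb2
  have hle : Up X (ZS X) ≤ ng_r1sq_sub (Up X (ZS X)) (V ⊔ Sq (ZS X)) hmul := by
    refine ng_r1sq_abstract (ZS X) _ (Up X (ZS X)) H hZn ?_ ?_ ?_ ?_ ?_ ?_ ?_ C.odd
    · intro z hz
      refine ⟨le_Up hZn hZX hz, Subgroup.mem_sup_right ?_⟩
      exact Subgroup.subset_closure ⟨z, hz, rfl⟩
    · intro w hw
      exact hw.1
    · intro h _ w hw
      exact hWn.conj_mem w hw h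
    · intro a ha b hb
      exact ((mem_Up hZn).mp ha).2.1 b (hWX hb)
    · intro h hh w hw
      have hc : h * w * h⁻¹ ∈ Up X (ZS X) := hWn.conj_mem w hw h
      have hwi : w⁻¹ ∈ Up X (ZS X) := Subgroup.inv_mem _ hw
      refine ⟨Subgroup.mul_mem _ hc hwi, ?_⟩
      obtain ⟨h1, h2⟩ := hkey _ hc _ hwi
      rw [h2]
      have h3 : (h * w * h⁻¹) ^ 2 = w ^ 2 := by
        have : (h * w * h⁻¹) ^ 2 = h * w ^ 2 * h⁻¹ := by
          simp only [pow_two]
          group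
        rw [this]
        exact hHZ h hh _ ((mem_Up hZn).mp hw).2.2
      rw [h3, inv_pow, mul_assoc, mul_inv_cancel, mul_one]
      exact Subgroup.mem_sup_left h1
    · intro w hw hfix
      exact r1_no_fix C hV hH hw hfix
    · intro w hw
      exact ((mem_Up hZn).mp hw).2.2
  intro w hw
  exact (hle hw).2

end Cfsg.Agent.Helper17.NG
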