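import Mathlib
import Cfsg.Agent.Lib.NG.NGDefs
import Cfsg.Agent.Lib.NG.NGR1SQ
import Cfsg.Agent.Lib.NG.NGANISO
import Cfsg.Agent.Lib.NG.NGTHREE
import Cfsg.Agent.Lib.NG.NGUPMEM
import Cfsg.Agent.Lib.NG.NGOMSQ

/-! S1904 piece NG-R1CARD (helper17 design; see plans/S1904_plan.md).  Proved by helper25. -/

set_option autoImplicit false

namespace Cfsg.Agent.Helper17.NG

variable {G : Type*} [Group G]

/-- picking an element of `W` avoiding finitely many cosets of `Z`. -/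
theorem ng_r1card_pick [Finite G] {Z W : Subgroup G} (n : ℕ) (c : Fin n → G)
    (h : n * Nat.card ↥Z < Nat.card ↥W) : ∃ w ∈ W, ∀ i, c i * w ∉ Z := by
  by_contra hcon
  push_neg at hcon
  have h' : ∀ w : ↥W, ∃ i, c i * (w : G) ∈ Z := fun w => hcon w.1 w.2
  choose i hi using h'
  let ψ : ↥W → Fin n × ↥Z := fun w => (i w, ⟨c (i w) * (w : G), hi w⟩)
  have hψ : Function.Injective ψ := by
    intro w w' hww
    have h1 : i w = i w' := congrArg Prod.fst hww
    have h2 : c (i w) * (w : G) = c (i w') * (w' : G) :=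
      congrArg (fun p : Fin n × ↥Z => ((p.2 : ↥Z) : G)) hww
    rw [h1] at h2
    exact Subtype.ext (mul_left_cancel h2)
  have := Nat.card_le_card_of_injective ψ hψ
  rw [Nat.card_prod, Nat.card_fin] at this
  omega

/-- the internal centre is commutative -/
theorem ng_r1card_comm (X : Subgroup G) : IsMulCommutative ↥(ZS X) := by
  refine ⟨⟨fun a b => Subtype.ext ?_⟩⟩
  have ha : (a : G) ∈ X := a.2.1
  have hb : (b : G) ∈ Subgroup.centralizer (X : Set G) := b.2.2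
  exact (Subgroup.mem_centralizer_iff.1 hb (a : G) ha)

/-- Assume `Z := ZS X ≠ V`.  `V = Om Z` has order 4, so `Z` has an element of order 4 and
`V ⊓ Sq Z ≠ ⊥`; hence `Z1 := V ⊔ Sq Z` satisfies `(Sq Z).relIndex Z1 ≤ 2`.  For `w ∈ W \ Z`
(`W = Up X Z`): `w^2 ∈ Z1` (`r1_sq_mem`) and `w^2 ∉ Sq Z` (`aniso` with `N = Z`: if `w^2 = z^2` then
`(w z⁻¹)^2 = 1`).  If `card W > 4 * card Z` pick `w1 w2 w3 ∈ W` independent modulo `Z` (`W/Z` is
elementary abelian); all seven products have squares in the nontrivial coset of `Sq Z` in `Z1`;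
`three_sq` (inside `W`: squares and commutators lie in `Z`, central) gives `(w1 w2 w3)^2 ∈ Sq Z`,
contradiction. -/
theorem r1_up_card [Finite G] {X H V : Subgroup G} (C : Ctx X H) (hV : IsV X V)
    (hH : H ≤ Subgroup.centralizer (V : Set G)) (hne : ZS X ≠ V) :
    Nat.card ↥(Up X (ZS X)) ≤ 4 * Nat.card ↥(ZS X) := by
  by_contra hcon
  push_neg at hcon
  haveI : Fact (Nat.Prime 2) := ⟨Nat.prime_two⟩
  haveI hXn : X.Normal := C.normal
  have hZn : (ZS X).Normal := by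
    unfold ZS
    infer_instance
  have hZX : ZS X ≤ X := inf_le_left
  have hZcX : ZS X ≤ Subgroup.centralizer (X : Set G) := inf_le_right
  have hZc : IsMulCommutative ↥(ZS X) := ng_r1card_comm X
  have hVZ : V ≤ ZS X := by
    intro v hv
    have hvc : v ∈ Subgroup.centralizer (X : Set G) := by
      rw [Subgroup.mem_centralizer_iff]
      intro x hx
      have := Subgroup.mem_centralizer_iff.1 (hV.central hx) v hv
      exact this.symm
    exact ⟨hV.le hv, hvc⟩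
  -- involutions of `Z` lie in `V`
  have hinv : ∀ z ∈ ZS X, z ^ 2 = 1 → z ∈ V := by
    intro z hz hz2
    refine hV.inv (ZS X) hZX ?_ hZc z hz hz2
    rw [Subgroup.normalizer_eq_top]
    exact le_top
  have hOm : Om (ZS X) = V := by
    ext z
    rw [mem_Om hZc]
    constructor
    · rintro ⟨hz, hz2⟩
      exact hinv z hz hz2
    · intro hz
      exact ⟨hVZ hz, hV.sq z hz⟩
  have hcard := card_Om_mul_card_Sq hZc
  rw [hOm, hV.card] at hcard
  -- `Sq Z` is nontrivial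
  have hSq1 : Nat.card ↥(Sq (ZS X)) ≠ 1 := by
    intro h1
    rw [h1] at hcard
    apply hne
    symm
    apply Subgroup.eq_of_le_of_card_ge hVZ
    rw [hV.card]
    omega
  have hSqZ : Sq (ZS X) ≤ ZS X := Sq_le (ZS X)
  have hSq2 : IsPGroup 2 ↥(Sq (ZS X)) := C.two.to_le (hSqZ.trans hZX)
  have hSqn : (Sq (ZS X)).Normal := Sq_normal hZn
  have h2dvd : 2 ∣ Nat.card ↥(Sq (ZS X)) := (hSq2.card_eq_or_dvd).resolve_left hSq1
  obtain ⟨s, hs⟩ := exists_prime_orderOf_dvd_card' 2 h2dvd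
  have hs2 : (s : G) ^ 2 = 1 := by
    have h := pow_orderOf_eq_one s
    rw [hs] at h
    have := congrArg Subtype.val h
    simpa using this
  have hsV : (s : G) ∈ V := hinv s (hSqZ s.2) hs2
  -- the order of `Sq Z ⊓ V` is even
  have h2dvd' : 2 ∣ Nat.card ↥(Sq (ZS X) ⊓ V) := by
    have h1 := orderOf_dvd_natCard (⟨(s : G), ⟨s.2, hsV⟩⟩ : ↥(Sq (ZS X) ⊓ V))
    have h2 : orderOf (⟨(s : G), ⟨s.2, hsV⟩⟩ : ↥(Sq (ZS X) ⊓ V)) = 2 := by
      rw [← Subgroup.orderOf_coe]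
      show orderOf (s : G) = 2
      rw [Subgroup.orderOf_coe, hs]
    rw [h2] at h1
    exact h1
  -- the relative index
  have hrel : (Sq (ZS X)).relIndex (V ⊔ Sq (ZS X)) ∣ 2 := by
    have := hSqn
    rw [Subgroup.relIndex_sup_right, ← Subgroup.inf_relIndex_right]
    have h1 := Subgroup.relIndex_mul_relIndex ⊥ (Sq (ZS X) ⊓ V) V bot_le inf_le_right
    rw [Subgroup.relIndex_bot_left, Subgroup.relIndex_bot_left, hV.card] at h1
    obtain ⟨k, hk⟩ := h2dvd'
    rw [hk] at h1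
    refine ⟨k, ?_⟩
    have : 2 * (k * (Sq (ZS X) ⊓ V).relIndex V) = 2 * 2 := by
      rw [← mul_assoc]; exact h1
    have := Nat.eq_of_mul_eq_mul_left (by norm_num : 0 < 2) this
    rw [← this, mul_comm]
  -- the group `W`
  have hUpX : Up X (ZS X) ≤ X := Up_le X (ZS X)
  have hZUp : ZS X ≤ Up X (ZS X) := le_Up hZn hZX
  have hcXW : Subgroup.centralizer (X : Set G) ≤ Subgroup.centralizer (Up X (ZS X) : Set G) :=
    Subgroup.centralizer_le (fun x hx => hUpX hx)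
  have hWsq : ∀ w ∈ Up X (ZS X), w ^ 2 ∈ ZS X := fun w hw => ((mem_Up hZn).1 hw).2.2
  have hWcomm : ∀ w ∈ Up X (ZS X), ∀ x ∈ X, w * x * w⁻¹ * x⁻¹ ∈ ZS X :=
    fun w hw => ((mem_Up hZn).1 hw).2.1
  -- squares of elements outside `Z`
  have hout : ∀ w ∈ Up X (ZS X), w ∉ ZS X →
      w ^ 2 ∈ V ⊔ Sq (ZS X) ∧ w ^ 2 ∉ Sq (ZS X) := by
    intro w hw hwZ
    refine ⟨r1_sq_mem C hV hH w hw, ?_⟩
    intro hS
    rw [mem_Sq hZc] at hS
    obtain ⟨z, hz, hwz⟩ := hS
    have hwX : w ∈ X := hUpX hw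
    have hwc : w ∈ Subgroup.centralizer (ZS X : Set G) := by
      rw [Subgroup.mem_centralizer_iff]
      intro y hy
      have := Subgroup.mem_centralizer_iff.1 (hZcX hy) w hwX
      exact this.symm
    have hzw : z⁻¹ * w = w * z⁻¹ := by
      have := Subgroup.mem_centralizer_iff.1 (hZcX (inv_mem hz)) w hwX
      exact this.symm
    refine aniso hV hZn hZc hVZ hZX hw hwc hwZ z⁻¹ (inv_mem hz) ?_
    have h1 : (w * z⁻¹) ^ 2 = w ^ 2 * (z ^ 2)⁻¹ := by
      rw [pow_two, pow_two, pow_two]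
      calc w * z⁻¹ * (w * z⁻¹) = w * (z⁻¹ * w) * z⁻¹ := by group
        _ = w * (w * z⁻¹) * z⁻¹ := by rw [hzw]
        _ = w * w * (z * z)⁻¹ := by group
    rw [h1, hwz, mul_inv_cancel]
  -- pick three independent elements
  have h1Z : 1 * Nat.card ↥(ZS X) < Nat.card ↥(Up X (ZS X)) := by omega
  obtain ⟨a, haW, ha⟩ := ng_r1card_pick (Z := ZS X) (W := Up X (ZS X)) 1 ![1] h1Z
  have haZ : a ∉ ZS X := by
    have := ha 0
    simpa using this
  have h2Z : 2 * Nat.card ↥(ZS X) < Nat.card ↥(Up X (ZS X)) := by omega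
  obtain ⟨b, hbW, hb⟩ := ng_r1card_pick (Z := ZS X) (W := Up X (ZS X)) 2 ![1, a] h2Z
  have hbZ : b ∉ ZS X := by
    have := hb 0
    simpa using this
  have habZ : a * b ∉ ZS X := by
    have := hb 1
    simpa using this
  obtain ⟨c, hcW, hc⟩ := ng_r1card_pick (Z := ZS X) (W := Up X (ZS X)) 4 ![1, a, b, a * b] hcon
  have hcZ : c ∉ ZS X := by
    have := hc 0
    simpa using this
  have hacZ : a * c ∉ ZS X := by
    have := hc 1
    simpa using this
  have hbcZ : b * c ∉ ZS X := by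
    have := hc 2
    simpa using this
  have habcZ : a * b * c ∉ ZS X := by
    have := hc 3
    simpa using this
  have habW : a * b ∈ Up X (ZS X) := mul_mem haW hbW
  have hacW : a * c ∈ Up X (ZS X) := mul_mem haW hcW
  have hbcW : b * c ∈ Up X (ZS X) := mul_mem hbW hcW
  have habcW : a * b * c ∈ Up X (ZS X) := mul_mem habW hcW
  obtain ⟨ha1, ha2⟩ := hout a haW haZ
  obtain ⟨hb1, hb2⟩ := hout b hbW hbZ
  obtain ⟨hc1, hc2⟩ := hout c hcW hcZ
  obtain ⟨hab1, hab2⟩ := hout _ habW habZ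
  obtain ⟨hac1, hac2⟩ := hout _ hacW hacZ
  obtain ⟨hbc1, hbc2⟩ := hout _ hbcW hbcZ
  obtain ⟨habc1, habc2⟩ := hout _ habcW habcZ
  -- the index is exactly two
  have hidx : ((Sq (ZS X)).subgroupOf (V ⊔ Sq (ZS X))).index = 2 := by
    rcases (Nat.dvd_prime Nat.prime_two).1 hrel with h | h
    · exfalso
      rw [Subgroup.relIndex_eq_one] at h
      exact ha2 (h ha1)
    · exact h
  have key : ∀ g ∈ V ⊔ Sq (ZS X), ∀ h ∈ V ⊔ Sq (ZS X),
      (g * h ∈ Sq (ZS X) ↔ (g ∈ Sq (ZS X) ↔ h ∈ Sq (ZS X))) := by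
    intro g hg h hh
    have := Subgroup.mul_mem_iff_of_index_two hidx
      (a := (⟨g, hg⟩ : ↥(V ⊔ Sq (ZS X)))) (b := ⟨h, hh⟩)
    simpa [Subgroup.mem_subgroupOf] using this
  -- the identity
  have hid := three_sq (X := Up X (ZS X))
    (fun x hx y hy => hcXW (hZcX (hWcomm x hx y (hUpX hy))))
    (fun x hx => hcXW (hZcX (hWsq x hx))) haW hbW hcW
  -- left side lies in `Sq Z`
  have hL1 : a ^ 2 * b ^ 2 ∈ Sq (ZS X) := (key _ ha1 _ hb1).2 (iff_of_false ha2 hb2)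
  have hL2 : a ^ 2 * b ^ 2 * c ^ 2 ∉ Sq (ZS X) := by
    intro h
    exact hc2 (((key _ (mul_mem ha1 hb1) _ hc1).1 h).1 hL1)
  have hL3 : (a * b * c) ^ 2 * (a ^ 2 * b ^ 2 * c ^ 2) ∈ Sq (ZS X) :=
    (key _ habc1 _ (mul_mem (mul_mem ha1 hb1) hc1)).2 (iff_of_false habc2 hL2)
  -- right side does not
  have hR1 : (a * b) ^ 2 * (a * c) ^ 2 ∈ Sq (ZS X) := (key _ hab1 _ hac1).2 (iff_of_false hab2 hac2)
  have hR2 : (a * b) ^ 2 * (a * c) ^ 2 * (b * c) ^ 2 ∉ Sq (ZS X) := by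
    intro h
    exact hbc2 (((key _ (mul_mem hab1 hac1) _ hbc1).1 h).1 hR1)
  rw [hid] at hL3
  exact hR2 hL3

end Cfsg.Agent.Helper17.NG
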