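import Mathlib
import Cfsg.Agent.Lib.NG.NGDefs
import Cfsg.Agent.Lib.NG.NGR1CENT
import Cfsg.Agent.Lib.NG.NGEAPP

/-! S1904 piece NG-R1N3 (helper17 design; see plans/S1904_plan.md). -/

set_option autoImplicit false

namespace Cfsg.Agent.Helper17.NG

variable {G : Type*} [Group G]

/-- the radical `R` of the commutator form modulo `⟨v1⟩` is a subgroup -/
theorem ng_r1n3_exists_R {X V : Subgroup G} (hQ : Quad X V) (v1 : G) (hv1 : v1 ∈ V) :
    ∃ R : Subgroup G, ∀ r, r ∈ R ↔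
      (r ∈ X ∧ ∀ x ∈ X, r * x * r⁻¹ * x⁻¹ ∈ Subgroup.zpowers v1) := by
  have hVc : ∀ x ∈ X, ∀ v ∈ V, v * x = x * v := fun x hx v hv =>
    (Subgroup.mem_centralizer_iff.mp (hQ.central hx)) v hv
  have hZV : Subgroup.zpowers v1 ≤ V := Subgroup.zpowers_le.mpr hv1
  have hcV : ∀ a ∈ X, ∀ b ∈ X, a * b * a⁻¹ * b⁻¹ ∈ V := by
    intro a ha b hb
    have h1 := Subgroup.commutator_mem_commutator ha hb
    rw [commutatorElement_def] at h1
    exact hQ.comm h1
  refine ⟨{ carrier := {r | r ∈ X ∧ ∀ x ∈ X, r * x * r⁻¹ * x⁻¹ ∈ Subgroup.zpowers v1}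
            mul_mem' := ?_
            one_mem' := ?_
            inv_mem' := ?_ }, ?_⟩
  · rintro a b ⟨ha, ha2⟩ ⟨hb, hb2⟩
    refine ⟨X.mul_mem ha hb, ?_⟩
    intro x hx
    have h1 : a * b * x * (a * b)⁻¹ * x⁻¹ = (b * x * b⁻¹ * x⁻¹) * (a * x * a⁻¹ * x⁻¹) := by
      have h2 := hVc a ha _ (hcV b hb x hx)
      calc a * b * x * (a * b)⁻¹ * x⁻¹
          = (a * (b * x * b⁻¹ * x⁻¹)) * (x * a⁻¹ * x⁻¹) := by group
        _ = ((b * x * b⁻¹ * x⁻¹) * a) * (x * a⁻¹ * x⁻¹) := by rw [h2]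
        _ = _ := by group
    rw [h1]
    exact (Subgroup.zpowers v1).mul_mem (hb2 x hx) (ha2 x hx)
  · refine ⟨X.one_mem, ?_⟩
    intro x hx
    have h1 : (1 : G) * x * 1⁻¹ * x⁻¹ = 1 := by group
    rw [h1]
    exact Subgroup.one_mem _
  · rintro a ⟨ha, ha2⟩
    refine ⟨X.inv_mem ha, ?_⟩
    intro x hx
    have hc := ha2 x hx
    have h2 := hVc a ha _ (hZV hc)
    have h3 : (a * x * a⁻¹ * x⁻¹)⁻¹ * a = a * (a * x * a⁻¹ * x⁻¹)⁻¹ :=
      (Commute.inv_left (show Commute (a * x * a⁻¹ * x⁻¹) a from h2)).eq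
    have h1 : a⁻¹ * x * a⁻¹⁻¹ * x⁻¹ = (a * x * a⁻¹ * x⁻¹)⁻¹ := by
      calc a⁻¹ * x * a⁻¹⁻¹ * x⁻¹ = a⁻¹ * ((a * x * a⁻¹ * x⁻¹)⁻¹ * a) := by group
        _ = (a * x * a⁻¹ * x⁻¹)⁻¹ := by rw [h3, inv_mul_cancel_left]
    rw [h1]
    exact Subgroup.inv_mem _ hc
  · intro r
    exact Iff.rfl

/-- `card X ≠ 32` in regime 1.  Else `n = 3`; fix `v1 ∈ V`, `v1 ≠ 1`; `R := {r ∈ X | ∀ x ∈ X, r x r⁻¹ x⁻¹ ∈ zpowers v1}`
is a subgroup containing `V`, normal in `G` (`H` centralises `v1`, `X` normal), `R ≠ V`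
(`exists_index_two`), `R ≠ X` (else `⁅X,X⁆ ≤ zpowers v1`, order 2).  `R/V` has order 2 or 4.  Order 4: then
`X = R ⊔ zpowers t`, all commutators lie in `zpowers v1`: contradiction again.  Order 2: `R = V ⊔ zpowers r` is
abelian and normal in `G`, so central (`r1_central`): `r ∈ ZS X = V`, contradiction. -/
theorem r1_card_ne_32 [Finite G] {X H V : Subgroup G} (C : Ctx X H) (hV : IsV X V)
    (hH : H ≤ Subgroup.centralizer (V : Set G)) (hQ : Quad X V) (hcomm : ⁅X, X⁆ = V)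
    (hZ : ZS X = V) : Nat.card ↥X ≠ 32 := by
  intro hcard
  -- all of `G` centralises `V`
  have hGV : ∀ g : G, ∀ v ∈ V, v * g = g * v := by
    have h1 : X ⊔ H ≤ Subgroup.centralizer (V : Set G) := sup_le hV.central hH
    rw [C.sup] at h1
    intro g v hv
    exact (Subgroup.mem_centralizer_iff.mp (h1 (Subgroup.mem_top g))) v hv
  obtain ⟨v1, hv1, hv11⟩ : ∃ v1 ∈ V, v1 ≠ 1 := by
    rcases Subgroup.bot_or_exists_ne_one V with h | h
    · exfalso
      have h2 := hV.card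
      rw [h] at h2
      simp at h2
    · exact h
  have hZV : Subgroup.zpowers v1 ≤ V := Subgroup.zpowers_le.mpr hv1
  obtain ⟨R, hR⟩ := ng_r1n3_exists_R hQ v1 hv1
  have hRX : R ≤ X := fun r hr => ((hR r).mp hr).1
  have hVR : V ≤ R := by
    intro v hv
    rw [hR]
    refine ⟨hQ.le hv, ?_⟩
    intro x _
    have h1 := hGV x v hv
    have h2 : v * x * v⁻¹ * x⁻¹ = 1 := by rw [h1]; group
    rw [h2]
    exact Subgroup.one_mem _
  have hRn : R.Normal := by
    constructor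
    intro r hr g
    rw [hR] at hr ⊢
    obtain ⟨hrX, hr2⟩ := hr
    refine ⟨C.normal.conj_mem r hrX g, ?_⟩
    intro x hx
    have hx' : g⁻¹ * x * g ∈ X := by
      have h0 := C.normal.conj_mem x hx g⁻¹
      rw [inv_inv] at h0
      exact h0
    have hc := hr2 _ hx'
    have h1 := hGV g _ (hZV hc)
    have h2 : g * r * g⁻¹ * x * (g * r * g⁻¹)⁻¹ * x⁻¹
        = g * (r * (g⁻¹ * x * g) * r⁻¹ * (g⁻¹ * x * g)⁻¹) * g⁻¹ := by group
    rw [h2, ← h1, mul_inv_cancel_right]
    exact hc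
  obtain ⟨r, hrX, hrV, hr2⟩ :=
    exists_index_two hQ 3 ⟨1, rfl⟩ (by rw [hcard]; norm_num) hv1 hv11
  have hrR : r ∈ R := (hR r).mpr ⟨hrX, hr2⟩
  have hZ2 : Nat.card ↥(Subgroup.zpowers v1) = 2 := by
    rw [Nat.card_zpowers]
    exact orderOf_eq_prime (hQ.vsq v1 hv1) hv11
  have hnotall : ¬ (∀ a ∈ X, ∀ b ∈ X, a * b * a⁻¹ * b⁻¹ ∈ Subgroup.zpowers v1) := by
    intro hall
    have h1 : ⁅X, X⁆ ≤ Subgroup.zpowers v1 := by
      rw [Subgroup.commutator_le]
      intro a ha b hb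
      rw [commutatorElement_def]
      exact hall a ha b hb
    rw [hcomm] at h1
    have h2 := Subgroup.card_le_of_le h1
    rw [hQ.card, hZ2] at h2
    omega
  have hi1 := Subgroup.relIndex_mul_relIndex (⊥ : Subgroup G) V R bot_le hVR
  have hi2 := Subgroup.relIndex_mul_relIndex (⊥ : Subgroup G) R X bot_le hRX
  rw [Subgroup.relIndex_bot_left, Subgroup.relIndex_bot_left] at hi1 hi2
  rw [hQ.card] at hi1
  rw [hcard] at hi2
  have ha1 : V.relIndex R ≠ 1 := by
    intro h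
    rw [Subgroup.relIndex_eq_one] at h
    exact hrV (h hrR)
  have hb1 : R.relIndex X ≠ 1 := by
    intro h
    rw [Subgroup.relIndex_eq_one] at h
    apply hnotall
    intro a ha b hb
    exact ((hR a).mp (h ha)).2 b hb
  have hab : V.relIndex R * R.relIndex X = 8 := by
    rw [← hi1] at hi2
    have h4 : 4 * (V.relIndex R * R.relIndex X) = 32 := by rw [← mul_assoc]; exact hi2
    omega
  have hcases : V.relIndex R = 2 ∨ R.relIndex X = 2 := by
    generalize V.relIndex R = a at *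
    generalize R.relIndex X = b at *
    have ha8 : a ∣ 8 := Dvd.intro _ hab
    have hale : a ≤ 8 := Nat.le_of_dvd (by norm_num) ha8
    interval_cases a <;> omega
  rcases hcases with h2 | h2
  · -- `R` is abelian
    have hidx : (V.subgroupOf R).index = 2 := h2
    have hRc : IsMulCommutative ↥R := by
      rw [isMulCommutative_iff]
      intro p q
      apply Subtype.ext
      rw [Subgroup.coe_mul, Subgroup.coe_mul]
      by_cases hp : (p : G) ∈ V
      · exact hGV q p hp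
      · by_cases hq : (q : G) ∈ V
        · exact (hGV p q hq).symm
        · have h3 : p * q ∈ V.subgroupOf R := by
            rw [Subgroup.mul_mem_iff_of_index_two hidx, Subgroup.mem_subgroupOf,
              Subgroup.mem_subgroupOf]
            exact ⟨fun h => absurd h hp, fun h => absurd h hq⟩
          rw [Subgroup.mem_subgroupOf, Subgroup.coe_mul] at h3
          have h4 := hGV (p : G) _ h3
          have h5 : (p : G) * ((q : G) * p) = p * (p * q) := by
            rw [← mul_assoc]; exact h4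
          exact (mul_left_cancel h5).symm
    obtain ⟨_, hXR⟩ := r1_central C hV hH hRX hRn hRc
    apply hrV
    rw [← hZ]
    have hrc : r ∈ Subgroup.centralizer (X : Set G) := by
      rw [Subgroup.mem_centralizer_iff]
      intro x hx
      exact ((Subgroup.mem_centralizer_iff.mp (hXR hx)) r hrR).symm
    exact Subgroup.mem_inf.mpr ⟨hrX, hrc⟩
  · have hidx : (R.subgroupOf X).index = 2 := h2
    apply hnotall
    intro a ha b hb
    by_cases haR : a ∈ R
    · exact ((hR a).mp haR).2 b hb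
    · by_cases hbR : b ∈ R
      · have h3 := ((hR b).mp hbR).2 a ha
        have h4 : a * b * a⁻¹ * b⁻¹ = (b * a * b⁻¹ * a⁻¹)⁻¹ := by group
        rw [h4]
        exact Subgroup.inv_mem _ h3
      · have h3 : (⟨a, ha⟩ : ↥X) * ⟨b, hb⟩ ∈ R.subgroupOf X := by
          rw [Subgroup.mul_mem_iff_of_index_two hidx, Subgroup.mem_subgroupOf,
            Subgroup.mem_subgroupOf]
          exact ⟨fun h => absurd h haR, fun h => absurd h hbR⟩
        rw [Subgroup.mem_subgroupOf, Subgroup.coe_mul] at h3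
        have h4 := ((hR _).mp h3).2 b hb
        have h5 : a * b * b * (a * b)⁻¹ * b⁻¹ = a * b * a⁻¹ * b⁻¹ := by group
        rw [h5] at h4
        exact h4

end Cfsg.Agent.Helper17.NG
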