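import Mathlib
import Cfsg.Agent.Lib.NG.NGDefs
import Cfsg.Agent.Lib.NG.NGR1CENT
import Cfsg.Agent.Lib.NG.NGFIXQ

/-! S1904 piece NG-R1ZLE (helper17 design; see plans/S1904_plan.md).  Proved by helper26. -/

set_option autoImplicit false

namespace Cfsg.Agent.Helper17.NG

variable {G : Type*} [Group G]

/-- the internal centre is commutative -/
theorem ng_r1zle_comm (X : Subgroup G) : IsMulCommutative ↥(ZS X) := by
  refine ⟨⟨fun a b => Subtype.ext ?_⟩⟩
  have ha : (a : G) ∈ X := a.2.1
  have hb : (b : G) ∈ Subgroup.centralizer (X : Set G) := b.2.2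
  exact (Subgroup.mem_centralizer_iff.1 hb (a : G) ha)

/-- `ZS X` is normal abelian, so centralised by `H` (`r1_central`); `fix_quot` with `N = ⁅X,X⁆`. -/
theorem r1_center_le_comm [Finite G] {X H V : Subgroup G} (C : Ctx X H) (hV : IsV X V)
    (hH : H ≤ Subgroup.centralizer (V : Set G)) : ZS X ≤ ⁅X, X⁆ := by
  haveI hXn : X.Normal := C.normal
  have hZn : (ZS X).Normal := by
    unfold ZS
    infer_instance
  have hZc : IsMulCommutative ↥(ZS X) := ng_r1zle_comm X
  have hcent := (r1_central C hV hH (B := ZS X) inf_le_left hZn hZc).1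
  have hNn : (⁅X, X⁆ : Subgroup G).Normal := inferInstance
  intro x hx
  have hxX : x ∈ X := hx.1
  refine fix_quot C hNn (Subgroup.commutator_le_left X X) le_rfl hxX ?_
  intro h hh
  have h1 : x * h = h * x := (Subgroup.mem_centralizer_iff.1 (hcent hh)) x hx
  have h2 : h * x * h⁻¹ * x⁻¹ = 1 := by
    rw [← h1]; group
  rw [h2]
  exact Subgroup.one_mem _

end Cfsg.Agent.Helper17.NG
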