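import Mathlib
import Cfsg.Agent.Lib.NG.NGDefs
import Cfsg.Agent.Lib.NG.NGUPMEM
import Cfsg.Agent.Lib.Helper19.PGroupBasic

/-! S1904 piece NG-UPEX (helper17 design; see plans/S1904_plan.md).  STUB: overwrite this file,
keeping the statement(s), namespace and imports (you may ADD imports of non-NG library files).
Aux lemmas: fresh names `ng_upex_...`. -/

set_option autoImplicit false

namespace Cfsg.Agent.Helper17.NG

variable {G : Type*} [Group G]

/-- in a 2-group a nontrivial element has a power of order exactly two -/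
theorem ng_upex_invol {Q : Type*} [Group Q] (hQ : IsPGroup 2 Q) (c : Q) (hc : c ≠ 1) :
    ∃ n : ℕ, c ^ n ≠ 1 ∧ (c ^ n) ^ 2 = 1 := by
  classical
  have hex : ∃ k : ℕ, c ^ 2 ^ k = 1 := hQ c
  have hk := Nat.find_spec hex
  have hk0 : Nat.find hex ≠ 0 := by
    intro h0
    rw [h0, pow_zero, pow_one] at hk
    exact hc hk
  obtain ⟨k', hk'⟩ := Nat.exists_eq_succ_of_ne_zero hk0
  refine ⟨2 ^ k', ?_, ?_⟩
  · exact Nat.find_min hex (by rw [hk']; exact Nat.lt_succ_self k')
  · rw [← pow_mul, ← pow_succ, ← Nat.succ_eq_add_one, ← hk']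
    exact hk

/-- If `N < J ≤ X`, `J` normalised by the 2-group `X`, `N` normal in `G`: some `j ∈ J \ N` lies in
`Up X N`.  Proof: in `G ⧸ N` the image `J̄ ≠ 1` is normalised by the 2-group `X̄`, so
`J̄ ⊓ Z(X̄) ≠ 1` (a `p`-group acting on a nontrivial `p`-group by conjugation has a nontrivial fixed
point: class equation / `IsPGroup.card_modEq_card_fixedPoints` for the conjugation action of `X̄` on `J̄`);
take an element of order 2 in it (a suitable power) and lift it to `j ∈ J` (possible: `J ⊇ N`).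
`j̄` central in `X̄` means `j x j⁻¹ x⁻¹ ∈ N` for `x ∈ X`; `j̄^2 = 1` means `j^2 ∈ N`; then `mem_Up`. -/
theorem exists_mem_Up [Finite G] {X N J : Subgroup G} (hX2 : IsPGroup 2 ↥X) (hN : N.Normal)
    (hJX : J ≤ X) (hJ : X ≤ Subgroup.normalizer (J : Set G)) (hNJ : N ≤ J) (hne : N ≠ J) :
    ∃ j ∈ J, j ∉ N ∧ j ∈ Up X N := by
  haveI : Fact (Nat.Prime 2) := ⟨Nat.prime_two⟩
  haveI := hN
  haveI hN' : (N.subgroupOf X).Normal := inferInstance
  haveI hJ' : (J.subgroupOf X).Normal :=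
    (Subgroup.normal_subgroupOf_iff_le_normalizer hJX).2 hJ
  have hQ : IsPGroup 2 (↥X ⧸ N.subgroupOf X) := hX2.to_quotient _
  have hπs : Function.Surjective (QuotientGroup.mk' (N.subgroupOf X)) :=
    QuotientGroup.mk'_surjective _
  haveI hJn : ((J.subgroupOf X).map (QuotientGroup.mk' (N.subgroupOf X))).Normal :=
    Subgroup.Normal.map hJ' _ hπs
  have hJne : (J.subgroupOf X).map (QuotientGroup.mk' (N.subgroupOf X)) ≠ ⊥ := by
    intro h
    apply hne
    apply le_antisymm hNJ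
    intro j hj
    have hjX : j ∈ X := hJX hj
    have h1 : QuotientGroup.mk' (N.subgroupOf X) ⟨j, hjX⟩ ∈
        (J.subgroupOf X).map (QuotientGroup.mk' (N.subgroupOf X)) :=
      Subgroup.mem_map_of_mem _ (Subgroup.mem_subgroupOf.2 hj)
    rw [h, Subgroup.mem_bot] at h1
    have h2 : (⟨j, hjX⟩ : ↥X) ∈ N.subgroupOf X := (QuotientGroup.eq_one_iff _).1 h1
    exact Subgroup.mem_subgroupOf.1 h2
  have h := Cfsg.Agent.Helper19.normal_inf_center_ne_bot hQ
    ((J.subgroupOf X).map (QuotientGroup.mk' (N.subgroupOf X))) hJne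
  obtain ⟨⟨c, hc⟩, hc1⟩ := (Subgroup.ne_bot_iff_exists_ne_one).1 h
  have hc1' : c ≠ 1 := fun hh => hc1 (Subtype.ext hh)
  obtain ⟨n, hn1, hn2⟩ := ng_upex_invol hQ c hc1'
  have hd := Subgroup.pow_mem _ hc n
  rw [Subgroup.mem_inf] at hd
  obtain ⟨y, hyJ, hyd⟩ := Subgroup.mem_map.1 hd.1
  refine ⟨(y : G), Subgroup.mem_subgroupOf.1 hyJ, ?_, ?_⟩
  · intro hyN
    apply hn1
    rw [← hyd]
    exact (QuotientGroup.eq_one_iff y).2 (Subgroup.mem_subgroupOf.2 hyN)
  · rw [mem_Up hN]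
    refine ⟨y.2, ?_, ?_⟩
    · intro x hx
      have hcomm : QuotientGroup.mk' (N.subgroupOf X) ⟨x, hx⟩ *
          QuotientGroup.mk' (N.subgroupOf X) y =
          QuotientGroup.mk' (N.subgroupOf X) y * QuotientGroup.mk' (N.subgroupOf X) ⟨x, hx⟩ := by
        rw [hyd]
        exact Subgroup.mem_center_iff.1 hd.2 _
      have h1 : QuotientGroup.mk' (N.subgroupOf X) (y * ⟨x, hx⟩ * y⁻¹ * (⟨x, hx⟩ : ↥X)⁻¹) = 1 := by
        rw [map_mul, map_mul, map_mul, map_inv, map_inv, ← hcomm, mul_inv_cancel_right,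
          mul_inv_cancel]
      have h2 := (QuotientGroup.eq_one_iff _).1 h1
      exact Subgroup.mem_subgroupOf.1 h2
    · have h1 : QuotientGroup.mk' (N.subgroupOf X) (y ^ 2) = 1 := by
        rw [map_pow, hyd]
        exact hn2
      have h2 := (QuotientGroup.eq_one_iff _).1 h1
      have h3 := Subgroup.mem_subgroupOf.1 h2
      simpa using h3

end Cfsg.Agent.Helper17.NG
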