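import Mathlib
import Cfsg.Agent.Lib.NG.NGDefs
import Cfsg.Agent.Lib.NG.NGUPMEM
import Cfsg.Agent.Lib.NG.NGUPEX

/-! S1904 piece NG-UPEQ (helper17 design; see plans/S1904_plan.md); proof by helper26. -/

set_option autoImplicit false

namespace Cfsg.Agent.Helper17.NG

variable {G : Type*} [Group G]

/-- If `N` is central in `X` and `Z(Up X N) ≤ N` then `Up X N = X`.
Put `W = Up X N` (normal in `G`).  (1) `J0 := X ⊓ C(W) ≤ N`: else `J := J0 ⊔ N ≠ N` (normalised by `X`),
`exists_mem_Up` gives `j ∈ J \ N`, `j ∈ W`; `j = c n` with `c ∈ J0`, `n ∈ N`; `c = j n⁻¹ ∈ W ⊓ C(W) ≤ N`, so `j ∈ N`.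
(2) squares of `X` centralise `W` (direct computation); (3) commutators of `X` centralise `W`
(three subgroups lemma).  So every `x ∈ X` satisfies `mem_Up`. -/
theorem up_eq_of_center_le [Finite G] {X N : Subgroup G} (hX2 : IsPGroup 2 ↥X) (hX : X.Normal)
    (hN : N.Normal) (hNX : N ≤ X) (hcen : X ≤ Subgroup.centralizer (N : Set G))
    (hZ : Up X N ⊓ Subgroup.centralizer (Up X N : Set G) ≤ N) : Up X N = X := by
  have hWn : (Up X N).Normal := Up_normal hX hN
  have hWX : Up X N ≤ X := Up_le X N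
  have hNW : N ≤ Up X N := le_Up hN hNX
  have hcen' : ∀ n ∈ N, ∀ x ∈ X, n * x = x * n := fun n hn x hx =>
    Subgroup.mem_centralizer_iff.mp (hcen hx) n hn
  have hA : ∀ w ∈ Up X N, ∀ x ∈ X, x * w * x⁻¹ * w⁻¹ ∈ N := by
    intro w hw x hx
    have h := N.inv_mem (((mem_Up hN).mp hw).2.1 x hx)
    have e : (w * x * w⁻¹ * x⁻¹)⁻¹ = x * w * x⁻¹ * w⁻¹ := by group
    rwa [e] at h
  have := hX
  have := hN
  have := hWn
  -- (1)
  have hJ0 : X ⊓ Subgroup.centralizer (Up X N : Set G) ≤ N := by
    by_contra hcon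
    have : (Subgroup.centralizer (Up X N : Set G)).Normal := Subgroup.normal_centralizer
    have hJ0n : (X ⊓ Subgroup.centralizer (Up X N : Set G)).Normal := inferInstance
    have hJn : (X ⊓ Subgroup.centralizer (Up X N : Set G) ⊔ N).Normal := inferInstance
    obtain ⟨j, hjJ, hjN, hjW⟩ :=
      exists_mem_Up (J := X ⊓ Subgroup.centralizer (Up X N : Set G) ⊔ N) hX2 hN
        (sup_le inf_le_left hNX) (by rw [Subgroup.normalizer_eq_top]; exact le_top) le_sup_right
        (fun h => hcon (le_sup_left.trans (le_of_eq h.symm)))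
    obtain ⟨c, hc, n, hn, rfl⟩ := Subgroup.mem_sup_of_normal_right.mp hjJ
    have hcW : c ∈ Up X N := by
      have := (Up X N).mul_mem hjW ((Up X N).inv_mem (hNW hn))
      simpa [mul_assoc] using this
    have hcN : c ∈ N := hZ ⟨hcW, hc.2⟩
    exact hjN (N.mul_mem hcN hn)
  -- (2)
  have hsq : ∀ x ∈ X, x * x ∈ N := by
    intro x hx
    suffices hcz : x * x ∈ Subgroup.centralizer (Up X N : Set G) from
      hJ0 ⟨X.mul_mem hx hx, hcz⟩
    rw [Subgroup.mem_centralizer_iff]
    intro w hw
    obtain ⟨k, hkN, hxw⟩ : ∃ k ∈ N, x * w = k * w * x :=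
      ⟨x * w * x⁻¹ * w⁻¹, hA w hw x hx, by group⟩
    have hkx : k * x = x * k := hcen' k hkN x hx
    have hkw : k * w = w * k := hcen' k hkN w (hWX hw)
    have hww : w * w ∈ N := by
      have := ((mem_Up hN).mp hw).2.2
      rwa [pow_two] at this
    have hwwx : (w * w) * x = x * (w * w) := hcen' _ hww x hx
    have stepa : x * (w * w) = k * k * (w * w) * x := by
      calc x * (w * w) = (x * w) * w := by rw [mul_assoc]
        _ = (k * w * x) * w := by rw [hxw]
        _ = k * w * (x * w) := by simp only [mul_assoc]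
        _ = k * w * (k * w * x) := by rw [hxw]
        _ = k * (w * k) * w * x := by simp only [mul_assoc]
        _ = k * (k * w) * w * x := by rw [hkw]
        _ = k * k * (w * w) * x := by simp only [mul_assoc]
    have h1 : (k * k) * ((w * w) * x) = (w * w) * x := by
      calc (k * k) * ((w * w) * x) = k * k * (w * w) * x := by simp only [mul_assoc]
        _ = x * (w * w) := stepa.symm
        _ = (w * w) * x := hwwx.symm
    have hkk : k * k = 1 := by simpa using h1
    have stepb : (x * x) * w = w * (x * x) := by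
      calc (x * x) * w = x * (x * w) := by rw [mul_assoc]
        _ = x * (k * w * x) := by rw [hxw]
        _ = (x * k) * w * x := by simp only [mul_assoc]
        _ = (k * x) * w * x := by rw [hkx]
        _ = k * (x * w) * x := by simp only [mul_assoc]
        _ = k * (k * w * x) * x := by rw [hxw]
        _ = (k * k) * w * x * x := by simp only [mul_assoc]
        _ = w * x * x := by rw [hkk, one_mul]
        _ = w * (x * x) := by rw [mul_assoc]
    exact stepb.symm
  -- (3)
  have hcomm : ∀ x ∈ X, ∀ y ∈ X, x * y * x⁻¹ * y⁻¹ ∈ N := by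
    have h1 : ⁅X, Up X N⁆ ≤ N := by
      rw [Subgroup.commutator_le]
      intro x hx w hw
      rw [commutatorElement_def]
      exact hA w hw x hx
    have h2 : ⁅N, X⁆ = ⊥ := by
      rw [Subgroup.commutator_comm, Subgroup.commutator_eq_bot_iff_le_centralizer]
      exact hcen
    have h3 : ⁅⁅X, Up X N⁆, X⁆ = ⊥ := by
      rw [eq_bot_iff, ← h2]
      exact Subgroup.commutator_mono h1 le_rfl
    have h4 : ⁅⁅Up X N, X⁆, X⁆ = ⊥ := by
      rw [Subgroup.commutator_comm (Up X N) X]; exact h3
    have h5 : ⁅⁅X, X⁆, Up X N⁆ = ⊥ := Subgroup.commutator_commutator_eq_bot_of_rotate h3 h4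
    have h6 : ⁅X, X⁆ ≤ Subgroup.centralizer (Up X N : Set G) :=
      Subgroup.commutator_eq_bot_iff_le_centralizer.mp h5
    have h7 : ⁅X, X⁆ ≤ X := Subgroup.commutator_le_right X X
    intro x hx y hy
    have := Subgroup.commutator_mem_commutator hx hy
    rw [commutatorElement_def] at this
    exact hJ0 ⟨h7 this, h6 this⟩
  apply le_antisymm hWX
  intro x hx
  rw [mem_Up hN]
  refine ⟨hx, fun y hy => ?_, ?_⟩
  · exact hcomm x hx y hy
  · rw [pow_two]; exact hsq x hx

end Cfsg.Agent.Helper17.NG
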