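import Mathlib
import Cfsg.Agent.Lib.NG.NGDefs
import Cfsg.Agent.Lib.NG.NGR1CARD
import Cfsg.Agent.Lib.NG.NGR1CENT
import Cfsg.Agent.Lib.NG.NGR1ZLE
import Cfsg.Agent.Lib.NG.NGUPEQ
import Cfsg.Agent.Lib.NG.NGUPMEM
import Cfsg.Agent.Lib.Helper16.AbelianIndexTwo

/-! S1904 piece NG-R1ZV (helper17 design; see plans/S1904_plan.md).  STUB: overwrite this file,
keeping the statement(s), namespace and imports (you may ADD imports of non-NG library files).
Aux lemmas: fresh names `ng_r1zv_...`. -/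

set_option autoImplicit false

namespace Cfsg.Agent.Helper17.NG

variable {G : Type*} [Group G]

/-- the centre of `Up X N` lies in the centre of `X` (regime 1) -/
theorem ng_r1zv_zW_le [Finite G] {X H V N : Subgroup G} (C : Ctx X H) (hV : IsV X V)
    (hH : H ≤ Subgroup.centralizer (V : Set G)) (hN : N.Normal) :
    Up X N ⊓ Subgroup.centralizer (Up X N : Set G) ≤ ZS X := by
  haveI hXn : X.Normal := C.normal
  haveI hWn : (Up X N).Normal := Up_normal hXn hN
  have hBn : (Up X N ⊓ Subgroup.centralizer (Up X N : Set G)).Normal := inferInstance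
  have hBX : Up X N ⊓ Subgroup.centralizer (Up X N : Set G) ≤ X := inf_le_left.trans (Up_le X N)
  have hBc : IsMulCommutative ↥(Up X N ⊓ Subgroup.centralizer (Up X N : Set G)) := by
    refine ⟨⟨fun a b => Subtype.ext ?_⟩⟩
    exact Subgroup.mem_centralizer_iff.1 b.2.2 (a : G) a.2.1
  have hcen := (r1_central C hV hH hBX hBn hBc).2
  intro b hb
  refine ⟨hBX hb, ?_⟩
  show b ∈ Subgroup.centralizer (X : Set G)
  rw [Subgroup.mem_centralizer_iff]
  intro x hx
  exact (Subgroup.mem_centralizer_iff.1 (hcen hx) b hb).symm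

/-- `ZS X = V`.  `V ≤ ZS X` (`hV.central`, `hV.le`).  Suppose `≠`.  `W := Up X (ZS X)`; `Z(W) := W ⊓ C(W)` is
normal abelian, so central in `X` (`r1_central`), so `≤ ZS X`; `up_eq_of_center_le` gives `W = X`;
`r1_up_card` gives `card X ≤ 4 * card (ZS X)`, so `X = ⟨a,b⟩ ZS X` and `⁅X,X⁆` is generated by one
commutator of order `≤ 2` (`k^2 = 1` as in `r1_sq_mem`): `card ⁅X,X⁆ ≤ 2`; but
`V ≤ ZS X ≤ ⁅X,X⁆` (`r1_center_le_comm`) has order 4. -/
theorem r1_center_eq [Finite G] {X H V : Subgroup G} (C : Ctx X H) (hV : IsV X V)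
    (hH : H ≤ Subgroup.centralizer (V : Set G)) : ZS X = V := by
  classical
  haveI hXn : X.Normal := C.normal
  have hZn : (ZS X).Normal := by
    unfold ZS
    infer_instance
  have hZX : ZS X ≤ X := inf_le_left
  have hVZ : V ≤ ZS X := by
    intro v hv
    refine ⟨hV.le hv, ?_⟩
    show v ∈ Subgroup.centralizer (X : Set G)
    rw [Subgroup.mem_centralizer_iff]
    intro x hx
    exact (Subgroup.mem_centralizer_iff.1 (hV.central hx) v hv).symm
  by_contra hne
  have hcenZ : X ≤ Subgroup.centralizer (ZS X : Set G) := by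
    intro x hx
    rw [Subgroup.mem_centralizer_iff]
    intro z hz
    exact (Subgroup.mem_centralizer_iff.1 hz.2 x hx).symm
  have hZW := ng_r1zv_zW_le C hV hH hZn
  have hWX : Up X (ZS X) = X := up_eq_of_center_le C.two hXn hZn hZX hcenZ hZW
  have hcard := r1_up_card C hV hH hne
  rw [hWX] at hcard
  -- `a ∈ X \ Z`
  obtain ⟨a, haX, haZ⟩ : ∃ a ∈ X, a ∉ ZS X := by
    by_contra hcon
    push Not at hcon
    apply C.nonab
    refine ⟨⟨fun x y => Subtype.ext ?_⟩⟩
    exact (Subgroup.mem_centralizer_iff.1 (hcon y y.2).2 x x.2)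
  -- work inside the group `↥X`
  set Zt : Subgroup ↥X := (ZS X).subgroupOf X with hZt
  set at' : ↥X := ⟨a, haX⟩ with hat
  have hZtcard : Nat.card ↥Zt = Nat.card ↥(ZS X) :=
    Nat.card_congr (Subgroup.subgroupOfEquivOfLe hZX).toEquiv
  have hZtcen : ∀ z ∈ Zt, ∀ x : ↥X, z * x = x * z := by
    intro z hz x
    apply Subtype.ext
    have hz' : (z : G) ∈ ZS X := hz
    exact (Subgroup.mem_centralizer_iff.1 hz'.2 x x.2).symm
  set Ct : Subgroup ↥X := Subgroup.closure ((Zt : Set ↥X) ∪ {at'}) with hCt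
  have hgen : ∀ x ∈ ((Zt : Set ↥X) ∪ {at'}), ∀ y ∈ ((Zt : Set ↥X) ∪ {at'}), x * y = y * x := by
    rintro x (hx | hx) y (hy | hy)
    · exact hZtcen x hx y
    · exact hZtcen x hx y
    · exact (hZtcen y hy x).symm
    · rw [Set.mem_singleton_iff] at hx hy
      rw [hx, hy]
  have hCtc : IsMulCommutative ↥Ct := Subgroup.isMulCommutative_closure hgen
  have hcomm : ∀ c ∈ Ct, ∀ d ∈ Ct, c * d = d * c := by
    intro c hc d hd
    exact congrArg Subtype.val (hCtc.is_comm.comm (⟨c, hc⟩ : ↥Ct) ⟨d, hd⟩)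
  have hZC : Zt ≤ Ct := by
    intro z hz
    exact Subgroup.subset_closure (Or.inl hz)
  have haC : at' ∈ Ct := Subgroup.subset_closure (Or.inr rfl)
  have haZt : at' ∉ Zt := fun h => haZ h
  -- `Ct ≠ ⊤`
  have hCtop : Ct ≠ ⊤ := by
    intro htop
    apply C.nonab
    refine ⟨⟨fun x y => ?_⟩⟩
    exact hcomm x (htop ▸ Subgroup.mem_top x) y (htop ▸ Subgroup.mem_top y)
  -- cardinalities
  obtain ⟨j, hj⟩ := Subgroup.card_dvd_of_le hZC
  have hZtpos : 0 < Nat.card ↥Zt := Nat.card_pos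
  have hj2 : 2 ≤ j := by
    by_contra hcon
    have hj1 : j = 0 ∨ j = 1 := by omega
    rcases hj1 with h0 | h1
    · rw [h0, mul_zero] at hj
      have : 0 < Nat.card ↥Ct := Nat.card_pos
      omega
    · rw [h1, mul_one] at hj
      have := Subgroup.eq_of_le_of_card_ge hZC (le_of_eq hj)
      exact haZt (this ▸ haC)
  have hidx : Nat.card ↥Ct * Ct.index = Nat.card ↥X := Subgroup.card_mul_index Ct
  have hidx1 : Ct.index ≠ 1 := fun h => hCtop (Subgroup.index_eq_one.mp h)
  have hidx0 : Ct.index ≠ 0 := Subgroup.index_ne_zero_of_finite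
  have hidx2 : Ct.index = 2 ∧ j = 2 := by
    have h4 : Nat.card ↥Zt * (j * Ct.index) ≤ Nat.card ↥Zt * 4 := by
      calc Nat.card ↥Zt * (j * Ct.index) = Nat.card ↥Ct * Ct.index := by rw [hj]; ring
        _ = Nat.card ↥X := hidx
        _ ≤ 4 * Nat.card ↥(ZS X) := hcard
        _ = Nat.card ↥Zt * 4 := by rw [hZtcard]; ring
    have h5 : j * Ct.index ≤ 4 := Nat.le_of_mul_le_mul_left h4 hZtpos
    have hi2 : 2 ≤ Ct.index := by omega
    constructor
    · by_contra hcon
      have : 3 ≤ Ct.index := by omega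
      nlinarith
    · by_contra hcon
      have : 3 ≤ j := by omega
      nlinarith
  -- an element outside `Ct`
  obtain ⟨t, ht⟩ : ∃ t : ↥X, t ∉ Ct := by
    by_contra hcon
    push Not at hcon
    exact hCtop (Subgroup.eq_top_iff' Ct |>.mpr hcon)
  have hmain := Cfsg.Agent.Helper16.card_commutator_mul_card_le hidx2.1 hcomm ht Zt hZC
    (fun k hk => hZtcen k hk t)
  rw [hj, hidx2.2] at hmain
  have hX'le : Nat.card ↥(commutator ↥X) ≤ 2 := by
    have : Nat.card ↥(commutator ↥X) * Nat.card ↥Zt ≤ 2 * Nat.card ↥Zt := by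
      calc Nat.card ↥(commutator ↥X) * Nat.card ↥Zt ≤ Nat.card ↥Zt * 2 := hmain
        _ = 2 * Nat.card ↥Zt := by ring
    exact Nat.le_of_mul_le_mul_right this hZtpos
  -- but `V ≤ ⁅X, X⁆` has order 4
  have hVcomm : V ≤ ⁅X, X⁆ := hVZ.trans (r1_center_le_comm C hV hH)
  have hcardcomm : Nat.card ↥(⁅X, X⁆ : Subgroup G) = Nat.card ↥(commutator ↥X) := by
    rw [← Subgroup.map_subtype_commutator]
    exact Nat.card_congr
      ((commutator ↥X).equivMapOfInjective X.subtype X.subtype_injective).symm.toEquiv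
  have h4le := Subgroup.card_le_of_le hVcomm
  rw [hV.card, hcardcomm] at h4le
  omega

end Cfsg.Agent.Helper17.NG
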