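import Mathlib
import Cfsg.Agent.Lib.NG.NGDefs
import Cfsg.Agent.Lib.NG.NGR1ZV
import Cfsg.Agent.Lib.NG.NGR1CENT
import Cfsg.Agent.Lib.NG.NGR1ZLE
import Cfsg.Agent.Lib.NG.NGUPEQ
import Cfsg.Agent.Lib.NG.NGUPMEM
import Cfsg.Agent.Lib.NG.NGANISO

/-! S1904 piece NG-R1QUAD (helper17 design; see plans/S1904_plan.md).  STUB: overwrite this file,
keeping the statement(s), namespace and imports (you may ADD imports of non-NG library files).
Aux lemmas: fresh names `ng_r1quad_...`. -/

set_option autoImplicit false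

namespace Cfsg.Agent.Helper17.NG

variable {G : Type*} [Group G]

/-- With `ZS X = V` (`r1_center_eq`): `W := Up X V`, `Z(W)` normal abelian so central so `≤ ZS X = V`;
`up_eq_of_center_le` gives `W = X`, i.e. squares and commutators of `X` lie in `V` (`mem_Up`).
`aniso` (`N = V`, `n = 1`) gives the anisotropy.  `V = ZS X ≤ ⁅X,X⁆` (`r1_center_le_comm`). -/
theorem r1_quad [Finite G] {X H V : Subgroup G} (C : Ctx X H) (hV : IsV X V)
    (hH : H ≤ Subgroup.centralizer (V : Set G)) : Quad X V ∧ ⁅X, X⁆ = V ∧ ZS X = V := by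
  haveI hXn : X.Normal := C.normal
  have hZV : ZS X = V := r1_center_eq C hV hH
  have hVn : V.Normal := hV.normal
  have hZW : Up X V ⊓ Subgroup.centralizer (Up X V : Set G) ≤ V := by
    have := ng_r1zv_zW_le C hV hH hVn
    rwa [hZV] at this
  have hWX : Up X V = X := up_eq_of_center_le C.two hXn hVn hV.le hV.central hZW
  have hfacts : ∀ x ∈ X, (∀ y ∈ X, x * y * x⁻¹ * y⁻¹ ∈ V) ∧ x ^ 2 ∈ V := by
    intro x hx
    have hx' : x ∈ Up X V := by rw [hWX]; exact hx
    exact ((mem_Up hVn).mp hx').2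
  have hcommle : ⁅X, X⁆ ≤ V := by
    rw [Subgroup.commutator_le]
    intro x hx y hy
    rw [commutatorElement_def]
    exact (hfacts x hx).1 y hy
  have hVc : IsMulCommutative ↥V := by
    refine ⟨⟨fun a b => Subtype.ext ?_⟩⟩
    exact Subgroup.mem_centralizer_iff.1 (hV.central (hV.le b.2)) (a : G) a.2
  have hVcomm : V ≤ ⁅X, X⁆ := by
    rw [← hZV]
    exact r1_center_le_comm C hV hH
  refine ⟨⟨hV.le, hV.card, hV.sq, hV.central, fun x hx => (hfacts x hx).2, hcommle, ?_⟩,
    le_antisymm hcommle hVcomm, hZV⟩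
  intro x hx hx2
  by_contra hxV
  have hxU : x ∈ Up X V := by rw [hWX]; exact hx
  have := aniso hV hVn hVc le_rfl hV.le hxU (hV.central hx) hxV 1 V.one_mem
  apply this
  rw [mul_one]
  exact hx2

end Cfsg.Agent.Helper17.NG
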