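import Mathlib
import Cfsg.Agent.Lib.NG.NGDefs

/-! S1904 piece NG-R2A (helper17 design; see plans/S1904_plan.md).  STUB: overwrite this file,
keeping the statement(s), namespace and imports (you may ADD imports of non-NG library files).
Aux lemmas: fresh names `ng_r2a_...`. -/

set_option autoImplicit false

namespace Cfsg.Agent.Helper17.NG

variable {G : Type*} [Group G]

section Four

variable {W : Type*} [Group W] [Finite W]

/-- a four-group is `{1, v, w, v w}` -/
theorem ng_r2a_four (hcard : Nat.card W = 4) (hsq : ∀ v : W, v ^ 2 = 1) {v w : W}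
    (hv1 : v ≠ 1) (hw1 : w ≠ 1) (hwv : w ≠ v) (x : W) :
    x = 1 ∨ x = v ∨ x = w ∨ x = v * w := by
  classical
  have hord : orderOf v = 2 := orderOf_eq_prime (hsq v) hv1
  have hmemZ : ∀ y : W, y ∈ Subgroup.zpowers v ↔ y = 1 ∨ y = v := by
    intro y
    rw [mem_zpowers_iff_mem_range_orderOf, hord]
    constructor
    · intro h
      rw [Finset.mem_image] at h
      obtain ⟨i, hi, rfl⟩ := h
      rw [Finset.mem_range] at hi
      interval_cases i
      · left; exact pow_zero v
      · right; exact pow_one v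
    · rintro (rfl | rfl)
      · rw [Finset.mem_image]
        exact ⟨0, by simp, pow_zero v⟩
      · rw [Finset.mem_image]
        exact ⟨1, by simp, pow_one _⟩
  have hidx : (Subgroup.zpowers v).index = 2 := by
    have h1 := Subgroup.card_mul_index (Subgroup.zpowers v)
    rw [Nat.card_zpowers, hord, hcard] at h1
    omega
  have hw : w ∉ Subgroup.zpowers v := by
    rw [hmemZ]
    push Not
    exact ⟨hw1, hwv⟩
  have hw2 : w * w = 1 := by rw [← pow_two]; exact hsq w
  by_cases hx : x ∈ Subgroup.zpowers v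
  · rcases (hmemZ x).mp hx with h | h
    · left; exact h
    · right; left; exact h
  · have h2 : x * w ∈ Subgroup.zpowers v :=
      (Subgroup.mul_mem_iff_of_index_two hidx).mpr
        ⟨fun h => absurd h hx, fun h => absurd h hw⟩
    rcases (hmemZ _).mp h2 with h | h
    · right; right; left
      calc x = (x * w) * w := by rw [mul_assoc, hw2, mul_one]
        _ = w := by rw [h, one_mul]
    · right; right; right
      calc x = (x * w) * w := by rw [mul_assoc, hw2, mul_one]
        _ = v * w := by rw [h]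

theorem ng_r2a_comm (hsq : ∀ v : W, v ^ 2 = 1) (a b : W) : a * b = b * a := by
  have h1 := hsq (a * b)
  have h2 := hsq a
  have h3 := hsq b
  rw [pow_two] at h1 h2 h3
  have ha : a⁻¹ = a := inv_eq_of_mul_eq_one_right h2
  have hb : b⁻¹ = b := inv_eq_of_mul_eq_one_right h3
  have h4 : (a * b)⁻¹ = a * b := inv_eq_of_mul_eq_one_right h1
  rw [mul_inv_rev, ha, hb] at h4
  exact h4.symm

/-- an automorphism of odd order whose square fixes `v` fixes `v` -/
theorem ng_r2a_odd_fix (T : MulAut W) (hodd : Odd (orderOf T)) (v : W)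
    (h2 : (T ^ 2) v = v) : T v = v := by
  obtain ⟨t, ht⟩ := hodd
  have hT : T = (T ^ 2) ^ (t + 1) := by
    rw [← pow_mul]
    have e : 2 * (t + 1) = orderOf T + 1 := by omega
    rw [e, pow_succ, pow_orderOf_eq_one, one_mul]
  have hfix : ∀ n : ℕ, ((T ^ 2) ^ n) v = v := by
    intro n
    induction n with
    | zero => rw [pow_zero]; rfl
    | succ n ih => rw [pow_succ, MulAut.mul_apply, h2, ih]
  have h3 := hfix (t + 1)
  rw [← hT] at h3
  exact h3

/-- an automorphism of odd order of a four-group fixing a nontrivial element is trivial -/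
theorem ng_r2a_fix_triv (hcard : Nat.card W = 4) (hsq : ∀ v : W, v ^ 2 = 1) (T : MulAut W)
    (hodd : Odd (orderOf T)) {v : W} (hv1 : v ≠ 1) (hTv : T v = v) : T = 1 := by
  apply MulEquiv.ext
  intro w
  show T w = w
  by_cases hw1 : w = 1
  · rw [hw1, map_one]
  by_cases hwv : w = v
  · rw [hwv, hTv]
  rcases ng_r2a_four hcard hsq hv1 hw1 hwv (T w) with h | h | h | h
  · exfalso
    apply hw1
    apply T.injective
    rw [h, map_one]
  · exfalso
    apply hwv
    apply T.injective
    rw [h, hTv]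
  · exact h
  · apply ng_r2a_odd_fix T hodd w
    rw [pow_two, MulAut.mul_apply, h, map_mul, hTv, h, ← mul_assoc]
    have hv2 : v * v = 1 := by rw [← pow_two]; exact hsq v
    rw [hv2, one_mul]

/-- a nontrivial automorphism of odd order of a four-group: `T (T v) = v * T v` -/
theorem ng_r2a_cycle (hcard : Nat.card W = 4) (hsq : ∀ v : W, v ^ 2 = 1) (T : MulAut W)
    (hodd : Odd (orderOf T)) (hT1 : T ≠ 1) {v : W} (hv1 : v ≠ 1) : T (T v) = v * T v := by
  have hx1 : T v ≠ 1 := by
    intro h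
    apply hv1
    apply T.injective
    rw [h, map_one]
  have hxv : T v ≠ v := fun h => hT1 (ng_r2a_fix_triv hcard hsq T hodd hv1 h)
  rcases ng_r2a_four hcard hsq hv1 hx1 hxv (T (T v)) with h | h | h | h
  · exfalso
    apply hx1
    apply T.injective
    rw [h, map_one]
  · exfalso
    apply hxv
    apply ng_r2a_odd_fix T hodd v
    rw [pow_two, MulAut.mul_apply, h]
  · exfalso
    exact hT1 (ng_r2a_fix_triv hcard hsq T hodd hx1 h)
  · exact h

/-- an automorphism of odd order of a four-group has trivial cube -/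
theorem ng_r2a_cube (hcard : Nat.card W = 4) (hsq : ∀ v : W, v ^ 2 = 1) (T : MulAut W)
    (hodd : Odd (orderOf T)) : T ^ 3 = 1 := by
  by_cases hT1 : T = 1
  · rw [hT1, one_pow]
  apply MulEquiv.ext
  intro v
  show (T ^ 3) v = v
  by_cases hv1 : v = 1
  · rw [hv1, map_one]
  have hc := ng_r2a_cycle hcard hsq T hodd hT1 hv1
  have e : (T ^ 3) v = T (T (T v)) := by
    rw [pow_succ, pow_two, MulAut.mul_apply, MulAut.mul_apply]
  rw [e, hc, map_mul, hc, ng_r2a_comm hsq v (T v), ← mul_assoc]
  have h2 : T v * T v = 1 := by rw [← pow_two]; exact hsq _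
  rw [h2, one_mul]

end Four

/-- The image of `H` in `Aut V` (`V` a four-group, `Aut V ≅ S3`) has odd order and is nontrivial, so it
has order 3 and is generated by the image of some `h0 ∈ H`; let `a` be the 3-part of `h0`
(`a = h0^m` with `m` the 3'-part of `orderOf h0` suitably chosen: `orderOf a` a power of 3 and `a` still
acts nontrivially since the image has order 3).  A nontrivial odd-order automorphism of a four-group
permutes the 3 involutions cyclically: no fixed point, cube trivial; every `h ∈ H` acts as a power of it. -/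
theorem exists_isA [Finite G] {X H V : Subgroup G} (C : Ctx X H) (hV : IsV X V)
    (hH : ¬ H ≤ Subgroup.centralizer (V : Set G)) : ∃ a, IsA H V a := by
  classical
  haveI hVn : V.Normal := hV.normal
  have hcard : Nat.card ↥V = 4 := hV.card
  have hsq : ∀ v : ↥V, v ^ 2 = 1 := by
    intro v
    apply Subtype.ext
    rw [Subgroup.coe_pow]
    exact hV.sq (v : G) v.2
  set Φ : G →* MulAut ↥V := MulAut.conjNormal with hΦ
  have hΦa : ∀ (g : G) (v : ↥V), ((Φ g v : ↥V) : G) = g * (v : G) * g⁻¹ := fun g v =>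
    MulAut.conjNormal_apply g v
  -- odd order
  have hoddH : ∀ h ∈ H, Odd (orderOf (Φ h)) := by
    intro h hh
    have h1 : orderOf (Φ h) ∣ orderOf h := orderOf_map_dvd Φ h
    have h2 : orderOf h ∣ Nat.card ↥H := Subgroup.orderOf_dvd_natCard H hh
    have h3 : (orderOf (Φ h)).Coprime 2 := Nat.Coprime.coprime_dvd_left (h1.trans h2) C.odd
    exact Nat.Coprime.odd_of_right h3
  -- trivial action
  have hcent : ∀ g : G, Φ g = 1 → g ∈ Subgroup.centralizer (V : Set G) := by
    intro g hg
    rw [Subgroup.mem_centralizer_iff]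
    intro v hv
    have h1 : ((Φ g ⟨v, hv⟩ : ↥V) : G) = v := by rw [hg]; rfl
    rw [hΦa] at h1
    calc v * g = (g * v * g⁻¹) * g := by rw [h1]
      _ = g * v := by group
  obtain ⟨h0, hh0, hh0c⟩ : ∃ h0 ∈ H, h0 ∉ Subgroup.centralizer (V : Set G) := by
    by_contra hcon
    push Not at hcon
    exact hH hcon
  have hΦh0 : Φ h0 ≠ 1 := fun h => hh0c (hcent h0 h)
  have hcube0 : (Φ h0) ^ 3 = 1 := ng_r2a_cube hcard hsq (Φ h0) (hoddH h0 hh0)
  -- the 3-part
  have hpos : orderOf h0 ≠ 0 := (orderOf_pos h0).ne'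
  obtain ⟨k, m, hm3, hkm⟩ := Nat.exists_eq_pow_mul_and_not_dvd hpos 3 (by norm_num)
  have hm0 : m ≠ 0 := by
    intro h
    rw [h, mul_zero] at hkm
    exact hpos hkm
  refine ⟨h0 ^ m, H.pow_mem hh0 m, ⟨k, ?_⟩, ?_, ?_, ?_⟩
  · rw [orderOf_pow_of_dvd hm0 (by rw [hkm]; exact dvd_mul_left m _), hkm,
      Nat.mul_div_cancel _ (Nat.pos_of_ne_zero hm0)]
  all_goals
    have haH : h0 ^ m ∈ H := H.pow_mem hh0 m
    have hΦa1 : Φ (h0 ^ m) ≠ 1 := by
      intro h
      rw [map_pow] at h
      have h1 : orderOf (Φ h0) ∣ m := orderOf_dvd_of_pow_eq_one h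
      have h2 : orderOf (Φ h0) ∣ 3 := orderOf_dvd_of_pow_eq_one hcube0
      have h3 : orderOf (Φ h0) ∣ Nat.gcd m 3 := Nat.dvd_gcd h1 h2
      have h4 : Nat.gcd m 3 = 1 := by
        rw [Nat.gcd_comm]
        exact (Nat.Prime.coprime_iff_not_dvd Nat.prime_three).mpr hm3
      rw [h4, Nat.dvd_one, orderOf_eq_one_iff] at h3
      exact hΦh0 h3
    have hodda : Odd (orderOf (Φ (h0 ^ m))) := hoddH _ haH
  · -- fpf
    intro v hv hav
    by_contra hv1
    apply hΦa1
    apply ng_r2a_fix_triv hcard hsq (Φ (h0 ^ m)) hodda (v := ⟨v, hv⟩)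
    · intro h
      exact hv1 (congrArg Subtype.val h)
    · apply Subtype.ext
      rw [hΦa]
      exact hav
  · -- cube
    intro v hv
    have h1 : Φ ((h0 ^ m) ^ 3) = 1 := by
      rw [map_pow]
      exact ng_r2a_cube hcard hsq _ hodda
    have h2 : ((Φ ((h0 ^ m) ^ 3) ⟨v, hv⟩ : ↥V) : G) = v := by rw [h1]; rfl
    rw [hΦa] at h2
    exact h2
  · -- via
    intro h hh
    have key : ∀ i : ℕ, Φ h = Φ ((h0 ^ m) ^ i) →
        ∀ v ∈ V, h * v * h⁻¹ = (h0 ^ m) ^ i * v * ((h0 ^ m) ^ i)⁻¹ := by
      intro i hi v hv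
      have h1 : ((Φ h ⟨v, hv⟩ : ↥V) : G) = ((Φ ((h0 ^ m) ^ i) ⟨v, hv⟩ : ↥V) : G) := by rw [hi]
      rw [hΦa, hΦa] at h1
      exact h1
    by_cases hS1 : Φ h = 1
    · refine ⟨0, key 0 ?_⟩
      rw [pow_zero, map_one, hS1]
    -- a nontrivial element of `V`
    obtain ⟨v0, hv01⟩ : ∃ v0 : ↥V, v0 ≠ 1 := by
      haveI : Nontrivial ↥V := by
        rw [← Finite.one_lt_card_iff_nontrivial, hcard]
        norm_num
      exact exists_ne 1
    set T := Φ (h0 ^ m) with hT
    set S := Φ h with hS
    have hTv0 : T v0 ≠ v0 := fun hfix => hΦa1 (ng_r2a_fix_triv hcard hsq T hodda hv01 hfix)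
    have hTv01 : T v0 ≠ 1 := by
      intro h1
      apply hv01
      apply T.injective
      rw [h1, map_one]
    -- reduction: if `S v0 = (T ^ i) v0` then `S = T ^ i`
    have hred : ∀ i : ℕ, S v0 = (T ^ i) v0 → S = Φ ((h0 ^ m) ^ i) := by
      intro i hi
      have hmem : ((h0 ^ m) ^ i)⁻¹ * h ∈ H := H.mul_mem (H.inv_mem (H.pow_mem haH i)) hh
      have hfix : Φ (((h0 ^ m) ^ i)⁻¹ * h) v0 = v0 := by
        rw [map_mul, map_inv, map_pow, MulAut.mul_apply]
        show (T ^ i)⁻¹ (S v0) = v0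
        rw [hi, MulAut.inv_apply_self]
      have h1 := ng_r2a_fix_triv hcard hsq _ (hoddH _ hmem) hv01 hfix
      rw [map_mul, map_inv, inv_mul_eq_one] at h1
      exact h1.symm
    rcases ng_r2a_four hcard hsq hv01 hTv01 hTv0 (S v0) with h1 | h1 | h1 | h1
    · exfalso
      apply hv01
      apply S.injective
      rw [h1, map_one]
    · exfalso
      exact hS1 (ng_r2a_fix_triv hcard hsq S (hoddH h hh) hv01 h1)
    · refine ⟨1, key 1 (hred 1 ?_)⟩
      rw [pow_one]
      exact h1
    · refine ⟨2, key 2 (hred 2 ?_)⟩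
      rw [h1, pow_two, MulAut.mul_apply]
      exact (ng_r2a_cycle hcard hsq T hodda hΦa1 hv01).symm

end Cfsg.Agent.Helper17.NG
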