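import Mathlib
import Cfsg.Agent.Lib.NG.NGDefs
import Cfsg.Agent.Lib.NG.NGHCENT
import Cfsg.Agent.Lib.NG.NGUPEX
import Cfsg.Agent.Lib.Helper1.Coprime

/-! S1904 piece NG-R2AB (helper17 design; see plans/S1904_plan.md).  STUB: overwrite this file,
keeping the statement(s), namespace and imports (you may ADD imports of non-NG library files).
Aux lemmas: fresh names `ng_r2ab_...`. -/

set_option autoImplicit false

namespace Cfsg.Agent.Helper17.NG

variable {G : Type*} [Group G]

/-- `X` normalises a normal subgroup -/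
theorem ng_r2ab_le_normalizer {B : Subgroup G} (hB : B.Normal) (K : Subgroup G) :
    K ≤ Subgroup.normalizer (B : Set G) := by
  intro x _
  rw [Subgroup.mem_normalizer_iff]
  intro n
  constructor
  · intro hn
    exact hB.conj_mem n hn x
  · intro hn
    have := hB.conj_mem _ hn x⁻¹
    have e : x⁻¹ * (x * n * x⁻¹) * x⁻¹⁻¹ = n := by group
    rwa [e] at this

/-- For `G`-normal abelian `B ≤ X`: (1) `a^3` centralises `B`: `a^3` has odd order, centralises the involutions of
`B` (they lie in `V`), apply `H_centralizes_of_inv` to `zpowers (a^3)`.  (2) `a` has no fixed point on `B`: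
`{b ∈ B | a b a⁻¹ = b}` is a subgroup of a 2-group; if nontrivial it contains an involution, which lies in `V`,
contradicting `hA.fpf`.  (3) if `N ≤ B`, `N` normal, `N.relIndex B = 4`: no fixed point on `B/N` either:
if `a b a⁻¹ b⁻¹ ∈ N` with `b ∉ N`, then `B1 := N ⊔ zpowers b` (or `N ⊔ zpowers (b^2)`-type) is an
`a`-invariant subgroup of index 2 in `B`; coprime action of `⟨a⟩` on the abelian 2-group `B`:
`B = C_B(a) ⁅B,a⁆` with `C_B(a) = 1` by (2) and `⁅B,a⁆ ≤ B1` (trivial action on `B/B1` of order 2),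
contradiction.  (`B/N` of order 4: either `b N` has order 2, take `B1 = N ⊔ zpowers b`; or `B/N` is cyclic
and its unique subgroup of order 2 is `a`-invariant.) -/
theorem r2_abelian_facts [Finite G] {X H V B : Subgroup G} {a : G} (C : Ctx X H) (hV : IsV X V)
    (hA : IsA H V a) (hB : B.Normal) (hBX : B ≤ X) (hBc : IsMulCommutative ↥B) :
    (∀ b ∈ B, a ^ 3 * b * (a ^ 3)⁻¹ = b) ∧ (∀ b ∈ B, a * b * a⁻¹ = b → b = 1) ∧
    (∀ N : Subgroup G, N.Normal → N ≤ B → N.relIndex B = 4 →
      ∀ b ∈ B, a * b * a⁻¹ * b⁻¹ ∈ N → b ∈ N) := by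
  have hB2 : IsPGroup 2 ↥B := C.two.to_le hBX
  have hinvV : ∀ b ∈ B, b ^ 2 = 1 → b ∈ V := fun b hb hb2 =>
    hV.inv B hBX (ng_r2ab_le_normalizer hB X) hBc b hb hb2
  -- (2)
  have h2 : ∀ b ∈ B, a * b * a⁻¹ = b → b = 1 := by
    intro b hb hab
    by_contra hb1
    have hc1 : (⟨b, hb⟩ : ↥B) ≠ 1 := fun h => hb1 (congrArg Subtype.val h)
    obtain ⟨n, hn1, hn2⟩ := ng_upex_invol hB2 (⟨b, hb⟩ : ↥B) hc1
    have hbn1 : b ^ n ≠ 1 := fun h => hn1 (Subtype.ext (by simpa using h))
    have hbn2 : (b ^ n) ^ 2 = 1 := by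
      have := congrArg Subtype.val hn2
      simpa using this
    have hbnB : b ^ n ∈ B := B.pow_mem hb n
    have hfix : a * b ^ n * a⁻¹ = b ^ n := by
      have : a * b ^ n * a⁻¹ = (a * b * a⁻¹) ^ n := by
        rw [conj_pow]
      rw [this, hab]
    exact hbn1 (hA.fpf _ (hinvV _ hbnB hbn2) hfix)
  refine ⟨?_, h2, ?_⟩
  · -- (1)
    have hle : Subgroup.zpowers (a ^ 3) ≤ H := by
      rw [Subgroup.zpowers_le]
      exact H.pow_mem hA.mem 3
    have hodd : (Nat.card ↥(Subgroup.zpowers (a ^ 3))).Coprime 2 :=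
      Nat.Coprime.coprime_dvd_left (Subgroup.card_dvd_of_le hle) C.odd
    have hcV : Subgroup.zpowers (a ^ 3) ≤ Subgroup.centralizer (V : Set G) := by
      rw [Subgroup.zpowers_le, Subgroup.mem_centralizer_iff]
      intro v hv
      have := hA.cube v hv
      -- a^3 v (a^3)⁻¹ = v  ⇒ v * a^3 = a^3 * v
      calc v * a ^ 3 = (a ^ 3 * v * (a ^ 3)⁻¹) * a ^ 3 := by rw [this]
        _ = a ^ 3 * v := by group
    have hinv : ∀ b ∈ B, b ^ 2 = 1 → ∀ h ∈ Subgroup.zpowers (a ^ 3), h * b * h⁻¹ = b := by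
      intro b hb hb2 h hh
      have hbV := hinvV b hb hb2
      have := Subgroup.mem_centralizer_iff.mp (hcV hh) b hbV
      -- this : b * h = h * b
      rw [← this]
      group
    have hcent := H_centralizes_of_inv hodd hB2 hBc
      (ng_r2ab_le_normalizer hB (Subgroup.zpowers (a ^ 3))) hinv
    intro b hb
    have := Subgroup.mem_centralizer_iff.mp (hcent (Subgroup.mem_zpowers (a ^ 3))) b hb
    rw [← this]
    group
  · -- (3)
    intro N hN hNB _ b hb hbN
    -- stabiliser of the coset bN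
    let K : Subgroup G :=
      { carrier := {g | b⁻¹ * g * b * g⁻¹ ∈ N}
        mul_mem' := by
          intro g g' hg hg'
          have e : b⁻¹ * (g * g') * b * (g * g')⁻¹ =
              (b⁻¹ * g * b * g⁻¹) * (g * (b⁻¹ * g' * b * g'⁻¹) * g⁻¹) := by group
          show b⁻¹ * (g * g') * b * (g * g')⁻¹ ∈ N
          rw [e]
          exact N.mul_mem hg (hN.conj_mem _ hg' g)
        one_mem' := by
          show b⁻¹ * 1 * b * 1⁻¹ ∈ N
          have : b⁻¹ * 1 * b * 1⁻¹ = 1 := by group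
          rw [this]
          exact N.one_mem
        inv_mem' := by
          intro g hg
          have e : b⁻¹ * g⁻¹ * b * g⁻¹⁻¹ = g⁻¹ * (b⁻¹ * g * b * g⁻¹)⁻¹ * g⁻¹⁻¹ := by group
          show b⁻¹ * g⁻¹ * b * g⁻¹⁻¹ ∈ N
          rw [e]
          exact hN.conj_mem _ (N.inv_mem hg) g⁻¹ }
    have haK : a ∈ K := by
      show b⁻¹ * a * b * a⁻¹ ∈ N
      have e : b⁻¹ * a * b * a⁻¹ = b⁻¹ * (a * b * a⁻¹ * b⁻¹) * b⁻¹⁻¹ := by group
      rw [e]
      exact hN.conj_mem _ hbN b⁻¹
    have hzK : Subgroup.zpowers a ≤ K := by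
      rw [Subgroup.zpowers_le]
      exact haK
    have hN2 : IsPGroup 2 ↥N := C.two.to_le (hNB.trans hBX)
    have hcop : (Nat.card ↥(Subgroup.zpowers a)).Coprime (Nat.card ↥N) := by
      obtain ⟨k, hk⟩ := hA.three
      have : Fact (Nat.Prime 2) := ⟨Nat.prime_two⟩
      obtain ⟨m, hm⟩ := hN2.exists_card_eq
      rw [Nat.card_zpowers, hk, hm]
      apply Nat.Coprime.pow
      norm_num
    obtain ⟨c, hc, hcN⟩ := Cfsg.Agent.Helper1.exists_centralizer_mem_coset N (Subgroup.zpowers a)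
      (ng_r2ab_le_normalizer hN _) hcop (Or.inl inferInstance) b (fun g hg => hzK hg)
    have hcB : c ∈ B := by
      have e : c = b * (b⁻¹ * c) := by group
      rw [e]
      exact B.mul_mem hb (hNB hcN)
    have hca : a * c * a⁻¹ = c := by
      have := Subgroup.mem_centralizer_iff.mp hc a (Subgroup.mem_zpowers a)
      rw [this]
      group
    have hc1 := h2 c hcB hca
    rw [hc1, mul_one] at hcN
    have := N.inv_mem hcN
    rwa [inv_inv] at this

end Cfsg.Agent.Helper17.NG
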