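import Mathlib
import Cfsg.Agent.Lib.NG.NGDefs
import Cfsg.Agent.Lib.NG.NGUPEX
import Cfsg.Agent.Lib.NG.NGUPMEM

/-! S1904 piece NG-R2IRR (helper17 design; see plans/S1904_plan.md).  STUB: overwrite this file,
keeping the statement(s), namespace and imports (you may ADD imports of non-NG library files).
Aux lemmas: fresh names `ng_r2irr_...`. -/

set_option autoImplicit false

namespace Cfsg.Agent.Helper17.NG

variable {G : Type*} [Group G]

/-- (1) a normal subgroup `N ≤ V` is `⊥` or `V`: order 1, 2, 4; order 2 gives an `a`-fixed involution.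
(2) a nontrivial `G`-normal `N ≤ X` contains `V`: `N ⊓ ZS X ≠ ⊥` (the 2-group `X` normalises `N ≠ ⊥`:
`exists_mem_Up` with `N := ⊥`, `J := N` gives a central involution), its involutions lie in `V`
(`hV.inv` with `B = ZS X`), so `N ⊓ V ≠ ⊥` and (1) applies. -/
theorem r2_sub_V {H V N : Subgroup G} {a : G} (hV4 : Nat.card ↥V = 4) (hA : IsA H V a)
    (hN : N.Normal) (hNV : N ≤ V) : N = ⊥ ∨ N = V := by
  have hfin : Finite ↥V := Nat.finite_of_card_ne_zero (by rw [hV4]; norm_num)
  have hfinN : Finite ↥N := Finite.of_injective (Subgroup.inclusion hNV) (Subgroup.inclusion_injective hNV)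
  have hdvd : Nat.card ↥N ∣ 4 := by
    rw [← hV4]
    exact Subgroup.card_dvd_of_le hNV
  have hle : Nat.card ↥N ≤ 4 := Nat.le_of_dvd (by norm_num) hdvd
  have hpos : 0 < Nat.card ↥N := Nat.card_pos
  have hcases : Nat.card ↥N = 1 ∨ Nat.card ↥N = 2 ∨ Nat.card ↥N = 4 := by
    interval_cases (Nat.card ↥N) <;> simp_all
  rcases hcases with h1 | h2 | h4
  · left
    exact Subgroup.card_eq_one.mp h1
  · exfalso
    -- N = {1, n}
    obtain ⟨n, hn⟩ : ∃ n : ↥N, n ≠ 1 := by
      by_contra hcon
      push Not at hcon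
      have : Nat.card ↥N = 1 := by
        rw [Nat.card_eq_one_iff_unique]
        exact ⟨⟨fun x y => by rw [hcon x, hcon y]⟩, ⟨1⟩⟩
      omega
    have hall : ∀ m : ↥N, m = 1 ∨ m = n := by
      intro m
      by_contra hm
      push Not at hm
      -- three distinct elements 1, n, m
      have h3 : 3 ≤ Nat.card ↥N := by
        classical
        have hfinN' : Fintype ↥N := Fintype.ofFinite _
        rw [Nat.card_eq_fintype_card]
        have : ({1, n, m} : Finset ↥N).card = 3 := by
          rw [Finset.card_insert_of_notMem, Finset.card_insert_of_notMem, Finset.card_singleton]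
          · simp only [Finset.mem_singleton]
            exact fun h => hm.2 h.symm
          · simp only [Finset.mem_insert, Finset.mem_singleton, not_or]
            exact ⟨fun h => hn h.symm, fun h => hm.1 h.symm⟩
        rw [← this]
        exact Finset.card_le_univ _
      omega
    have hconj : a * (n : G) * a⁻¹ ∈ N := hN.conj_mem n n.2 a
    rcases hall ⟨_, hconj⟩ with h | h
    · apply hn
      apply Subtype.ext
      have h' : a * (n : G) * a⁻¹ = 1 := congrArg Subtype.val h
      have : (n : G) = a⁻¹ * (a * (n : G) * a⁻¹) * a := by group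
      rw [this, h']
      simp
    · have h' : a * (n : G) * a⁻¹ = n := congrArg Subtype.val h
      apply hn
      apply Subtype.ext
      exact hA.fpf n (hNV n.2) h'
  · right
    exact Subgroup.eq_of_le_of_card_ge hNV (by rw [h4, hV4])

theorem ng_r2irr_ZS_comm (X : Subgroup G) : IsMulCommutative ↥(ZS X) := by
  refine ⟨⟨fun x y => ?_⟩⟩
  apply Subtype.ext
  show (x : G) * (y : G) = (y : G) * (x : G)
  have hx : (x : G) ∈ ZS X := x.2
  have hy : (y : G) ∈ ZS X := y.2
  unfold ZS at hx hy
  have h1 := Subgroup.mem_centralizer_iff.mp hx.2 (y : G) hy.1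
  exact h1.symm

theorem ng_r2irr_ZS_norm (X : Subgroup G) : X ≤ Subgroup.normalizer ((ZS X : Subgroup G) : Set G) := by
  intro x hx
  rw [Subgroup.mem_normalizer_iff]
  intro c
  have key : ∀ d : G, d ∈ ZS X → x * d * x⁻¹ = d := by
    intro d hd
    unfold ZS at hd
    have h1 := Subgroup.mem_centralizer_iff.mp hd.2 x hx
    -- h1 : x * d = d * x
    rw [h1]
    group
  constructor
  · intro hc
    rw [key c hc]
    exact hc
  · intro hc
    have h1 : x⁻¹ * (x * c * x⁻¹) * x⁻¹⁻¹ = x * c * x⁻¹ := by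
      have hd := hc
      unfold ZS at hd
      have h2 := Subgroup.mem_centralizer_iff.mp hd.2 x⁻¹ (X.inv_mem hx)
      rw [h2]
      group
    have h3 : c = x⁻¹ * (x * c * x⁻¹) * x⁻¹⁻¹ := by group
    rw [h3, h1]
    exact hc

theorem r2_V_le [Finite G] {X H V N : Subgroup G} {a : G} (C : Ctx X H) (hV : IsV X V)
    (hA : IsA H V a) (hN : N.Normal) (hNX : N ≤ X) (hne : N ≠ ⊥) : V ≤ N := by
  have hbotn : (⊥ : Subgroup G).Normal := inferInstance
  have hXN : X ≤ Subgroup.normalizer (N : Set G) := by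
    intro x _
    rw [Subgroup.mem_normalizer_iff]
    intro n
    constructor
    · intro hn
      exact hN.conj_mem n hn x
    · intro hn
      have := hN.conj_mem _ hn x⁻¹
      have e : x⁻¹ * (x * n * x⁻¹) * x⁻¹⁻¹ = n := by group
      rwa [e] at this
  obtain ⟨j, hjN, hjbot, hjUp⟩ := exists_mem_Up (X := X) (N := ⊥) (J := N) C.two hbotn hNX hXN bot_le
    (fun h => hne h.symm)
  rw [mem_Up hbotn] at hjUp
  obtain ⟨hjX, hjc, hj2⟩ := hjUp
  have hj1 : j ≠ 1 := fun h => hjbot (by rw [h]; exact Subgroup.one_mem _)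
  have hj2' : j ^ 2 = 1 := (Subgroup.mem_bot).mp hj2
  have hjZ : j ∈ ZS X := by
    unfold ZS
    refine ⟨hjX, ?_⟩
    show j ∈ Subgroup.centralizer (X : Set G)
    rw [Subgroup.mem_centralizer_iff]
    intro x hx
    have h1 := (Subgroup.mem_bot).mp (hjc x hx)
    -- j x j⁻¹ x⁻¹ = 1  ⇒ x * j = j * x
    have : j * x = x * j := by
      have h2 : j * x * j⁻¹ * x⁻¹ * (x * j) = x * j := by rw [h1, one_mul]
      have h3 : j * x * j⁻¹ * x⁻¹ * (x * j) = j * x := by group
      rw [h3] at h2
      exact h2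
    exact this.symm
  have hjV : j ∈ V := hV.inv (ZS X) inf_le_left (ng_r2irr_ZS_norm X) (ng_r2irr_ZS_comm X) j hjZ hj2'
  have hNVn : (N ⊓ V).Normal := by
    have := hN
    have := hV.normal
    infer_instance
  rcases r2_sub_V hV.card hA hNVn inf_le_right with h | h
  · exfalso
    apply hj1
    have : j ∈ N ⊓ V := ⟨hjN, hjV⟩
    rw [h] at this
    exact (Subgroup.mem_bot).mp this
  · rw [← h]
    exact inf_le_left

end Cfsg.Agent.Helper17.NG
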