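import Mathlib
import Cfsg.Agent.Lib.NG.NGDefs
import Cfsg.Agent.Lib.NG.NGOMSQ

/-! S1904 piece NG-VOM (helper17 design; see plans/S1904_plan.md).  STUB: overwrite this file,
keeping the statement(s), namespace and imports (you may ADD imports of non-NG library files).
Aux lemmas: fresh names `ng_vom_...`. -/

set_option autoImplicit false

namespace Cfsg.Agent.Helper17.NG

variable {G : Type*} [Group G]

/-- `Om B` is elementary abelian (`Om_elementary`), contained in `X`, normalised by `X`
(`Om_normalizer`), so `C.rank` applies. -/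
theorem card_Om_le [Finite G] {X H B : Subgroup G} (C : Ctx X H) (hBX : B ≤ X)
    (hBn : X ≤ Subgroup.normalizer (B : Set G)) (hBc : IsMulCommutative ↥B) :
    Nat.card ↥(Om B) ≤ 4 :=
  C.rank (Om B) ((Om_le B).trans hBX) (Om_normalizer hBn) (Om_elementary hBc)

end Cfsg.Agent.Helper17.NG
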