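import Mathlib
import Cfsg.Agent.Lib.NG.NGDefs
import Cfsg.Agent.Lib.NG.NGR2IRR
import Cfsg.Agent.Lib.NG.NGOMSQ
import Cfsg.Agent.Lib.NG.NGVOM
import Cfsg.Agent.Lib.NG.NGUPEX
import Cfsg.Agent.Lib.NG.NGUPMEM
import Cfsg.Agent.Lib.NG.NGANISO

/-! S1904 piece NG-R2BETA (helper17 design; see plans/S1904_plan.md).
Aux lemmas: fresh names `ng_r2beta_...`. -/

set_option autoImplicit false
set_option linter.style.haveILetI false

namespace Cfsg.Agent.Helper17.NG

variable {G : Type*} [Group G]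

/-- elementwise commutativity in an abelian subgroup -/
theorem ng_r2beta_comm {B : Subgroup G} (hB : IsMulCommutative ↥B) {x y : G} (hx : x ∈ B)
    (hy : y ∈ B) : x * y = y * x := by
  haveI := hB
  exact setLike_mul_comm hx hy

/-- pigeonhole: five elements mapped into a type with at most four elements -/
theorem ng_r2beta_five {α β : Type*} [Finite β] (hβ : Nat.card β ≤ 4) (g : α → β)
    (x0 x1 x2 x3 x4 : α) :
    g x0 = g x1 ∨ g x0 = g x2 ∨ g x0 = g x3 ∨ g x0 = g x4 ∨ g x1 = g x2 ∨ g x1 = g x3 ∨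
      g x1 = g x4 ∨ g x2 = g x3 ∨ g x2 = g x4 ∨ g x3 = g x4 := by
  by_contra h
  simp only [not_or] at h
  obtain ⟨h01, h02, h03, h04, h12, h13, h14, h23, h24, h34⟩ := h
  let F : Fin 5 → β := ![g x0, g x1, g x2, g x3, g x4]
  have inj : Function.Injective F := by
    intro i j hij
    fin_cases i <;> fin_cases j <;> simp [F] at hij ⊢ <;>
      first
        | exact absurd hij h01 | exact absurd hij h02 | exact absurd hij h03
        | exact absurd hij h04 | exact absurd hij h12 | exact absurd hij h13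
        | exact absurd hij h14 | exact absurd hij h23 | exact absurd hij h24
        | exact absurd hij h34
        | exact absurd hij.symm h01 | exact absurd hij.symm h02 | exact absurd hij.symm h03
        | exact absurd hij.symm h04 | exact absurd hij.symm h12 | exact absurd hij.symm h13
        | exact absurd hij.symm h14 | exact absurd hij.symm h23 | exact absurd hij.symm h24
        | exact absurd hij.symm h34
  have h5 := Nat.card_le_card_of_injective F inj
  rw [Nat.card_eq_fintype_card, Fintype.card_fin] at h5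
  omega

/-- If the maximal normal abelian `M` is not self-centralising in `X` then `M = V`.
`V ≤ M` (`M ⊔ V` is normal abelian as `V` is central; maximality).  Suppose `M ≠ V`.
`Om M = V` (`hV.inv`; `card_Om_le`), `Sq M ≠ ⊥` (else `M = Om M`), `Sq M` normal, so `V ≤ Sq M`
(`r2_V_le`); `(Sq M).relIndex M = card (Om M) = 4` (`card_Om_mul_card_Sq`).
`J := X ⊓ C(M) ≠ M`, normalised by `X`: `exists_mem_Up` gives elements of `D := Up X M ⊓ C(M)` outside `M`
(`D` normal in `G`).  For `d ∈ D \ M`: `d^2 ∉ Sq M` (`aniso` with `N = M`).  For `d d' ∈ D`: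
`k = d' d d'⁻¹ d⁻¹ ∈ M` has `k^2 = 1` (`d^2 ∈ M` is centralised by `d'`), so `k ∈ V ≤ Sq M`; hence
`d ↦ d^2 Sq M` is a homomorphism `D → M/Sq M` with kernel exactly `M`: `M.relIndex D ≤ 4`.
So `D = ⟨d1, d2⟩ M` with `M` central in `D`: `⁅D,D⁆` is generated by one element `k ∈ V` with `k^2 = 1`;
`⁅D,D⁆` is normal in `G`, of order `≤ 2`, inside `V`: `⁅D,D⁆ = ⊥` (`r2_sub_V`).  So `D` is normal abelian,
`M < D`: contradicts maximality. -/
theorem r2_noncentral [Finite G] {X H V M : Subgroup G} {a : G} (C : Ctx X H) (hV : IsV X V)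
    (hA : IsA H V a) (hM : IsMaxAb X M)
    (hns : ¬ X ⊓ Subgroup.centralizer (M : Set G) ≤ M) : M = V := by
  haveI hXn : X.Normal := C.normal
  haveI hMn : M.Normal := hM.normal
  haveI hVn : V.Normal := hV.normal
  have cM : ∀ x ∈ M, ∀ y ∈ M, x * y = y * x := fun x hx y hy => ng_r2beta_comm hM.comm hx hy
  have hMcM : M ≤ Subgroup.centralizer (M : Set G) := by
    intro m hm
    rw [Subgroup.mem_centralizer_iff]
    intro y hy
    exact cM y hy m hm
  -- Step 1: V ≤ M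
  have hVM : V ≤ M := by
    have hB : IsMulCommutative ↥(M ⊔ V) := by
      rw [Subgroup.sup_eq_closure]
      apply Subgroup.isMulCommutative_closure
      rintro x (hx | hx) y (hy | hy)
      · exact cM x hx y hy
      · have h1 := hV.central (hM.le hx)
        rw [Subgroup.mem_centralizer_iff] at h1
        exact (h1 y hy).symm
      · have h1 := hV.central (hM.le hy)
        rw [Subgroup.mem_centralizer_iff] at h1
        exact h1 x hx
      · have h1 := hV.central (hV.le hx)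
        rw [Subgroup.mem_centralizer_iff] at h1
        exact (h1 y hy).symm
    have h2 := hM.max (M ⊔ V) (sup_le hM.le hV.le) inferInstance hB le_sup_left
    rw [← h2]
    exact le_sup_right
  by_contra hne
  -- involutions of M lie in V
  have hOm : ∀ m ∈ M, m ^ 2 = 1 → m ∈ V :=
    hV.inv M hM.le (by rw [Subgroup.normalizer_eq_top]; exact le_top) hM.comm
  have hSq0 : Sq M ≠ ⊥ := by
    intro h0
    apply hne
    apply le_antisymm _ hVM
    intro m hm
    apply hOm m hm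
    have h1 : m ^ 2 ∈ Sq M := (mem_Sq hM.comm).2 ⟨m, hm, rfl⟩
    rw [h0, Subgroup.mem_bot] at h1
    exact h1
  have hSqn : (Sq M).Normal := Sq_normal hM.normal
  have hSqM : Sq M ≤ M := Sq_le M
  have hVSq : V ≤ Sq M := r2_V_le C hV hA hSqn (hSqM.trans hM.le) hSq0
  have hOmV : Om M = V := by
    apply le_antisymm
    · intro b hb
      obtain ⟨hbM, hb2⟩ := (mem_Om hM.comm).1 hb
      exact hOm b hbM hb2
    · intro v hv
      exact (mem_Om hM.comm).2 ⟨hVM hv, hV.sq v hv⟩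
  have hidx : 4 * Nat.card ↥(Sq M) = Nat.card ↥M := by
    have h1 := card_Om_mul_card_Sq hM.comm
    rw [hOmV, hV.card] at h1
    exact h1
  -- the quotient M / Sq M has four elements
  have hq4 : Nat.card (↥M ⧸ (Sq M).subgroupOf M) = 4 := by
    have h1 := Subgroup.card_mul_index ((Sq M).subgroupOf M)
    have h2 : Nat.card ↥((Sq M).subgroupOf M) = Nat.card ↥(Sq M) :=
      Nat.card_congr (Subgroup.subgroupOfEquivOfLe hSqM).toEquiv
    rw [h2, ← hidx] at h1
    have hpos : 0 < Nat.card ↥(Sq M) := Nat.card_pos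
    have h3 : ((Sq M).subgroupOf M).index = 4 := by
      have : Nat.card ↥(Sq M) * ((Sq M).subgroupOf M).index = Nat.card ↥(Sq M) * 4 := by
        rw [h1]; ring
      exact Nat.eq_of_mul_eq_mul_left hpos this
    exact h3
  -- Step 3: the subgroup D
  have hMJ : M ≤ X ⊓ Subgroup.centralizer (M : Set G) := le_inf hM.le hMcM
  have hJne : M ≠ X ⊓ Subgroup.centralizer (M : Set G) := by
    intro h
    apply hns
    rw [← h]
  obtain ⟨j, hjJ, hjM, hjUp⟩ := exists_mem_Up C.two hM.normal inf_le_left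
    (by rw [Subgroup.normalizer_eq_top]; exact le_top) hMJ hJne
  haveI hUpn : (Up X M).Normal := Up_normal C.normal hM.normal
  set D : Subgroup G := Up X M ⊓ Subgroup.centralizer (M : Set G) with hDdef
  haveI hDn : D.Normal := by rw [hDdef]; infer_instance
  have hjD : j ∈ D := ⟨hjUp, hjJ.2⟩
  have hMD : M ≤ D := le_inf (le_Up hM.normal hM.le) hMcM
  have hDX : D ≤ X := inf_le_left.trans (Up_le X M)
  -- basic facts on elements of D
  have hDc : ∀ d ∈ D, ∀ m ∈ M, m * d = d * m := by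
    intro d hd m hm
    have h1 : d ∈ Subgroup.centralizer (M : Set G) := hd.2
    rw [Subgroup.mem_centralizer_iff] at h1
    exact h1 m hm
  have hD2 : ∀ d ∈ D, d ^ 2 ∈ M := fun d hd => ((mem_Up hM.normal).1 hd.1).2.2
  have hkM : ∀ d ∈ D, ∀ e ∈ D, d * e * d⁻¹ * e⁻¹ ∈ M := fun d hd e he =>
    ((mem_Up hM.normal).1 hd.1).2.1 e (hDX he)
  -- Step 4
  have hsq : ∀ d ∈ D, d ∉ M → d ^ 2 ∉ Sq M := by
    intro d hd hdM hd2
    obtain ⟨m, hm, hdm⟩ := (mem_Sq hM.comm).1 hd2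
    have h1 := aniso hV hM.normal hM.comm hVM hM.le hd.1 hd.2 hdM m⁻¹ (M.inv_mem hm)
    apply h1
    have hc : m⁻¹ * d = d * m⁻¹ := hDc d hd m⁻¹ (M.inv_mem hm)
    calc (d * m⁻¹) ^ 2 = d * (m⁻¹ * d) * m⁻¹ := by rw [pow_two]; group
      _ = d * (d * m⁻¹) * m⁻¹ := by rw [hc]
      _ = d ^ 2 * (m ^ 2)⁻¹ := by rw [pow_two, pow_two]; group
      _ = 1 := by rw [hdm, mul_inv_cancel]
  -- commutators of D are involutions of M, hence lie in V
  have hk2 : ∀ d ∈ D, ∀ e ∈ D, (d * e * d⁻¹ * e⁻¹) ^ 2 = 1 := by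
    intro d hd e he
    have hkm := hkM d hd e he
    have h1 : d * e ^ 2 * d⁻¹ = e ^ 2 := by
      have := hDc d hd (e ^ 2) (hD2 e he)
      rw [mul_inv_eq_iff_eq_mul]
      exact this.symm
    have h2 : d * e ^ 2 * d⁻¹ = ((d * e * d⁻¹ * e⁻¹) * e) ^ 2 := by
      rw [pow_two, pow_two]; group
    have hce : (d * e * d⁻¹ * e⁻¹) * e = e * (d * e * d⁻¹ * e⁻¹) := hDc e he _ hkm
    have h3 : ((d * e * d⁻¹ * e⁻¹) * e) ^ 2 = (d * e * d⁻¹ * e⁻¹) ^ 2 * e ^ 2 := by
      calc ((d * e * d⁻¹ * e⁻¹) * e) ^ 2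
          = (d * e * d⁻¹ * e⁻¹) * (e * (d * e * d⁻¹ * e⁻¹)) * e := by
            rw [pow_two]; simp only [mul_assoc]
        _ = (d * e * d⁻¹ * e⁻¹) * ((d * e * d⁻¹ * e⁻¹) * e) * e := by rw [hce]
        _ = (d * e * d⁻¹ * e⁻¹) ^ 2 * e ^ 2 := by
            rw [pow_two, pow_two]; simp only [mul_assoc]
    rw [h2, h3] at h1
    have h4 : (d * e * d⁻¹ * e⁻¹) ^ 2 * e ^ 2 = 1 * e ^ 2 := by rw [one_mul]; exact h1
    exact mul_right_cancel h4
  have hkV : ∀ d ∈ D, ∀ e ∈ D, d * e * d⁻¹ * e⁻¹ ∈ V := fun d hd e he =>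
    hOm _ (hkM d hd e he) (hk2 d hd e he)
  -- bimultiplicativity
  have hmulR : ∀ x ∈ D, ∀ y ∈ D, ∀ y' ∈ D,
      x * (y * y') * x⁻¹ * (y * y')⁻¹ = (x * y * x⁻¹ * y⁻¹) * (x * y' * x⁻¹ * y'⁻¹) := by
    intro x hx y hy y' hy'
    have hc : (x * y' * x⁻¹ * y'⁻¹) * y = y * (x * y' * x⁻¹ * y'⁻¹) :=
      hDc y hy _ (hkM x hx y' hy')
    calc x * (y * y') * x⁻¹ * (y * y')⁻¹
        = (x * y * x⁻¹ * y⁻¹) * (y * (x * y' * x⁻¹ * y'⁻¹)) * y⁻¹ := by group
      _ = (x * y * x⁻¹ * y⁻¹) * ((x * y' * x⁻¹ * y'⁻¹) * y) * y⁻¹ := by rw [hc]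
      _ = (x * y * x⁻¹ * y⁻¹) * (x * y' * x⁻¹ * y'⁻¹) := by group
  have hmulL : ∀ x ∈ D, ∀ x' ∈ D, ∀ y ∈ D,
      (x * x') * y * (x * x')⁻¹ * y⁻¹ = (x * y * x⁻¹ * y⁻¹) * (x' * y * x'⁻¹ * y⁻¹) := by
    intro x hx x' hx' y hy
    have hc : (x' * y * x'⁻¹ * y⁻¹) * x = x * (x' * y * x'⁻¹ * y⁻¹) :=
      hDc x hx _ (hkM x' hx' y hy)
    have hc2 : (x' * y * x'⁻¹ * y⁻¹) * (x * y * x⁻¹ * y⁻¹) =
        (x * y * x⁻¹ * y⁻¹) * (x' * y * x'⁻¹ * y⁻¹) :=
      cM _ (hkM x' hx' y hy) _ (hkM x hx y hy)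
    calc (x * x') * y * (x * x')⁻¹ * y⁻¹
        = (x * (x' * y * x'⁻¹ * y⁻¹)) * x⁻¹ * (x * y * x⁻¹ * y⁻¹) := by group
      _ = ((x' * y * x'⁻¹ * y⁻¹) * x) * x⁻¹ * (x * y * x⁻¹ * y⁻¹) := by rw [hc]
      _ = (x' * y * x'⁻¹ * y⁻¹) * (x * y * x⁻¹ * y⁻¹) := by group
      _ = (x * y * x⁻¹ * y⁻¹) * (x' * y * x'⁻¹ * y⁻¹) := hc2
  have hkMR : ∀ x ∈ D, ∀ m ∈ M, x * m * x⁻¹ * m⁻¹ = 1 := by
    intro x hx m hm
    rw [← hDc x hx m hm]; group
  have hkML : ∀ m ∈ M, ∀ y ∈ D, m * y * m⁻¹ * y⁻¹ = 1 := by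
    intro m hm y hy
    rw [hDc y hy m hm]; group
  -- squares
  have hsqmul : ∀ d ∈ D, ∀ e ∈ D, (d * e) ^ 2 = (e * d * e⁻¹ * d⁻¹) * (d ^ 2 * e ^ 2) := by
    intro d hd e he
    have hc : (e * d * e⁻¹ * d⁻¹) * d = d * (e * d * e⁻¹ * d⁻¹) := hDc d hd _ (hkM e he d hd)
    calc (d * e) ^ 2 = d * ((e * d * e⁻¹ * d⁻¹) * d) * e * e := by rw [pow_two]; group
      _ = d * (d * (e * d * e⁻¹ * d⁻¹)) * e * e := by rw [hc]
      _ = d * d * ((e * d * e⁻¹ * d⁻¹) * e ^ 2) := by simp only [pow_two]; group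
      _ = d * d * (e ^ 2 * (e * d * e⁻¹ * d⁻¹)) := by
          rw [cM _ (hkM e he d hd) _ (hD2 e he)]
      _ = (d ^ 2 * e ^ 2) * (e * d * e⁻¹ * d⁻¹) := by simp only [pow_two]; group
      _ = (e * d * e⁻¹ * d⁻¹) * (d ^ 2 * e ^ 2) :=
          cM _ (M.mul_mem (hD2 d hd) (hD2 e he)) _ (hkM e he d hd)
  -- injectivity of squaring modulo Sq M
  have hinj : ∀ d ∈ D, ∀ e ∈ D, (d ^ 2)⁻¹ * e ^ 2 ∈ Sq M → d⁻¹ * e ∈ M := by
    intro d hd e he h
    by_contra hnot
    have hdi : d⁻¹ ∈ D := D.inv_mem hd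
    have h1 := hsq (d⁻¹ * e) (D.mul_mem hdi he) hnot
    apply h1
    rw [hsqmul d⁻¹ hdi e he, inv_pow]
    exact (Sq M).mul_mem (hVSq (hkV e he d⁻¹ hdi)) h
  -- the squaring map into M / Sq M
  let g : ↥D → ↥M ⧸ (Sq M).subgroupOf M := fun x =>
    QuotientGroup.mk (⟨(x : G) ^ 2, hD2 x x.2⟩ : ↥M)
  have hpair : ∀ x y : ↥D, g x = g y → (x : G)⁻¹ * (y : G) ∈ M := by
    intro x y h
    have h1 : (⟨(x : G) ^ 2, hD2 x x.2⟩ : ↥M)⁻¹ * (⟨(y : G) ^ 2, hD2 y y.2⟩ : ↥M) ∈
        (Sq M).subgroupOf M := QuotientGroup.eq.1 h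
    rw [Subgroup.mem_subgroupOf] at h1
    exact hinj x x.2 y y.2 h1
  have hself : ∀ x : G, x * x * x⁻¹ * x⁻¹ = 1 := fun x => by group
  by_cases hab : ∀ d ∈ D, ∀ e ∈ D, d * e * d⁻¹ * e⁻¹ = 1
  · -- D is abelian: contradiction with maximality
    have hDab : IsMulCommutative ↥D := by
      refine IsMulCommutative.of_setLike_mul_comm (fun d hd e he => ?_)
      have h1 := hab d hd e he
      have h2 : d * e * d⁻¹ = e := mul_inv_eq_one.1 h1
      exact mul_inv_eq_iff_eq_mul.1 h2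
    have h3 := hM.max D hDX hDn hDab hMD
    exact hjM (h3 ▸ hjD)
  · simp only [not_forall, exists_prop] at hab
    obtain ⟨d, hd, e, he, hv⟩ := hab
    have hde : d * e ∈ D := D.mul_mem hd he
    have hdM : d ∉ M := fun h => hv (hkML d h e he)
    have heM : e ∉ M := fun h => hv (hkMR d hd e h)
    -- coverage
    have hcov : ∀ x ∈ D, x ∈ M ∨ d⁻¹ * x ∈ M ∨ e⁻¹ * x ∈ M ∨ (d * e)⁻¹ * x ∈ M := by
      intro x hx
      have h5 := ng_r2beta_five hq4.le g ⟨1, D.one_mem⟩ ⟨d, hd⟩ ⟨e, he⟩ ⟨d * e, hde⟩ ⟨x, hx⟩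
      rcases h5 with h | h | h | h | h | h | h | h | h | h
      · have h1 := hpair _ _ h
        simp only [inv_one, one_mul] at h1
        exact absurd h1 hdM
      · have h1 := hpair _ _ h
        simp only [inv_one, one_mul] at h1
        exact absurd h1 heM
      · have h1 := hpair _ _ h
        simp only [inv_one, one_mul] at h1
        have h2 := hkMR d hd (d * e) h1
        rw [hmulR d hd d hd e he, hself d, one_mul] at h2
        exact absurd h2 hv
      · have h1 := hpair _ _ h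
        simp only [inv_one, one_mul] at h1
        exact Or.inl h1
      · have h1 := hpair _ _ h
        have h2 := hkMR d hd (d⁻¹ * e) h1
        rw [hmulR d hd d⁻¹ (D.inv_mem hd) e he] at h2
        have h3 : d * d⁻¹ * d⁻¹ * d⁻¹⁻¹ = 1 := by group
        rw [h3, one_mul] at h2
        exact absurd h2 hv
      · have h1 := hpair _ _ h
        have h2 : (d : G)⁻¹ * (d * e) = e := by group
        simp only [h2] at h1
        exact absurd h1 heM
      · exact Or.inr (Or.inl (hpair _ _ h))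
      · have h1 := hpair _ _ h
        have h2 := hMn.conj_mem _ h1 e
        have h3 : e * ((e : G)⁻¹ * (d * e)) * e⁻¹ = d := by group
        simp only [h3] at h2
        exact absurd h2 hdM
      · exact Or.inr (Or.inr (Or.inl (hpair _ _ h)))
      · exact Or.inr (Or.inr (Or.inr (hpair _ _ h)))
    set v := d * e * d⁻¹ * e⁻¹ with hvdef
    set T : Subgroup G := Subgroup.zpowers v with hTdef
    have hvT : v ∈ T := Subgroup.mem_zpowers v
    have hviT : v⁻¹ ∈ T := T.inv_mem hvT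
    have hed : e * d * e⁻¹ * d⁻¹ = v⁻¹ := by rw [hvdef]; group
    -- reduce the second variable modulo M
    have hredR : ∀ x ∈ D, ∀ r ∈ D, ∀ y ∈ D, r⁻¹ * y ∈ M →
        x * y * x⁻¹ * y⁻¹ = x * r * x⁻¹ * r⁻¹ := by
      intro x hx r hr y hy hm
      have h1 : y = r * (r⁻¹ * y) := by group
      rw [h1, hmulR x hx r hr _ (hMD hm), hkMR x hx _ hm, mul_one]
    have hredL : ∀ r ∈ D, ∀ x ∈ D, ∀ y ∈ D, r⁻¹ * x ∈ M →
        x * y * x⁻¹ * y⁻¹ = r * y * r⁻¹ * y⁻¹ := by
      intro r hr x hx y hy hm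
      have h1 : x = r * (r⁻¹ * x) := by group
      rw [h1, hmulL r hr _ (hMD hm) y hy, hkML _ hm y hy, mul_one]
    have hα : ∀ y ∈ D, d * y * d⁻¹ * y⁻¹ ∈ T ∧ e * y * e⁻¹ * y⁻¹ ∈ T := by
      intro y hy
      rcases hcov y hy with h | h | h | h
      · rw [hkMR d hd y h, hkMR e he y h]
        exact ⟨T.one_mem, T.one_mem⟩
      · rw [hredR d hd d hd y hy h, hredR e he d hd y hy h, hself d, hed]
        exact ⟨T.one_mem, hviT⟩
      · rw [hredR d hd e he y hy h, hredR e he e he y hy h, hself e]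
        exact ⟨hvT, T.one_mem⟩
      · rw [hredR d hd (d * e) hde y hy h, hredR e he (d * e) hde y hy h,
          hmulR d hd d hd e he, hmulR e he d hd e he, hself d, hself e, hed, one_mul, mul_one]
        exact ⟨hvT, hviT⟩
    have hβ : ∀ x ∈ D, ∀ y ∈ D, x * y * x⁻¹ * y⁻¹ ∈ T := by
      intro x hx y hy
      rcases hcov x hx with h | h | h | h
      · rw [hkML x h y hy]
        exact T.one_mem
      · rw [hredL d hd x hx y hy h]
        exact (hα y hy).1
      · rw [hredL e he x hx y hy h]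
        exact (hα y hy).2
      · rw [hredL (d * e) hde x hx y hy h, hmulL d hd e he y hy]
        exact T.mul_mem (hα y hy).1 (hα y hy).2
    have hcT : ⁅D, D⁆ ≤ T := by
      rw [Subgroup.commutator_le]
      intro x hx y hy
      rw [commutatorElement_def]
      exact hβ x hx y hy
    have hcV : ⁅D, D⁆ ≤ V := by
      rw [Subgroup.commutator_le]
      intro x hx y hy
      rw [commutatorElement_def]
      exact hkV x hx y hy
    have hvc : v ∈ ⁅D, D⁆ := by
      have := Subgroup.commutator_mem_commutator hd he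
      rwa [commutatorElement_def] at this
    rcases r2_sub_V hV.card hA (inferInstance : (⁅D, D⁆).Normal) hcV with h | h
    · rw [h, Subgroup.mem_bot] at hvc
      exact hv hvc
    · rw [h] at hcT
      have h1 : Nat.card ↥V ≤ Nat.card ↥T := Subgroup.card_le_of_le hcT
      rw [hV.card, hTdef, Nat.card_zpowers] at h1
      have h2 : orderOf v ∣ 2 := orderOf_dvd_of_pow_eq_one (hk2 d hd e he)
      have h3 := Nat.le_of_dvd (by norm_num) h2
      omega

end Cfsg.Agent.Helper17.NG
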