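import Mathlib
import Cfsg.Agent.Lib.NG.NGDefs
import Cfsg.Agent.Lib.NG.NGOMSQ

/-! S1904 piece NG-R2LEVEL (helper17 design; see plans/S1904_plan.md). -/

set_option autoImplicit false

namespace Cfsg.Agent.Helper17.NG

variable {G : Type*} [Group G]

/-- `ψ(u) = g u g⁻¹ u⁻¹` is multiplicative on an abelian normal subgroup. -/
theorem ng_r2level_mul {M : Subgroup G} (hM : M.Normal) (hMc : IsMulCommutative ↥M) (g : G)
    {u v : G} (hu : u ∈ M) (hv : v ∈ M) :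
    g * (u * v) * g⁻¹ * (u * v)⁻¹ = (g * u * g⁻¹ * u⁻¹) * (g * v * g⁻¹ * v⁻¹) := by
  have hcomm : ∀ a ∈ M, ∀ b ∈ M, a * b = b * a := fun a ha b hb => by
    have := hMc.is_comm.comm (⟨a, ha⟩ : M) ⟨b, hb⟩
    exact congrArg Subtype.val this
  have h1 : g * v * g⁻¹ * v⁻¹ ∈ M := M.mul_mem (hM.conj_mem v hv g) (M.inv_mem hv)
  have h2 : u⁻¹ ∈ M := M.inv_mem hu
  have h3 := hcomm _ h1 _ h2
  calc g * (u * v) * g⁻¹ * (u * v)⁻¹
      = (g * u * g⁻¹) * ((g * v * g⁻¹ * v⁻¹) * u⁻¹) := by group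
    _ = (g * u * g⁻¹) * (u⁻¹ * (g * v * g⁻¹ * v⁻¹)) := by rw [h3]
    _ = _ := by group

theorem ng_r2level_pow {M : Subgroup G} (hM : M.Normal) (hMc : IsMulCommutative ↥M) (g : G)
    {u : G} (hu : u ∈ M) (n : ℕ) :
    g * (u ^ n) * g⁻¹ * (u ^ n)⁻¹ = (g * u * g⁻¹ * u⁻¹) ^ n := by
  induction n with
  | zero => simp
  | succ n ih =>
    rw [pow_succ, ng_r2level_mul hM hMc g (M.pow_mem hu n) hu, ih, pow_succ]

/-- (P-a) Let `M` be abelian normal, `g` with `g^2 ∈ C(M)` centralising `Om2 M`.  Then `g` acts on `M` by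
`u ↦ ψ(u) u` with `ψ(u)^2 = 1`. -/
theorem r2_level [Finite G] {M : Subgroup G} (hM : M.Normal) (hMc : IsMulCommutative ↥M)
    (hM2 : IsPGroup 2 ↥M) {g : G} (hg2 : g ^ 2 ∈ Subgroup.centralizer (M : Set G))
    (hgL : g ∈ Subgroup.centralizer (Om2 M : Set G)) :
    ∀ u ∈ M, (g * u * g⁻¹ * u⁻¹) ^ 2 = 1 := by
  intro u hu
  have hpsi : ∀ w ∈ M, g * w * g⁻¹ * w⁻¹ ∈ M := fun w hw =>
    M.mul_mem (hM.conj_mem w hw g) (M.inv_mem hw)
  -- the relation from `g^2 ∈ C(M)`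
  have hrel : ∀ w ∈ M, g * (g * w * g⁻¹ * w⁻¹) * g⁻¹ * (g * w * g⁻¹ * w⁻¹)⁻¹
      = ((g * w * g⁻¹ * w⁻¹) ^ 2)⁻¹ := by
    intro w hw
    have h1 : w * g ^ 2 = g ^ 2 * w := (Subgroup.mem_centralizer_iff.mp hg2) w hw
    have h2 : g ^ 2 * w * (g ^ 2)⁻¹ = w := by rw [← h1]; group
    have hcomm : ∀ a ∈ M, ∀ b ∈ M, a * b = b * a := fun a ha b hb => by
      have := hMc.is_comm.comm (⟨a, ha⟩ : M) ⟨b, hb⟩
      exact congrArg Subtype.val this
    set y := g * w * g⁻¹ * w⁻¹ with hy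
    have hyM : y ∈ M := hpsi w hw
    -- g w g⁻¹ = y w
    have h3 : g * w * g⁻¹ = y * w := by rw [hy]; group
    -- g^2 w g^-2 = (g y g⁻¹) (y w)
    have h4 : (g * y * g⁻¹) * (y * w) = w := by
      have : (g * y * g⁻¹) * (g * w * g⁻¹) = g ^ 2 * w * (g ^ 2)⁻¹ := by
        rw [hy, pow_two]; group
      rw [← h3, this, h2]
    -- so g y g⁻¹ = (y)⁻¹ , hence ψ(y) = y⁻²
    have h5 : g * y * g⁻¹ = y⁻¹ := by
      have : (g * y * g⁻¹) * y = 1 := by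
        have h6 : (g * y * g⁻¹) * y * w = w := by rw [mul_assoc]; exact h4
        exact mul_eq_right.mp (by rw [h6])
      exact eq_inv_of_mul_eq_one_left this
    clear_value y
    rw [h5, pow_two, mul_inv_rev]
  -- ψ kills elements of order dividing 4
  have hkill : ∀ w ∈ M, w ^ 4 = 1 → g * w * g⁻¹ * w⁻¹ = 1 := by
    intro w hw hw4
    have hmem : w ∈ Om2 M := (mem_Om2 hMc).mpr ⟨hw, hw4⟩
    have := (Subgroup.mem_centralizer_iff.mp hgL) w hmem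
    rw [← this]; group
  set y := g * u * g⁻¹ * u⁻¹ with hy
  have hyM : y ∈ M := hpsi u hu
  -- y^(2^K) = 1 for some K
  obtain ⟨K, hK⟩ := hM2 ⟨y, hyM⟩
  have hK' : y ^ (2 ^ K) = 1 := by
    have := congrArg Subtype.val hK
    simpa using this
  -- descent
  have hdesc : ∀ j : ℕ, y ^ (2 ^ (j + 2)) = 1 → y ^ (2 ^ (j + 1)) = 1 := by
    intro j hj
    have hw : y ^ (2 ^ j) ∈ M := M.pow_mem hyM _
    have hw4 : (y ^ (2 ^ j)) ^ 4 = 1 := by
      rw [← pow_mul]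
      have : 2 ^ j * 4 = 2 ^ (j + 2) := by ring
      rw [this, hj]
    have h1 := hkill _ hw hw4
    rw [ng_r2level_pow hM hMc g hyM, hrel u hu] at h1
    -- ((y^2)⁻¹)^(2^j) = 1
    rw [inv_pow, inv_eq_one, ← pow_mul] at h1
    have : 2 * 2 ^ j = 2 ^ (j + 1) := by ring
    rw [this] at h1
    exact h1
  -- conclude y^2 = 1
  have hfin : ∀ j : ℕ, y ^ (2 ^ (j + 1)) = 1 → y ^ 2 = 1 := by
    intro j
    induction j with
    | zero => intro h; simpa using h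
    | succ j ih => intro h; exact ih (hdesc j h)
  by_cases hK0 : K = 0
  · rw [hK0] at hK'
    simp at hK'
    rw [hK']; simp
  · obtain ⟨j, rfl⟩ := Nat.exists_eq_succ_of_ne_zero hK0
    exact hfin j hK'

end Cfsg.Agent.Helper17.NG
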