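import Mathlib
import Cfsg.Agent.Lib.NG.NGDefs
import Cfsg.Agent.Lib.NG.NGR2IRR
import Cfsg.Agent.Lib.NG.NGOMSQ

/-! S1904 piece NG-R2OM2 (helper17 design; see plans/S1904_plan.md).  STUB: overwrite this file,
keeping the statement(s), namespace and imports (you may ADD imports of non-NG library files).
Aux lemmas: fresh names `ng_r2om2_...`. -/

set_option autoImplicit false

namespace Cfsg.Agent.Helper17.NG

variable {G : Type*} [Group G]

/-- If `V < Sq M` then `Om2 M ≤ Sq M` and `Om2 M` is normal abelian with squares in `V` and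
`V.relIndex (Om2 M) = 4`.  `Sq (Sq M) ≠ ⊥` (else `Sq M ≤ Om M = V`), normal, so `V ≤ Sq (Sq M)` (`r2_V_le`).
For `u ∈ M` with `u^4 = 1`: `u^2 ∈ Om M = V`, so `u^2 = s^2` with `s ∈ Sq M`; `(u s⁻¹)^2 = 1`,
`u s⁻¹ ∈ V ≤ Sq M`, `u ∈ Sq M`.  Index: squaring maps `Om2 M` onto `V` (every `v ∈ V` is a square `s^2`,
`s ∈ M`, and then `s^4 = 1`) with kernel `Om M = V`. -/
theorem r2_om2 [Finite G] {X H V M : Subgroup G} {a : G} (C : Ctx X H) (hV : IsV X V)
    (hA : IsA H V a) (hM : M.Normal) (hMX : M ≤ X) (hMc : IsMulCommutative ↥M)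
    (hVS : V ≤ Sq M) (hne : Sq M ≠ V) :
    Om2 M ≤ Sq M ∧ (∀ u ∈ Om2 M, u ^ 2 ∈ V) ∧ V.relIndex (Om2 M) = 4 ∧ V ≤ Om2 M := by
  have hcomm : ∀ x ∈ M, ∀ y ∈ M, x * y = y * x := by
    intro x hx y hy
    have h := (isMulCommutative_iff.1 hMc) ⟨x, hx⟩ ⟨y, hy⟩
    exact congrArg Subtype.val h
  have hXM : X ≤ Subgroup.normalizer (M : Set G) := by
    intro x _
    haveI := hM
    rw [Subgroup.normalizer_eq_top]
    trivial
  -- involutions of `M` lie in `V`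
  have hinvV : ∀ b ∈ M, b ^ 2 = 1 → b ∈ V := fun b hb hb2 => hV.inv M hMX hXM hMc b hb hb2
  have hVM : V ≤ M := le_trans hVS (Sq_le M)
  -- `Sq M` is abelian
  have hSc : IsMulCommutative ↥(Sq M) := by
    rw [isMulCommutative_iff]
    intro x y
    apply Subtype.ext
    exact hcomm x (Sq_le M x.2) y (Sq_le M y.2)
  -- `Sq (Sq M) ≠ ⊥`
  have hSS : Sq (Sq M) ≠ ⊥ := by
    intro h
    apply hne
    apply le_antisymm _ hVS
    intro s hs
    have hs2 : s ^ 2 ∈ Sq (Sq M) := (mem_Sq hSc).2 ⟨s, hs, rfl⟩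
    rw [h, Subgroup.mem_bot] at hs2
    exact hinvV s (Sq_le M hs) hs2
  have hVSS : V ≤ Sq (Sq M) :=
    r2_V_le C hV hA (Sq_normal (Sq_normal hM))
      (le_trans (Sq_le _) (le_trans (Sq_le _) hMX)) hSS
  -- squares of `Om2 M` lie in `V`
  have h2 : ∀ u ∈ Om2 M, u ^ 2 ∈ V := by
    intro u hu
    obtain ⟨huM, hu4⟩ := (mem_Om2 hMc).1 hu
    apply hinvV _ (M.pow_mem huM 2)
    rw [← pow_mul]
    exact hu4
  have hVO : V ≤ Om2 M := by
    intro v hv
    rw [mem_Om2 hMc]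
    refine ⟨hVM hv, ?_⟩
    have h4 : v ^ 4 = (v ^ 2) ^ 2 := by rw [← pow_mul]
    rw [h4, hV.sq v hv, one_pow]
  refine ⟨?_, h2, ?_, hVO⟩
  · -- `Om2 M ≤ Sq M`
    intro u hu
    obtain ⟨huM, hu4⟩ := (mem_Om2 hMc).1 hu
    obtain ⟨s, hs, hus⟩ := (mem_Sq hSc).1 (hVSS (h2 u hu))
    have hsM : s ∈ M := Sq_le M hs
    have h3 : (u * s⁻¹) ^ 2 = 1 := by
      have hc : Commute u s⁻¹ := hcomm u huM s⁻¹ (M.inv_mem hsM)
      rw [hc.mul_pow, inv_pow, hus, mul_inv_cancel]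
    have h4 : u * s⁻¹ ∈ V := hinvV _ (M.mul_mem huM (M.inv_mem hsM)) h3
    have h5 : u = (u * s⁻¹) * s := by group
    rw [h5]
    exact (Sq M).mul_mem (hVS h4) hs
  · -- the index
    let φ : ↥(Om2 M) →* ↥V := MonoidHom.mk' (fun u => ⟨(u : G) ^ 2, h2 u.1 u.2⟩) (by
      intro u u'
      apply Subtype.ext
      have hc : Commute (u : G) (u' : G) := hcomm _ (Om2_le M u.2) _ (Om2_le M u'.2)
      exact hc.mul_pow 2)
    have hker : φ.ker = V.subgroupOf (Om2 M) := by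
      ext u
      rw [MonoidHom.mem_ker, Subgroup.mem_subgroupOf]
      constructor
      · intro h
        have h' : (u : G) ^ 2 = 1 := congrArg Subtype.val h
        exact hinvV _ (Om2_le M u.2) h'
      · intro h
        apply Subtype.ext
        exact hV.sq _ h
    have hsurj : Function.Surjective φ := by
      rintro ⟨v, hv⟩
      obtain ⟨s, hsM, hvs⟩ := (mem_Sq hMc).1 (hVS hv)
      have hsO : s ∈ Om2 M := by
        rw [mem_Om2 hMc]
        refine ⟨hsM, ?_⟩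
        have h4 : s ^ 4 = (s ^ 2) ^ 2 := by rw [← pow_mul]
        rw [h4, ← hvs, hV.sq v hv]
      refine ⟨⟨s, hsO⟩, ?_⟩
      apply Subtype.ext
      exact hvs.symm
    unfold Subgroup.relIndex
    rw [← hker, Subgroup.index_ker, MonoidHom.range_eq_top.2 hsurj, Subgroup.card_top, hV.card]

end Cfsg.Agent.Helper17.NG
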