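import Mathlib
import Cfsg.Agent.Lib.NG.NGDefs

/-! S1904 piece NG-R2THETA (helper17 design; see plans/S1904_plan.md).  STUB: overwrite this file,
keeping the statement(s), namespace and imports (you may ADD imports of non-NG library files).
Aux lemmas: fresh names `ng_r2theta_...`. -/

set_option autoImplicit false

namespace Cfsg.Agent.Helper17.NG

variable {G : Type*} [Group G]

/-- in a type with four elements, four pairwise distinct elements exhaust it -/
theorem ng_r2theta_four {α : Type*} [Finite α] (h : Nat.card α = 4) {a b c d : α}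
    (hab : a ≠ b) (hac : a ≠ c) (had : a ≠ d) (hbc : b ≠ c) (hbd : b ≠ d) (hcd : c ≠ d) (x : α) :
    x = a ∨ x = b ∨ x = c ∨ x = d := by
  classical
  have := Fintype.ofFinite α
  by_contra hx
  rw [not_or, not_or, not_or] at hx
  obtain ⟨hxa, hxb, hxc, hxd⟩ := hx
  have h1 : d ∉ ({x} : Finset α) := by
    rw [Finset.mem_singleton]
    exact fun e => hxd e.symm
  have h2 : c ∉ ({d, x} : Finset α) := by
    rw [Finset.mem_insert, Finset.mem_singleton, not_or]
    exact ⟨hcd, fun e => hxc e.symm⟩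
  have h3 : b ∉ ({c, d, x} : Finset α) := by
    rw [Finset.mem_insert, Finset.mem_insert, Finset.mem_singleton, not_or, not_or]
    exact ⟨hbc, hbd, fun e => hxb e.symm⟩
  have h4 : a ∉ ({b, c, d, x} : Finset α) := by
    rw [Finset.mem_insert, Finset.mem_insert, Finset.mem_insert, Finset.mem_singleton, not_or,
      not_or, not_or]
    exact ⟨hab, hac, had, fun e => hxa e.symm⟩
  have h5 : ({a, b, c, d, x} : Finset α).card = 5 := by
    rw [Finset.card_insert_of_notMem h4, Finset.card_insert_of_notMem h3,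
      Finset.card_insert_of_notMem h2, Finset.card_insert_of_notMem h1, Finset.card_singleton]
  have hle := Finset.card_le_univ ({a, b, c, d, x} : Finset α)
  rw [h5, ← Nat.card_eq_fintype_card, h] at hle
  omega

/-- a commutative group of order four with an injective endomorphism without non-trivial fixed
points: the orbit of a non-trivial element consists of the three non-trivial elements, whose
product is trivial -/
theorem ng_r2theta_quot {Q : Type*} [Group Q] [Finite Q] (h4 : Nat.card Q = 4)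
    (hc : ∀ x y : Q, x * y = y * x) (α : Q →* Q) (hinj : ∀ c, α c = 1 → c = 1)
    (hfpf : ∀ c, α c = c → c = 1) (c : Q) (hc1 : c ≠ 1) :
    c * α c * α (α c) = 1 ∧ ∀ d : Q, d = 1 ∨ d = c ∨ d = α c ∨ d = α (α c) := by
  have key : ∀ e : Q, e ≠ 1 → α (α e) ≠ e := by
    intro e he h2
    have h3 : e * α e = 1 := by
      apply hfpf
      rw [map_mul, h2, hc]
    have hpow : e ^ 4 = 1 := by
      rw [← h4]
      exact pow_card_eq_one'
    have h5 : α e = e⁻¹ := eq_inv_of_mul_eq_one_right h3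
    have h6 : e * e = 1 := by
      apply hfpf
      rw [map_mul, h5]
      have : e⁻¹ * e⁻¹ = (e * e) * (e ^ 4)⁻¹ := by group
      rw [this, hpow, inv_one, mul_one]
    have h7 : α e = e := by
      rw [h5]
      exact (eq_inv_of_mul_eq_one_left h6).symm
    exact he (hfpf e h7)
  have n1 : α c ≠ 1 := fun h => hc1 (hinj c h)
  have n2 : α (α c) ≠ 1 := fun h => n1 (hinj _ h)
  have d01 : c ≠ α c := fun h => hc1 (hfpf c h.symm)
  have d12 : α c ≠ α (α c) := fun h => n1 (hfpf _ h.symm)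
  have d02 : c ≠ α (α c) := fun h => key c hc1 h.symm
  have ex := ng_r2theta_four h4 (Ne.symm hc1) (Ne.symm n1) (Ne.symm n2) d01 d02 d12
  have h3 : α (α (α c)) = c := by
    rcases ex (α (α (α c))) with h | h | h | h
    · exact absurd (hinj _ h) n2
    · exact h
    · exact absurd h (key (α c) n1)
    · exact absurd (hfpf _ h) n2
  refine ⟨?_, ex⟩
  apply hfpf
  rw [map_mul, map_mul, h3, hc (α c * α (α c)) c, mul_assoc]

/-- trace zero implies injective.  Write `f(u) := u x u⁻¹ x⁻¹ ∈ V` (a homomorphism `U → V` killing `U0`,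
by `hhom`, `hx0`), and note `u (a x a⁻¹) u⁻¹ (a x a⁻¹)⁻¹ = a f(a⁻¹ u a) a⁻¹`.  `a` permutes the 3 nontrivial
cosets of `U0` in `U` without fixed point (`hfpf`), hence cyclically: for `u0 ∈ U \ U0` the cosets of
`u0, a u0 a⁻¹, a^2 u0 a⁻²` are the 3 nontrivial ones and their product lies in `U0`.
Suppose `f(u0) = 1`, `u0 ∉ U0`.  `htr` at `u0`: `a f(a⁻¹ u0 a) a⁻¹ = a^2 f(a⁻² u0 a^2) a⁻²` (exponent 2).
`f(u0) f(a u0 a⁻¹) f(a^2 u0 a⁻²) = 1` gives `f(a u0 a⁻¹) = f(a^2 u0 a⁻²) =: p`; `a⁻¹ u0 a ≡ a^2 u0 a⁻²`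
and `a⁻² u0 a^2 ≡ a u0 a⁻¹` modulo `U0`; so `a p a⁻¹ = a^2 p a⁻²`, i.e. `p = a p a⁻¹`, `p = 1` (`hA.fpf`):
`f` kills `U`. -/
theorem theta_lemma [Finite G] {H V U U0 : Subgroup G} {a x : G} (hA : IsA H V a)
    (hVsq : ∀ v ∈ V, v ^ 2 = 1) (hVc : IsMulCommutative ↥V)
    (hU0U : U0 ≤ U) (hidx : U0.relIndex U = 4) (hUc : IsMulCommutative ↥U)
    (haU : ∀ u ∈ U, a * u * a⁻¹ ∈ U) (haU0 : ∀ u ∈ U0, a * u * a⁻¹ ∈ U0)
    (hfpf : ∀ u ∈ U, a * u * a⁻¹ * u⁻¹ ∈ U0 → u ∈ U0)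
    (hxV : ∀ u ∈ U, u * x * u⁻¹ * x⁻¹ ∈ V) (hx0 : ∀ u ∈ U0, u * x * u⁻¹ * x⁻¹ = 1)
    (hhom : ∀ u ∈ U, ∀ u' ∈ U, (u * u') * x * (u * u')⁻¹ * x⁻¹ =
      (u * x * u⁻¹ * x⁻¹) * (u' * x * u'⁻¹ * x⁻¹))
    (htr : ∀ u ∈ U, (u * x * u⁻¹ * x⁻¹) * (u * (a * x * a⁻¹) * u⁻¹ * (a * x * a⁻¹)⁻¹) *
      (u * (a ^ 2 * x * (a ^ 2)⁻¹) * u⁻¹ * (a ^ 2 * x * (a ^ 2)⁻¹)⁻¹) = 1) :
    (∀ u ∈ U, u * x * u⁻¹ * x⁻¹ = 1) ∨ (∀ u ∈ U, u * x * u⁻¹ * x⁻¹ = 1 → u ∈ U0) := by
  classical
  by_contra hcon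
  rw [not_or] at hcon
  obtain ⟨hnot1, hnot2⟩ := hcon
  push Not at hnot2
  obtain ⟨u0, hu0U, hfu0, hu0⟩ := hnot2
  apply hnot1
  -- conjugation by `a` reflects membership in `U0`
  have hback : ∀ u : G, a * u * a⁻¹ ∈ U0 → u ∈ U0 := by
    intro u hu
    have hinj : Function.Injective
        (fun y : ↥U0 => (⟨a * y.1 * a⁻¹, haU0 y.1 y.2⟩ : ↥U0)) := by
      intro y y' h
      have h2 : a * y.1 * a⁻¹ = a * y'.1 * a⁻¹ := congrArg Subtype.val h
      apply Subtype.ext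
      calc y.1 = a⁻¹ * (a * y.1 * a⁻¹) * a := by group
        _ = a⁻¹ * (a * y'.1 * a⁻¹) * a := by rw [h2]
        _ = y'.1 := by group
    obtain ⟨y, hy⟩ := (Finite.injective_iff_surjective.1 hinj) ⟨a * u * a⁻¹, hu⟩
    have h2 : a * y.1 * a⁻¹ = a * u * a⁻¹ := congrArg Subtype.val hy
    have h3 : y.1 = u := by
      calc y.1 = a⁻¹ * (a * y.1 * a⁻¹) * a := by group
        _ = a⁻¹ * (a * u * a⁻¹) * a := by rw [h2]
        _ = u := by group
    rw [← h3]
    exact y.2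
  have hcommU : ∀ y y' : ↥U, y * y' = y' * y := fun y y' => hUc.is_comm.comm y y'
  -- the quotient
  have hKn : (U0.subgroupOf U).Normal := ⟨fun n hn g => by
    have e : g * n * g⁻¹ = n := by rw [hcommU g n, mul_inv_cancel_right]
    rw [e]
    exact hn⟩
  have hcard : Nat.card (↥U ⧸ U0.subgroupOf U) = 4 := by
    rw [← hidx]
    rfl
  -- the conjugation by `a` on `U` and on the quotient
  obtain ⟨A, hAv⟩ : ∃ A : ↥U →* ↥U, ∀ y : ↥U, (A y).1 = a * y.1 * a⁻¹ :=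
    ⟨{ toFun := fun y => ⟨a * y.1 * a⁻¹, haU y.1 y.2⟩
       map_one' := by
         apply Subtype.ext
         show a * 1 * a⁻¹ = 1
         group
       map_mul' := by
         intro y y'
         apply Subtype.ext
         show a * (y.1 * y'.1) * a⁻¹ = (a * y.1 * a⁻¹) * (a * y'.1 * a⁻¹)
         group }, fun y => rfl⟩
  have hAK : U0.subgroupOf U ≤ (U0.subgroupOf U).comap A := by
    intro y hy
    show A y ∈ U0.subgroupOf U
    rw [Subgroup.mem_subgroupOf] at hy ⊢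
    rw [hAv]
    exact haU0 y.1 hy
  obtain ⟨αb, hαb⟩ : ∃ αb : (↥U ⧸ U0.subgroupOf U) →* (↥U ⧸ U0.subgroupOf U),
      ∀ y : ↥U, αb (QuotientGroup.mk y) = QuotientGroup.mk (A y) :=
    ⟨QuotientGroup.map _ _ A hAK, fun y => rfl⟩
  have hmk1 : ∀ y : ↥U, (QuotientGroup.mk y : ↥U ⧸ U0.subgroupOf U) = 1 ↔ y.1 ∈ U0 := by
    intro y
    rw [QuotientGroup.eq_one_iff, Subgroup.mem_subgroupOf]
  have hqc : ∀ p q : ↥U ⧸ U0.subgroupOf U, p * q = q * p := by
    intro p q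
    induction p using QuotientGroup.induction_on with
    | H y =>
      induction q using QuotientGroup.induction_on with
      | H y' =>
        rw [← QuotientGroup.mk_mul, ← QuotientGroup.mk_mul, hcommU]
  have hqinj : ∀ c, αb c = 1 → c = 1 := by
    intro c
    induction c using QuotientGroup.induction_on with
    | H y =>
      intro h
      rw [hαb, hmk1, hAv] at h
      rw [hmk1]
      exact hback _ h
  have hqfpf : ∀ c, αb c = c → c = 1 := by
    intro c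
    induction c using QuotientGroup.induction_on with
    | H y =>
      intro h
      rw [hαb, QuotientGroup.eq, Subgroup.mem_subgroupOf] at h
      rw [hmk1]
      apply hfpf y.1 y.2
      have e : a * y.1 * a⁻¹ * y.1⁻¹ = (((A y)⁻¹ * y : ↥U) : G)⁻¹ := by
        have e1 : (((A y)⁻¹ * y : ↥U) : G) = (a * y.1 * a⁻¹)⁻¹ * y.1 := by
          rw [Subgroup.coe_mul, Subgroup.coe_inv, hAv]
        have e2 : (A y)⁻¹ * y = y * (A y)⁻¹ := hcommU _ _
        rw [e2] at e1 ⊢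
        rw [Subgroup.coe_mul, Subgroup.coe_inv, hAv]
        group
      rw [e]
      exact U0.inv_mem h
  -- `f` is constant on the cosets of `U0`
  have hF : ∀ y y' : ↥U, (QuotientGroup.mk y : ↥U ⧸ U0.subgroupOf U) = QuotientGroup.mk y' →
      y'.1 * x * y'.1⁻¹ * x⁻¹ = y.1 * x * y.1⁻¹ * x⁻¹ := by
    intro y y' h
    rw [QuotientGroup.eq, Subgroup.mem_subgroupOf] at h
    have hk : y.1⁻¹ * y'.1 ∈ U0 := h
    have e : y'.1 = y.1 * (y.1⁻¹ * y'.1) := by group
    rw [e, hhom y.1 y.2 _ (hU0U hk), hx0 _ hk, mul_one]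
  -- the orbit of the class of `u0`
  have hc1 : (QuotientGroup.mk (⟨u0, hu0U⟩ : ↥U) : ↥U ⧸ U0.subgroupOf U) ≠ 1 := by
    intro h
    exact hu0 ((hmk1 _).1 h)
  obtain ⟨hprod, hex⟩ := ng_r2theta_quot hcard hqc αb hqinj hqfpf _ hc1
  rw [hαb, hαb] at hprod hex
  -- the three representatives
  obtain ⟨y0, hy0⟩ : ∃ y0 : ↥U, y0 = ⟨u0, hu0U⟩ := ⟨_, rfl⟩
  rw [← hy0] at hprod hex
  have hy0v : y0.1 = u0 := by rw [hy0]
  have hf0 : y0.1 * x * y0.1⁻¹ * x⁻¹ = 1 := by rw [hy0v]; exact hfu0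
  have hv1 : (A y0).1 = a * y0.1 * a⁻¹ := hAv y0
  have hv2 : (A (A y0)).1 = a * (A y0).1 * a⁻¹ := hAv (A y0)
  -- the product of the three values of `f` is trivial
  have hP : (y0 * A y0 * A (A y0)).1 ∈ U0 := by
    rw [← hmk1]
    exact hprod
  have hP2 : (A y0).1 * x * (A y0).1⁻¹ * x⁻¹ * ((A (A y0)).1 * x * (A (A y0)).1⁻¹ * x⁻¹) = 1 := by
    have h1 := hx0 _ hP
    have e : (y0 * A y0 * A (A y0)).1 = y0.1 * (A y0).1 * (A (A y0)).1 := rfl
    rw [e, hhom _ (U.mul_mem y0.2 (A y0).2) _ (A (A y0)).2, hhom _ y0.2 _ (A y0).2, hf0,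
      one_mul] at h1
    exact h1
  -- the trace relation at the third representative
  have hT := htr (A (A y0)).1 (A (A y0)).2
  have e1 : (A (A y0)).1 * (a * x * a⁻¹) * (A (A y0)).1⁻¹ * (a * x * a⁻¹)⁻¹ =
      a * ((A y0).1 * x * (A y0).1⁻¹ * x⁻¹) * a⁻¹ := by
    rw [hv2]
    group
  have e2 : (A (A y0)).1 * (a ^ 2 * x * (a ^ 2)⁻¹) * (A (A y0)).1⁻¹ * (a ^ 2 * x * (a ^ 2)⁻¹)⁻¹ =
      a ^ 2 * (y0.1 * x * y0.1⁻¹ * x⁻¹) * (a ^ 2)⁻¹ := by
    rw [hv2, hv1, pow_two]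
    group
  rw [e1, e2, hf0, mul_one, mul_inv_cancel, mul_one] at hT
  -- the value at the second representative is fixed by `a`
  have hp : (A y0).1 * x * (A y0).1⁻¹ * x⁻¹ = 1 := by
    apply hA.fpf _ (hxV _ (A y0).2)
    have h1 := eq_inv_of_mul_eq_one_right hP2
    have h2 := eq_inv_of_mul_eq_one_right hT
    rw [h1, inv_inv] at h2
    exact h2
  have hr : (A (A y0)).1 * x * (A (A y0)).1⁻¹ * x⁻¹ = 1 := by
    rw [hp, one_mul] at hP2
    exact hP2
  -- every coset is one of the four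
  intro u hu
  rcases hex (QuotientGroup.mk ⟨u, hu⟩) with h | h | h | h
  · exact hx0 u ((hmk1 _).1 h)
  · have := hF _ _ h.symm
    rw [hf0] at this
    exact this
  · have := hF _ _ h.symm
    rw [hp] at this
    exact this
  · have := hF _ _ h.symm
    rw [hr] at this
    exact this

end Cfsg.Agent.Helper17.NG
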