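import Mathlib
import Cfsg.Agent.Lib.NG.NGDefs

/-! S1904 piece NG-R2VIA (helper17 design; see plans/S1904_plan.md).  STUB: overwrite this file,
keeping the statement(s), namespace and imports (you may ADD imports of non-NG library files).
Aux lemmas: fresh names `ng_r2via_...`. -/

set_option autoImplicit false

namespace Cfsg.Agent.Helper17.NG

variable {G : Type*} [Group G]

/-- `a`-fixed modulo `C(U)` implies `H`-fixed modulo `C(U)`, for `U` normal abelian with `U^2 ≤ V` on which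
`x` acts by `u ↦ k(u) u`, `k(u) := u x u⁻¹ x⁻¹ ∈ V`.  `k` is a homomorphism `U → V` killing `V` (central).
`hax` says `k(a u a⁻¹) = a k(u) a⁻¹`, hence the same for all powers `a^i`.
For `h ∈ H` take `i` with `h = a^i` on `V` (`hA.via`); for `u ∈ U` put `u' := h⁻¹ u h`:
`(a^i u' a^-i)^2 = a^i u'^2 a^-i = h u'^2 h⁻¹ = (h u' h⁻¹)^2` (`u'^2 ∈ V`), so
`a^i u' a^-i = v u` with `v^2 = 1`, `v ∈ U` abelian normal so `v ∈ V` (`hV.inv`), and `k(v u) = k(u)`.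
Then `k_{h x h⁻¹}(u) = h k(u') h⁻¹ = a^i k(u') a^-i = k(a^i u' a^-i) = k(u)`: `h x h⁻¹ x⁻¹` centralises `U`. -/
theorem r2_via [Finite G] {X H V U : Subgroup G} {a : G} (C : Ctx X H) (hV : IsV X V)
    (hA : IsA H V a) (hU : U.Normal) (hUX : U ≤ X) (hUc : IsMulCommutative ↥U)
    (hUsq : ∀ u ∈ U, u ^ 2 ∈ V) {x : G} (hx : x ∈ X)
    (hxU : ∀ u ∈ U, u * x * u⁻¹ * x⁻¹ ∈ V)
    (hax : a * x * a⁻¹ * x⁻¹ ∈ Subgroup.centralizer (U : Set G)) :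
    ∀ h ∈ H, h * x * h⁻¹ * x⁻¹ ∈ Subgroup.centralizer (U : Set G) := by
  haveI hXn : X.Normal := C.normal
  -- `V` is central in `X`
  have hVcen : ∀ v ∈ V, ∀ y ∈ X, y * v = v * y := by
    intro v hv y hy
    have h1 := hV.central hy
    rw [Subgroup.mem_centralizer_iff] at h1
    exact (h1 v hv).symm
  have hconjV : ∀ v ∈ V, ∀ y ∈ X, y * v * y⁻¹ = v := by
    intro v hv y hy
    rw [hVcen v hv y hy, mul_inv_cancel_right]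
  have hUab : ∀ s ∈ U, ∀ t ∈ U, s * t = t * s := fun s hs t ht =>
    congrArg Subtype.val (hUc.is_comm.comm (⟨s, hs⟩ : ↥U) ⟨t, ht⟩)
  have hXN : X ≤ Subgroup.normalizer (U : Set G) := by
    rw [Subgroup.normalizer_eq_top]; exact le_top
  -- `k` is a homomorphism on `U` killing `V`
  have hhom : ∀ u ∈ U, ∀ u' ∈ U, (u * u') * x * (u * u')⁻¹ * x⁻¹ =
      (u * x * u⁻¹ * x⁻¹) * (u' * x * u'⁻¹ * x⁻¹) := by
    intro u hu u' hu'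
    have e1 : (u * u') * x * (u * u')⁻¹ * x⁻¹ =
        (u * (u' * x * u'⁻¹ * x⁻¹) * u⁻¹) * (u * x * u⁻¹ * x⁻¹) := by group
    rw [e1, hconjV _ (hxU u' hu') u (hUX hu)]
    exact (hVcen _ (hxU u' hu') _ (hV.le (hxU u hu))).symm
  have hx0 : ∀ v ∈ V, v * x * v⁻¹ * x⁻¹ = 1 := by
    intro v hv
    rw [← hVcen v hv x hx, mul_inv_cancel_right, mul_inv_cancel]
  -- conjugation formula
  have hconj : ∀ (g u : G), u * (g * x * g⁻¹) * u⁻¹ * (g * x * g⁻¹)⁻¹ =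
      g * ((g⁻¹ * u * g) * x * (g⁻¹ * u * g)⁻¹ * x⁻¹) * g⁻¹ := by
    intro g u
    group
  -- centraliser versus equality of `k`
  have hto : ∀ y : G, y * x⁻¹ ∈ X → y * x⁻¹ ∈ Subgroup.centralizer (U : Set G) →
      ∀ u ∈ U, u * y * u⁻¹ * y⁻¹ = u * x * u⁻¹ * x⁻¹ := by
    intro y hyX hy u hu
    rw [Subgroup.mem_centralizer_iff] at hy
    have h1 := hy u hu
    have e1 : u * y * u⁻¹ * y⁻¹ = (u * (y * x⁻¹)) * x * u⁻¹ * x⁻¹ * (y * x⁻¹)⁻¹ := by group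
    rw [e1, h1]
    have e2 : y * x⁻¹ * u * x * u⁻¹ * x⁻¹ * (y * x⁻¹)⁻¹ =
        (y * x⁻¹) * (u * x * u⁻¹ * x⁻¹) * (y * x⁻¹)⁻¹ := by group
    rw [e2, hconjV _ (hxU u hu) _ hyX]
  have hfrom : ∀ y : G, (∀ u ∈ U, u * y * u⁻¹ * y⁻¹ = u * x * u⁻¹ * x⁻¹) →
      y * x⁻¹ ∈ Subgroup.centralizer (U : Set G) := by
    intro y hy
    rw [Subgroup.mem_centralizer_iff]
    intro u hu
    have ht : x⁻¹ * u * x ∈ U := by
      have := hU.conj_mem u hu x⁻¹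
      rwa [inv_inv] at this
    have h1 := hy (x⁻¹ * u * x)⁻¹ (U.inv_mem ht)
    -- `y t y⁻¹ = x t x⁻¹` for `t = x⁻¹ u x`
    have h2 : y * (x⁻¹ * u * x) * y⁻¹ = u := by
      have e1 : y * (x⁻¹ * u * x) * y⁻¹ =
          (x⁻¹ * u * x) * ((x⁻¹ * u * x)⁻¹ * y * (x⁻¹ * u * x)⁻¹⁻¹ * y⁻¹) := by group
      rw [e1, h1]
      group
    calc u * (y * x⁻¹) = (y * (x⁻¹ * u * x) * y⁻¹) * (y * x⁻¹) := by rw [h2]
      _ = y * x⁻¹ * u := by group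
  -- `a`-equivariance of `k`
  have hwX : ∀ g : G, g * x * g⁻¹ * x⁻¹ ∈ X := fun g =>
    X.mul_mem (hXn.conj_mem x hx g) (X.inv_mem hx)
  have heq1 : ∀ u ∈ U, (a * u * a⁻¹) * x * (a * u * a⁻¹)⁻¹ * x⁻¹ =
      a * (u * x * u⁻¹ * x⁻¹) * a⁻¹ := by
    intro u hu
    have hu1 : a * u * a⁻¹ ∈ U := hU.conj_mem u hu a
    have h1 := hto (a * x * a⁻¹) (hwX a) hax (a * u * a⁻¹) hu1
    rw [hconj a (a * u * a⁻¹)] at h1
    have e1 : a⁻¹ * (a * u * a⁻¹) * a = u := by group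
    rw [e1] at h1
    exact h1.symm
  have heqi : ∀ i : ℕ, ∀ u ∈ U, (a ^ i * u * (a ^ i)⁻¹) * x * (a ^ i * u * (a ^ i)⁻¹)⁻¹ * x⁻¹ =
      a ^ i * (u * x * u⁻¹ * x⁻¹) * (a ^ i)⁻¹ := by
    intro i
    induction i with
    | zero =>
      intro u _
      simp
    | succ i ih =>
      intro u hu
      have hui : a ^ i * u * (a ^ i)⁻¹ ∈ U := hU.conj_mem u hu (a ^ i)
      have e1 : a ^ (i + 1) * u * (a ^ (i + 1))⁻¹ = a * (a ^ i * u * (a ^ i)⁻¹) * a⁻¹ := by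
        rw [pow_succ']; group
      rw [e1, heq1 _ hui, ih u hu, pow_succ']
      group
  -- main argument
  intro h hh
  obtain ⟨i, hi⟩ := hA.via h hh
  have e0 : h * x * h⁻¹ * x⁻¹ = (h * x * h⁻¹) * x⁻¹ := rfl
  rw [e0]
  apply hfrom
  intro u hu
  have hu' : h⁻¹ * u * h ∈ U := by
    have := hU.conj_mem u hu h⁻¹
    rwa [inv_inv] at this
  have hu'' : a ^ i * (h⁻¹ * u * h) * (a ^ i)⁻¹ ∈ U := hU.conj_mem _ hu' (a ^ i)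
  rw [hconj h u, hi _ (hxU _ hu'), ← heqi i _ hu']
  -- `u'' = v * u` with `v ∈ V`
  have hsq : (a ^ i * (h⁻¹ * u * h) * (a ^ i)⁻¹) ^ 2 = u ^ 2 := by
    have e1 : (a ^ i * (h⁻¹ * u * h) * (a ^ i)⁻¹) ^ 2 =
        a ^ i * (h⁻¹ * u * h) ^ 2 * (a ^ i)⁻¹ := by
      rw [pow_two, pow_two]; group
    rw [e1, ← hi _ (hUsq _ hu')]
    rw [pow_two, pow_two]; group
  have hvU : a ^ i * (h⁻¹ * u * h) * (a ^ i)⁻¹ * u⁻¹ ∈ U := U.mul_mem hu'' (U.inv_mem hu)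
  have hv2 : (a ^ i * (h⁻¹ * u * h) * (a ^ i)⁻¹ * u⁻¹) ^ 2 = 1 := by
    have e1 : (a ^ i * (h⁻¹ * u * h) * (a ^ i)⁻¹ * u⁻¹) ^ 2 =
        (a ^ i * (h⁻¹ * u * h) * (a ^ i)⁻¹) * (u⁻¹ * (a ^ i * (h⁻¹ * u * h) * (a ^ i)⁻¹)) * u⁻¹ := by
      rw [pow_two]; group
    rw [e1, hUab _ (U.inv_mem hu) _ hu'']
    have e2 : (a ^ i * (h⁻¹ * u * h) * (a ^ i)⁻¹) * ((a ^ i * (h⁻¹ * u * h) * (a ^ i)⁻¹) * u⁻¹) * u⁻¹ =
        (a ^ i * (h⁻¹ * u * h) * (a ^ i)⁻¹) ^ 2 * (u ^ 2)⁻¹ := by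
      rw [pow_two, pow_two]; group
    rw [e2, hsq, mul_inv_cancel]
  have hvV : a ^ i * (h⁻¹ * u * h) * (a ^ i)⁻¹ * u⁻¹ ∈ V := hV.inv U hUX hXN hUc _ hvU hv2
  have e3 : a ^ i * (h⁻¹ * u * h) * (a ^ i)⁻¹ =
      (a ^ i * (h⁻¹ * u * h) * (a ^ i)⁻¹ * u⁻¹) * u := by group
  rw [e3, hhom _ hvU u hu, hx0 _ hvV, one_mul]

end Cfsg.Agent.Helper17.NG
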