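import Mathlib
import Cfsg.Agent.Lib.NG.NGDefs
import Cfsg.Agent.Lib.NG.NGR2VIA
import Cfsg.Agent.Lib.NG.NGR2AB
import Cfsg.Agent.Lib.NG.NGFIXQ

/-! S1904 piece NG-R2TR (helper17 design; see plans/S1904_plan.md).  STUB: overwrite this file,
keeping the statement(s), namespace and imports (you may ADD imports of non-NG library files).
Aux lemmas: fresh names `ng_r2tr_...`. -/

set_option autoImplicit false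

namespace Cfsg.Agent.Helper17.NG

variable {G : Type*} [Group G]

/-- conjugation by `g ∈ X` moves `u ∈ U` by a factor in `V` -/
private theorem ng_r2tr_factor {X V U : Subgroup G}
    (hXU : ∀ x ∈ X, ∀ u ∈ U, u * x * u⁻¹ * x⁻¹ ∈ V) {g u : G} (hg : g ∈ X) (hu : u ∈ U) :
    g * u * g⁻¹ * u⁻¹ ∈ V := by
  have h := V.inv_mem (hXU g hg u hu)
  have e : (u * g * u⁻¹ * g⁻¹)⁻¹ = g * u * g⁻¹ * u⁻¹ := by group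
  rwa [e] at h

/-- the conjugation actions of two elements of `X` on `U` commute -/
private theorem ng_r2tr_swap {X V U : Subgroup G} (hVX : V ≤ X)
    (hcen : X ≤ Subgroup.centralizer (V : Set G))
    (hXU : ∀ x ∈ X, ∀ u ∈ U, u * x * u⁻¹ * x⁻¹ ∈ V) {g₁ g₂ u : G} (h₁ : g₁ ∈ X) (h₂ : g₂ ∈ X)
    (hu : u ∈ U) :
    g₁ * (g₂ * u * g₂⁻¹) * g₁⁻¹ = g₂ * (g₁ * u * g₁⁻¹) * g₂⁻¹ := by
  -- `V` is central in `X`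
  have hc : ∀ g ∈ X, ∀ v ∈ V, g * v = v * g := by
    intro g hg v hv
    exact ((Subgroup.mem_centralizer_iff.mp (hcen hg)) v hv).symm
  set v₁ := g₁ * u * g₁⁻¹ * u⁻¹ with hv₁
  set v₂ := g₂ * u * g₂⁻¹ * u⁻¹ with hv₂
  have hv₁V : v₁ ∈ V := ng_r2tr_factor hXU h₁ hu
  have hv₂V : v₂ ∈ V := ng_r2tr_factor hXU h₂ hu
  have e₁ : g₁ * u * g₁⁻¹ = v₁ * u := by rw [hv₁]; group
  have e₂ : g₂ * u * g₂⁻¹ = v₂ * u := by rw [hv₂]; group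
  have c12 : g₁ * v₂ = v₂ * g₁ := hc g₁ h₁ v₂ hv₂V
  have c21 : g₂ * v₁ = v₁ * g₂ := hc g₂ h₂ v₁ hv₁V
  have cvv : v₁ * v₂ = v₂ * v₁ := hc v₁ (hVX hv₁V) v₂ hv₂V
  calc g₁ * (g₂ * u * g₂⁻¹) * g₁⁻¹ = g₁ * (v₂ * u) * g₁⁻¹ := by rw [e₂]
    _ = (g₁ * v₂) * u * g₁⁻¹ := by group
    _ = v₂ * (g₁ * u * g₁⁻¹) := by rw [c12]; group
    _ = v₂ * (v₁ * u) := by rw [e₁]
    _ = (v₁ * v₂) * u := by rw [cvv]; group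
    _ = v₁ * (g₂ * u * g₂⁻¹) := by rw [e₂]; group
    _ = (g₂ * v₁) * u * g₂⁻¹ := by rw [c21]; group
    _ = g₂ * (v₁ * u) * g₂⁻¹ := by group
    _ = g₂ * (g₁ * u * g₁⁻¹) * g₂⁻¹ := by rw [e₁]

/-- commutators of `X` centralise `U` -/
private theorem ng_r2tr_comm_mem {X V U : Subgroup G} (hVX : V ≤ X)
    (hcen : X ≤ Subgroup.centralizer (V : Set G))
    (hXU : ∀ x ∈ X, ∀ u ∈ U, u * x * u⁻¹ * x⁻¹ ∈ V) {g₁ g₂ : G} (h₁ : g₁ ∈ X) (h₂ : g₂ ∈ X) :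
    g₁ * g₂ * g₁⁻¹ * g₂⁻¹ ∈ Subgroup.centralizer (U : Set G) := by
  rw [Subgroup.mem_centralizer_iff]
  intro u hu
  have hs := ng_r2tr_swap hVX hcen hXU (X.inv_mem h₁) (X.inv_mem h₂) hu
  -- `g₁⁻¹ (g₂⁻¹ u g₂) g₁ = g₂⁻¹ (g₁⁻¹ u g₁) g₂`
  have e : (g₁ * g₂ * g₁⁻¹ * g₂⁻¹) * u * (g₁ * g₂ * g₁⁻¹ * g₂⁻¹)⁻¹ = u := by
    have e1 : (g₁ * g₂ * g₁⁻¹ * g₂⁻¹) * u * (g₁ * g₂ * g₁⁻¹ * g₂⁻¹)⁻¹ =
        g₁ * g₂ * (g₁⁻¹ * (g₂⁻¹ * u * g₂⁻¹⁻¹) * g₁⁻¹⁻¹) * g₂⁻¹ * g₁⁻¹ := by group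
    rw [e1, hs]
    group
  calc u * (g₁ * g₂ * g₁⁻¹ * g₂⁻¹)
      = ((g₁ * g₂ * g₁⁻¹ * g₂⁻¹) * u * (g₁ * g₂ * g₁⁻¹ * g₂⁻¹)⁻¹) * (g₁ * g₂ * g₁⁻¹ * g₂⁻¹) := by
        rw [e]
    _ = (g₁ * g₂ * g₁⁻¹ * g₂⁻¹) * u := by group

/-- trace zero.  `N := X ⊓ C(U)` is normal in `G`; `X` acts on `U` by `u ↦ k_x(u) u` with
`k_x : U → V` homomorphisms, `k_{xy} = k_x k_y` (values central, `k_y(V) = 1`), so `⁅X,X⁆ ≤ N`.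
`y := x * (a x a⁻¹) * (a^2 x a⁻²)`; `a y a⁻¹ = (a x a⁻¹)(a^2 x a⁻²)(a^3 x a⁻³)` and
`a^3 x a⁻³ x⁻¹ ∈ N` (`a^3` centralises `U`, by `r2_abelian_facts`, and `V`), `X/N` abelian: `a y a⁻¹ y⁻¹ ∈ N`.
`r2_via` gives `h y h⁻¹ y⁻¹ ∈ N` for all `h ∈ H`, and `fix_quot` gives `y ∈ N`. -/
theorem r2_trace [Finite G] {X H V U : Subgroup G} {a : G} (C : Ctx X H) (hV : IsV X V)
    (hA : IsA H V a) (hU : U.Normal) (hUX : U ≤ X) (hUc : IsMulCommutative ↥U)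
    (hUsq : ∀ u ∈ U, u ^ 2 ∈ V) (hXU : ∀ x ∈ X, ∀ u ∈ U, u * x * u⁻¹ * x⁻¹ ∈ V) :
    ∀ x ∈ X, x * (a * x * a⁻¹) * (a ^ 2 * x * (a ^ 2)⁻¹) ∈ Subgroup.centralizer (U : Set G) := by
  intro x hx
  have hXn : X.Normal := C.normal
  have hCn : (Subgroup.centralizer (U : Set G)).Normal := by
    have := hU
    exact Subgroup.normal_centralizer
  have hNn : (X ⊓ Subgroup.centralizer (U : Set G)).Normal := by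
    have := hXn
    have := hCn
    exact Subgroup.normal_inf_normal _ _
  -- commutators of `X` centralise `U`
  have hcomm : ∀ g₁ ∈ X, ∀ g₂ ∈ X, g₁ * g₂ * g₁⁻¹ * g₂⁻¹ ∈ Subgroup.centralizer (U : Set G) :=
    fun g₁ h₁ g₂ h₂ => ng_r2tr_comm_mem hV.le hV.central hXU h₁ h₂
  have hXX : ⁅X, X⁆ ≤ X ⊓ Subgroup.centralizer (U : Set G) := by
    rw [Subgroup.commutator_le]
    intro g₁ h₁ g₂ h₂
    rw [commutatorElement_def]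
    exact ⟨X.mul_mem (X.mul_mem (X.mul_mem h₁ h₂) (X.inv_mem h₁)) (X.inv_mem h₂), hcomm g₁ h₁ g₂ h₂⟩
  -- the conjugates of `x`
  have hx1 : a * x * a⁻¹ ∈ X := hXn.conj_mem x hx a
  have hx2 : a ^ 2 * x * (a ^ 2)⁻¹ ∈ X := hXn.conj_mem x hx (a ^ 2)
  have hyX : x * (a * x * a⁻¹) * (a ^ 2 * x * (a ^ 2)⁻¹) ∈ X :=
    X.mul_mem (X.mul_mem hx hx1) hx2
  -- `a^3` centralises `U`
  have hcube := (r2_abelian_facts C hV hA hU hUX hUc).1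
  have hc3 : a ^ 3 * x * (a ^ 3)⁻¹ * x⁻¹ ∈ Subgroup.centralizer (U : Set G) := by
    rw [Subgroup.mem_centralizer_iff]
    intro u hu
    have hw : x⁻¹ * u * x⁻¹⁻¹ ∈ U := hU.conj_mem u hu x⁻¹
    have hcw := hcube _ hw
    have hcu := hcube u hu
    have hcw' : (a ^ 3)⁻¹ * (x⁻¹ * u * x⁻¹⁻¹) * a ^ 3 = x⁻¹ * u * x⁻¹⁻¹ := by
      conv_lhs => rw [← hcw]
      group
    have e : (a ^ 3 * x * (a ^ 3)⁻¹ * x⁻¹) * u * (a ^ 3 * x * (a ^ 3)⁻¹ * x⁻¹)⁻¹ = u := by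
      have e1 : (a ^ 3 * x * (a ^ 3)⁻¹ * x⁻¹) * u * (a ^ 3 * x * (a ^ 3)⁻¹ * x⁻¹)⁻¹ =
          a ^ 3 * x * ((a ^ 3)⁻¹ * (x⁻¹ * u * x⁻¹⁻¹) * a ^ 3) * x⁻¹ * (a ^ 3)⁻¹ := by group
      rw [e1, hcw']
      have e2 : a ^ 3 * x * (x⁻¹ * u * x⁻¹⁻¹) * x⁻¹ * (a ^ 3)⁻¹ = a ^ 3 * u * (a ^ 3)⁻¹ := by group
      rw [e2, hcu]
    calc u * (a ^ 3 * x * (a ^ 3)⁻¹ * x⁻¹)
        = ((a ^ 3 * x * (a ^ 3)⁻¹ * x⁻¹) * u * (a ^ 3 * x * (a ^ 3)⁻¹ * x⁻¹)⁻¹) *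
            (a ^ 3 * x * (a ^ 3)⁻¹ * x⁻¹) := by rw [e]
      _ = (a ^ 3 * x * (a ^ 3)⁻¹ * x⁻¹) * u := by group
  -- work modulo `C(U)`
  have hay : a * (x * (a * x * a⁻¹) * (a ^ 2 * x * (a ^ 2)⁻¹)) * a⁻¹ *
      (x * (a * x * a⁻¹) * (a ^ 2 * x * (a ^ 2)⁻¹))⁻¹ ∈ Subgroup.centralizer (U : Set G) := by
    have := hCn
    rw [← QuotientGroup.eq_one_iff]
    set π := (QuotientGroup.mk : G → G ⧸ Subgroup.centralizer (U : Set G)) with hπ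
    have hπmul : ∀ g h : G, π (g * h) = π g * π h := fun g h => QuotientGroup.mk_mul _ g h
    have hπinv : ∀ g : G, π g⁻¹ = (π g)⁻¹ := fun g => QuotientGroup.mk_inv _ g
    have hπcomm : ∀ g₁ ∈ X, ∀ g₂ ∈ X, π g₁ * π g₂ = π g₂ * π g₁ := by
      intro g₁ h₁ g₂ h₂
      have h1 : π (g₁ * g₂ * g₁⁻¹ * g₂⁻¹) = 1 := (QuotientGroup.eq_one_iff _).mpr (hcomm g₁ h₁ g₂ h₂)
      rw [hπmul, hπmul, hπmul, hπinv, hπinv] at h1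
      calc π g₁ * π g₂ = (π g₁ * π g₂ * (π g₁)⁻¹ * (π g₂)⁻¹) * (π g₂ * π g₁) := by group
        _ = π g₂ * π g₁ := by rw [h1, one_mul]
    have h3 : π (a ^ 3 * x * (a ^ 3)⁻¹) = π x := by
      have h1 : π (a ^ 3 * x * (a ^ 3)⁻¹ * x⁻¹) = 1 := (QuotientGroup.eq_one_iff _).mpr hc3
      rw [hπmul, hπinv] at h1
      calc π (a ^ 3 * x * (a ^ 3)⁻¹) = π (a ^ 3 * x * (a ^ 3)⁻¹) * (π x)⁻¹ * π x := by group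
        _ = π x := by rw [h1, one_mul]
    have econj : a * (x * (a * x * a⁻¹) * (a ^ 2 * x * (a ^ 2)⁻¹)) * a⁻¹ =
        (a * x * a⁻¹) * (a ^ 2 * x * (a ^ 2)⁻¹) * (a ^ 3 * x * (a ^ 3)⁻¹) := by group
    rw [hπmul, hπinv, econj, hπmul, hπmul, h3, hπmul, hπmul]
    have c01 := hπcomm x hx _ hx1
    have c02 := hπcomm x hx _ hx2
    have c12 := hπcomm _ hx1 _ hx2
    calc π (a * x * a⁻¹) * π (a ^ 2 * x * (a ^ 2)⁻¹) * π x *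
          (π x * π (a * x * a⁻¹) * π (a ^ 2 * x * (a ^ 2)⁻¹))⁻¹
        = π (a * x * a⁻¹) * (π (a ^ 2 * x * (a ^ 2)⁻¹) * π x) *
          (π x * π (a * x * a⁻¹) * π (a ^ 2 * x * (a ^ 2)⁻¹))⁻¹ := by group
      _ = π (a * x * a⁻¹) * (π x * π (a ^ 2 * x * (a ^ 2)⁻¹)) *
          (π x * π (a * x * a⁻¹) * π (a ^ 2 * x * (a ^ 2)⁻¹))⁻¹ := by rw [c02]
      _ = (π (a * x * a⁻¹) * π x) * π (a ^ 2 * x * (a ^ 2)⁻¹) *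
          (π x * π (a * x * a⁻¹) * π (a ^ 2 * x * (a ^ 2)⁻¹))⁻¹ := by group
      _ = (π x * π (a * x * a⁻¹)) * π (a ^ 2 * x * (a ^ 2)⁻¹) *
          (π x * π (a * x * a⁻¹) * π (a ^ 2 * x * (a ^ 2)⁻¹))⁻¹ := by rw [c01]
      _ = 1 := by group
  -- `r2_via` and `fix_quot`
  have hvia := r2_via C hV hA hU hUX hUc hUsq hyX (hXU _ hyX) hay
  have hfix : ∀ h ∈ H, h * (x * (a * x * a⁻¹) * (a ^ 2 * x * (a ^ 2)⁻¹)) * h⁻¹ *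
      (x * (a * x * a⁻¹) * (a ^ 2 * x * (a ^ 2)⁻¹))⁻¹ ∈ X ⊓ Subgroup.centralizer (U : Set G) := by
    intro h hh
    exact ⟨X.mul_mem (hXn.conj_mem _ hyX h) (X.inv_mem hyX), hvia h hh⟩
  exact (fix_quot C hNn inf_le_left hXX hyX hfix).2

end Cfsg.Agent.Helper17.NG
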