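import Mathlib
import Cfsg.Agent.Lib.NG.NGDefs
import Cfsg.Agent.Lib.NG.NGOMSQ
import Cfsg.Agent.Lib.NG.NGIDX2

/-! S1904 piece NG-R2TRIV (helper17 design; see plans/S1904_plan.md).  Proved by helper11. -/

set_option autoImplicit false

namespace Cfsg.Agent.Helper17.NG

variable {G : Type*} [Group G]

/-- the conjugation action of a subgroup `Y` on the nonidentity elements of a normal subgroup `W`. -/
@[reducible] noncomputable def ng_r2triv_act {Q : Type*} [Group Q] (Y W : Subgroup Q) (hW : W.Normal) :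
    MulAction ↥Y ↥((W : Set Q) \ {1}) where
  smul y t := ⟨(y : Q) * (t : Q) * (y : Q)⁻¹, hW.conj_mem _ t.2.1 _, by
    intro h
    apply t.2.2
    have h' : (y : Q) * (t : Q) * (y : Q)⁻¹ = 1 := h
    have : (t : Q) = (y : Q)⁻¹ * ((y : Q) * (t : Q) * (y : Q)⁻¹) * (y : Q) := by group
    rw [h'] at this
    rw [Set.mem_singleton_iff, this]; group⟩
  one_smul t := by
    apply Subtype.ext
    show ((1 : ↥Y) : Q) * (t : Q) * ((1 : ↥Y) : Q)⁻¹ = t
    simp
  mul_smul a b t := by
    apply Subtype.ext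
    show ((a * b : ↥Y) : Q) * (t : Q) * ((a * b : ↥Y) : Q)⁻¹ =
      (a : Q) * ((b : Q) * (t : Q) * (b : Q)⁻¹) * (a : Q)⁻¹
    push_cast
    group

/-- a 2-subgroup normalising a subgroup of order 4 centralises it up to index 2. -/
theorem ng_r2triv_key {Q : Type*} [Group Q] [Finite Q] (Y W : Subgroup Q) (hY : IsPGroup 2 ↥Y)
    (hW : W.Normal) (h4 : Nat.card ↥W = 4) :
    (Subgroup.centralizer (W : Set Q)).relIndex Y ≤ 2 := by
  classical
  letI := ng_r2triv_act Y W hW
  have hsmul : ∀ (y : ↥Y) (t : ↥((W : Set Q) \ {1})),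
      ((y • t : ↥((W : Set Q) \ {1})) : Q) = (y : Q) * (t : Q) * (y : Q)⁻¹ := fun _ _ => rfl
  have hT : Nat.card ↥((W : Set Q) \ {1}) = 3 := by
    rw [Nat.card_coe_set_eq, Set.ncard_sdiff_singleton_of_mem W.one_mem]
    have : (W : Set Q).ncard = 4 := by
      rw [← Nat.card_coe_set_eq]; exact h4
    rw [this]
  let φ : ↥Y →* Equiv.Perm ↥((W : Set Q) \ {1}) := MulAction.toPermHom ↥Y _
  have h1 : φ.ker.index ∣ 6 := by
    rw [Subgroup.index_ker]
    have := Subgroup.card_subgroup_dvd_card φ.range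
    rw [Nat.card_perm, hT] at this
    exact this
  obtain ⟨n, hn⟩ := hY.index φ.ker
  have h2 : φ.ker.index ≤ 2 := by
    rw [hn] at h1 ⊢
    rcases n with _ | _ | n
    · norm_num
    · norm_num
    · exfalso
      have h4' : 4 ∣ 6 := Dvd.dvd.trans ⟨2 ^ n, by ring⟩ h1
      omega
  have hle : φ.ker ≤ (Subgroup.centralizer (W : Set Q)).subgroupOf Y := by
    intro y hy
    rw [Subgroup.mem_subgroupOf, Subgroup.mem_centralizer_iff]
    intro w hw
    by_cases hw1 : w = 1
    · rw [hw1]; simp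
    · have hy' : φ y = 1 := hy
      have := congrArg (fun e : Equiv.Perm ↥((W : Set Q) \ {1}) => (e ⟨w, hw, hw1⟩ : Q)) hy'
      simp only [Equiv.Perm.coe_one, id_eq] at this
      have h3 : (y : Q) * w * (y : Q)⁻¹ = w := this
      calc w * (y : Q) = (y : Q) * w * (y : Q)⁻¹ * y := by rw [h3]
        _ = (y : Q) * w := by group
  have h3 := Subgroup.index_dvd_of_le hle
  have hpos : 0 < φ.ker.index := Nat.pos_of_ne_zero (Subgroup.index_ne_zero_of_finite)
  exact le_trans (Nat.le_of_dvd hpos h3) h2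

theorem r2_triv_mod_sq [Finite G] {X H M : Subgroup G} (C : Ctx X H) (hM : M.Normal)
    (hMX : M ≤ X) (hMc : IsMulCommutative ↥M) (h4 : Nat.card ↥(Om M) = 4) :
    ∀ x ∈ X, ∀ u ∈ M, u * x * u⁻¹ * x⁻¹ ∈ Sq M := by
  have hSn : (Sq M).Normal := Sq_normal hM
  have hSM : Sq M ≤ M := Sq_le M
  have hcard := card_Om_mul_card_Sq hMc
  rw [h4] at hcard
  -- the quotient
  let mk : G →* G ⧸ Sq M := QuotientGroup.mk' (Sq M)
  have hmk : Function.Surjective mk := QuotientGroup.mk'_surjective _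
  have hker : mk.ker = Sq M := QuotientGroup.ker_mk' _
  have hWn : (M.map mk).Normal := Subgroup.Normal.map hM mk hmk
  have hY : IsPGroup 2 ↥(X.map mk) := C.two.map mk
  have hW4 : Nat.card ↥(M.map mk) = 4 := by
    have h1 : ((Sq M).map mk).relIndex (M.map mk) = (Sq M).relIndex M := by
      rw [Subgroup.relIndex_map_map, hker, sup_idem, sup_eq_left.mpr hSM]
    have h2 : (Sq M).map mk = ⊥ := by
      exact (Subgroup.map_eq_bot_iff _).mpr hker.ge
    rw [h2, Subgroup.relIndex_bot_left] at h1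
    rw [h1]
    have h3 := Subgroup.relIndex_mul_relIndex (⊥ : Subgroup G) (Sq M) M bot_le hSM
    rw [Subgroup.relIndex_bot_left, Subgroup.relIndex_bot_left, ← hcard] at h3
    have hpos : 0 < Nat.card ↥(Sq M) := Nat.card_pos
    have : Nat.card ↥(Sq M) * (Sq M).relIndex M = Nat.card ↥(Sq M) * 4 := by
      rw [h3]; ring
    exact Nat.eq_of_mul_eq_mul_left hpos this
  have hkey := ng_r2triv_key (X.map mk) (M.map mk) hY hWn hW4
  -- the subgroup `K`
  let K : Subgroup G := X ⊓ (Subgroup.centralizer ((M.map mk : Subgroup (G ⧸ Sq M)) : Set (G ⧸ Sq M))).comap mk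
  have hCn : (Subgroup.centralizer ((M.map mk : Subgroup (G ⧸ Sq M)) : Set (G ⧸ Sq M))).Normal := by
    haveI := hWn
    infer_instance
  have hKn : K.Normal := by
    haveI := C.normal
    haveI := hCn
    haveI : ((Subgroup.centralizer ((M.map mk : Subgroup (G ⧸ Sq M)) : Set (G ⧸ Sq M))).comap mk).Normal :=
      Subgroup.Normal.comap hCn mk
    exact Subgroup.normal_inf_normal _ _
  have hKX : K ≤ X := inf_le_left
  have hidx : K.relIndex X ≤ 2 := by
    show (X ⊓ _).relIndex X ≤ 2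
    rw [Subgroup.inf_relIndex_left, Subgroup.relIndex_comap]
    exact hkey
  have hKeq : K = X := eq_of_relIndex_le_two C hKn hKX hidx
  intro x hx u hu
  have hxK : x ∈ K := by rw [hKeq]; exact hx
  have hxc : mk x ∈ Subgroup.centralizer ((M.map mk : Subgroup (G ⧸ Sq M)) : Set (G ⧸ Sq M)) := hxK.2
  rw [Subgroup.mem_centralizer_iff] at hxc
  have h5 := hxc (mk u) (Subgroup.mem_map_of_mem mk hu)
  have h6 : mk (u * x * u⁻¹ * x⁻¹) = 1 := by
    rw [map_mul, map_mul, map_mul, h5, map_inv, map_inv]; group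
  have : u * x * u⁻¹ * x⁻¹ ∈ mk.ker := h6
  rw [hker] at this
  exact this

end Cfsg.Agent.Helper17.NG
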