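import Mathlib
import Cfsg.Agent.Lib.NG.NGDefs
import Cfsg.Agent.Lib.NG.NGR2LEVEL
import Cfsg.Agent.Lib.NG.NGR2OM2
import Cfsg.Agent.Lib.NG.NGR2TR
import Cfsg.Agent.Lib.NG.NGR2THETA
import Cfsg.Agent.Lib.NG.NGR2AB
import Cfsg.Agent.Lib.NG.NGR2TRIV
import Cfsg.Agent.Lib.NG.NGUPEX
import Cfsg.Agent.Lib.NG.NGUPMEM
import Cfsg.Agent.Lib.NG.NGOMSQ

/-! S1904 piece NG-R2LEMP (helper17 design; see plans/S1904_plan.md).  STUB: overwrite this file,
keeping the statement(s), namespace and imports (you may ADD imports of non-NG library files).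
Aux lemmas: fresh names `ng_r2lemp_...`. -/

set_option autoImplicit false

namespace Cfsg.Agent.Helper17.NG

variable {G : Type*} [Group G]

/-- if `g^2` centralises the abelian normal `M`, then `g` inverts every `ψ(w) = g w g⁻¹ w⁻¹`. -/
theorem ng_r2lemp_inv {M : Subgroup G} {g : G}
    (hg2 : g ^ 2 ∈ Subgroup.centralizer (M : Set G)) {w : G} (hw : w ∈ M) :
    g * (g * w * g⁻¹ * w⁻¹) * g⁻¹ = (g * w * g⁻¹ * w⁻¹)⁻¹ := by
  have h1 : w * g ^ 2 = g ^ 2 * w := (Subgroup.mem_centralizer_iff.mp hg2) w hw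
  have h2 : g ^ 2 * w * (g ^ 2)⁻¹ = w := by rw [← h1]; group
  obtain ⟨y, hy⟩ : ∃ y, y = g * w * g⁻¹ * w⁻¹ := ⟨_, rfl⟩
  have h3 : g * w * g⁻¹ = y * w := by rw [hy]; group
  have h4 : (g * y * g⁻¹) * (y * w) = w := by
    have : (g * y * g⁻¹) * (g * w * g⁻¹) = g ^ 2 * w * (g ^ 2)⁻¹ := by
      rw [hy, pow_two]; group
    rw [← h3, this, h2]
  have h5 : g * y * g⁻¹ = y⁻¹ := by
    have : (g * y * g⁻¹) * y = 1 := by
      have h6 : (g * y * g⁻¹) * y * w = w := by rw [mul_assoc]; exact h4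
      exact mul_eq_right.mp (by rw [h6])
    exact eq_inv_of_mul_eq_one_left this
  rw [← hy]
  exact h5

/-- counting: a homomorphism `M → S` with kernel of order at most `4` and `|M| = 4 |S|` is onto. -/
theorem ng_r2lemp_surj [Finite G] {M S V : Subgroup G} (hM : M.Normal) (hMc : IsMulCommutative ↥M)
    (hV4 : Nat.card ↥V = 4) (hcard : 4 * Nat.card ↥S = Nat.card ↥M) (g : G)
    (himg : ∀ u ∈ M, g * u * g⁻¹ * u⁻¹ ∈ S)
    (hker : ∀ u ∈ M, g * u * g⁻¹ * u⁻¹ = 1 → u ∈ V) :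
    ∀ s ∈ S, ∃ u ∈ M, g * u * g⁻¹ * u⁻¹ = s := by
  classical
  let φ : ↥M →* ↥S :=
    { toFun := fun u => ⟨g * (u : G) * g⁻¹ * (u : G)⁻¹, himg u u.2⟩
      map_one' := by
        apply Subtype.ext
        show g * ((1 : ↥M) : G) * g⁻¹ * ((1 : ↥M) : G)⁻¹ = ((1 : ↥S) : G)
        simp
      map_mul' := fun u v => Subtype.ext (by
        show g * ((u * v : ↥M) : G) * g⁻¹ * ((u * v : ↥M) : G)⁻¹ =
          (g * (u : G) * g⁻¹ * (u : G)⁻¹) * (g * (v : G) * g⁻¹ * (v : G)⁻¹)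
        rw [Subgroup.coe_mul]
        exact ng_r2level_mul hM hMc g u.2 v.2) }
  have hφ : ∀ u : ↥M, ((φ u : ↥S) : G) = g * (u : G) * g⁻¹ * (u : G)⁻¹ := fun _ => rfl
  have hkcard : Nat.card ↥φ.ker ≤ Nat.card ↥V := by
    refine Nat.card_le_card_of_injective
      (fun u : ↥φ.ker => (⟨((u : ↥M) : G), hker _ (u : ↥M).2 (by
        have h1 := MonoidHom.mem_ker.mp u.2
        have h2 := congrArg Subtype.val h1
        rw [hφ] at h2
        exact h2)⟩ : ↥V)) ?_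
    intro u v h
    apply Subtype.ext
    apply Subtype.ext
    exact congrArg (fun t : ↥V => (t : G)) h
  have h1 : Nat.card ↥φ.ker * Nat.card ↥φ.range = Nat.card ↥M := by
    rw [← Subgroup.index_ker, Subgroup.card_mul_index]
  have h2 : Nat.card ↥S ≤ Nat.card ↥φ.range := by
    rw [hV4] at hkcard
    have hpos : 0 < Nat.card ↥φ.range := Nat.card_pos
    nlinarith
  have h3 : φ.range = ⊤ := Subgroup.eq_top_of_le_card _ h2
  intro s hs
  have h4 : (⟨s, hs⟩ : ↥S) ∈ φ.range := by rw [h3]; trivial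
  obtain ⟨u, hu⟩ := h4
  refine ⟨u, u.2, ?_⟩
  have := congrArg Subtype.val hu
  rw [hφ] at this
  exact this


/-- Lemma P: some `t ∈ Up X M \ M` centralises `Sq M`.  Let `L := Om2 M` (`r2_om2`), `S := Sq M`.
Suppose not.  By `r2_level`, every `g ∈ Up X M` (so `g^2 ∈ M ≤ C(M)`) centralising `L` acts on `M` via
involutions `ψ(u)`, hence centralises `S` (`g u^2 g⁻¹ u⁻² = ψ(u)^2 = 1`), hence `g ∈ M`.  (★)
`X` acts on `L` by `u ↦ k_x(u) u`, `k_x(u) ∈ V` (`k_x(u)^2 = k_x(u^2) = 1` since `u^2 ∈ V` is central, and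
`k_x(u) ∈ M`; `hV.inv`), `k_x` kills `V`.  Pick `g ∈ Up X M \ M` (`exists_mem_Up`, `J = X`; `X ≠ M`).
`r2_trace` (`U = L`): `y := g (a g a⁻¹)(a^2 g a⁻²)` centralises `L`; `y ∈ Up X M`, so `y ∈ M` by (★).
`theta_lemma` (`U = L`, `U0 = V`, `x = g`): either `g` centralises `L` (then `g ∈ M` by (★), contradiction) or
`C_L(g) = V`.  Same for `a g a⁻¹`, `a^2 g a⁻²`.  Then `C_M(g)` has no element of order 4, so `C_M(g) ≤ Om M = V`;
`ψ_g : M → S` (`r2_triv_mod_sq`) has kernel of order `≤ 4`, so `ψ_g(M) = S` (`card S = card M / 4`);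
`g` inverts `ψ_g(M)` (`g ψ(u) g⁻¹ = ψ(u) ψ(ψ(u)) = ψ(u)⁻¹`).  So `g`, `a g a⁻¹`, `a^2 g a⁻²` all invert `S`,
their product `y ∈ M` centralises `S` and inverts it: `S` has exponent 2, `S ≤ Om M = V`, contradicting
`V < S`. -/
theorem r2_lemma_P [Finite G] {X H V M : Subgroup G} {a : G} (C : Ctx X H) (hV : IsV X V)
    (hA : IsA H V a) (hM : IsMaxAb X M) (hs : X ⊓ Subgroup.centralizer (M : Set G) ≤ M)
    (hVS : V ≤ Sq M) (hne : Sq M ≠ V) :
    ∃ t ∈ Up X M, t ∉ M ∧ t ∈ Subgroup.centralizer (Sq M : Set G) := by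
  classical
  by_contra hcon
  push Not at hcon
  have hMn : M.Normal := hM.normal
  have hMX : M ≤ X := hM.le
  have hMc : IsMulCommutative ↥M := hM.comm
  have hXn : X.Normal := C.normal
  have hM2 : IsPGroup 2 ↥M := C.two.to_le hMX
  have commM : ∀ p ∈ M, ∀ q ∈ M, p * q = q * p := fun p hp q hq =>
    congrArg Subtype.val (hMc.is_comm.comm (⟨p, hp⟩ : ↥M) ⟨q, hq⟩)
  have cV : ∀ x ∈ X, ∀ v ∈ V, x * v = v * x := fun x hx v hv =>
    ((Subgroup.mem_centralizer_iff.mp (hV.central hx)) v hv).symm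
  have hVc : IsMulCommutative ↥V := ⟨⟨fun p q => Subtype.ext (cV p (hV.le p.2) q q.2)⟩⟩
  have hMnorm : X ≤ Subgroup.normalizer (M : Set G) := by
    rw [Subgroup.normalizer_eq_top_iff.mpr hMn]; exact le_top
  have hSM : Sq M ≤ M := Sq_le M
  have hVM : V ≤ M := hVS.trans hSM
  obtain ⟨hLS, hLsq, hLidx, hVL⟩ := r2_om2 C hV hA hMn hMX hMc hVS hne
  have hLM : Om2 M ≤ M := Om2_le M
  have hLn : (Om2 M).Normal := Om2_normal hMn
  have hLX : Om2 M ≤ X := hLM.trans hMX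
  have hLc : IsMulCommutative ↥(Om2 M) :=
    ⟨⟨fun p q => Subtype.ext (commM p (hLM p.2) q (hLM q.2))⟩⟩
  have hinvM : ∀ u ∈ M, u ^ 2 = 1 → u ∈ V := fun u hu h2 => hV.inv M hMX hMnorm hMc u hu h2
  have hg2c : ∀ g ∈ Up X M, g ^ 2 ∈ Subgroup.centralizer (M : Set G) := by
    intro g hg
    have h1 : g ^ 2 ∈ M := ((mem_Up hMn).mp hg).2.2
    rw [Subgroup.mem_centralizer_iff]
    intro u hu
    exact commM u hu _ h1
  -- (★)
  have star : ∀ g ∈ Up X M, g ∈ Subgroup.centralizer (Om2 M : Set G) → g ∈ M := by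
    intro g hg hgL
    by_contra hgM
    apply hcon g hg hgM
    have hlev := r2_level hMn hMc hM2 (hg2c g hg) hgL
    rw [Subgroup.mem_centralizer_iff]
    intro s hs
    obtain ⟨u, hu, rfl⟩ := (mem_Sq hMc).mp hs
    have h1 := ng_r2level_pow hMn hMc g hu 2
    rw [hlev u hu] at h1
    have h2 : g * u ^ 2 * g⁻¹ = u ^ 2 := mul_inv_eq_one.mp h1
    calc u ^ 2 * g = (g * u ^ 2 * g⁻¹) * g := by rw [h2]
      _ = g * u ^ 2 := by group
  -- `X` acts on `L` through `V`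
  have hXL : ∀ x ∈ X, ∀ u ∈ Om2 M, u * x * u⁻¹ * x⁻¹ ∈ V := by
    intro x hx u hu
    have huM := hLM hu
    have hk : x * u * x⁻¹ * u⁻¹ ∈ M := M.mul_mem (hMn.conj_mem u huM x) (M.inv_mem huM)
    have hk2 : (x * u * x⁻¹ * u⁻¹) ^ 2 = 1 := by
      rw [← ng_r2level_pow hMn hMc x huM 2]
      have h1 := cV x hx _ (hLsq u hu)
      rw [h1]; group
    have := V.inv_mem (hinvM _ hk hk2)
    have e : (x * u * x⁻¹ * u⁻¹)⁻¹ = u * x * u⁻¹ * x⁻¹ := by group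
    rwa [e] at this
  have htrace := r2_trace C hV hA hLn hLX hLc hLsq hXL
  have hfpf := (r2_abelian_facts C hV hA hLn hLX hLc).2.2 V hV.normal hVL hLidx
  have hUpn : (Up X M).Normal := Up_normal hXn hMn
  -- (★★)
  have star2 : ∀ g ∈ Up X M, g ∉ M → ∀ u ∈ Om2 M, u * g * u⁻¹ * g⁻¹ = 1 → u ∈ V := by
    intro g hg hgM
    have hgX : g ∈ X := Up_le X M hg
    have hg1X : a * g * a⁻¹ ∈ X := hXn.conj_mem g hgX a
    have hg2X : a ^ 2 * g * (a ^ 2)⁻¹ ∈ X := hXn.conj_mem g hgX (a ^ 2)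
    have hx0 : ∀ u ∈ V, u * g * u⁻¹ * g⁻¹ = 1 := by
      intro u hu
      rw [← cV g hgX u hu]; group
    have hhom : ∀ u ∈ Om2 M, ∀ u' ∈ Om2 M, (u * u') * g * (u * u')⁻¹ * g⁻¹ =
        (u * g * u⁻¹ * g⁻¹) * (u' * g * u'⁻¹ * g⁻¹) := by
      intro u hu u' hu'
      have hk' : u' * g * u'⁻¹ * g⁻¹ ∈ V := hXL g hgX u' hu'
      have h1 := cV u (hLX hu) _ hk'
      have h2 := cV (u * g * u⁻¹ * g⁻¹) (hV.le (hXL g hgX u hu)) _ hk'
      calc (u * u') * g * (u * u')⁻¹ * g⁻¹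
          = (u * (u' * g * u'⁻¹ * g⁻¹)) * g * u⁻¹ * g⁻¹ := by group
        _ = ((u' * g * u'⁻¹ * g⁻¹) * u) * g * u⁻¹ * g⁻¹ := by rw [h1]
        _ = (u' * g * u'⁻¹ * g⁻¹) * (u * g * u⁻¹ * g⁻¹) := by group
        _ = _ := h2.symm
    have htr : ∀ u ∈ Om2 M, (u * g * u⁻¹ * g⁻¹) *
        (u * (a * g * a⁻¹) * u⁻¹ * (a * g * a⁻¹)⁻¹) *
        (u * (a ^ 2 * g * (a ^ 2)⁻¹) * u⁻¹ * (a ^ 2 * g * (a ^ 2)⁻¹)⁻¹) = 1 := by
      intro u hu
      have hy := htrace g hgX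
      have hyu := (Subgroup.mem_centralizer_iff.mp hy) u hu
      have hk1 : u * (a * g * a⁻¹) * u⁻¹ * (a * g * a⁻¹)⁻¹ ∈ V := hXL _ hg1X u hu
      have hk2 : u * (a ^ 2 * g * (a ^ 2)⁻¹) * u⁻¹ * (a ^ 2 * g * (a ^ 2)⁻¹)⁻¹ ∈ V :=
        hXL _ hg2X u hu
      have c1 := cV g hgX _ hk1
      have c2 := cV (g * (a * g * a⁻¹)) (X.mul_mem hgX hg1X) _ hk2
      have e0 : u * (g * (a * g * a⁻¹) * (a ^ 2 * g * (a ^ 2)⁻¹)) * u⁻¹ *
          (g * (a * g * a⁻¹) * (a ^ 2 * g * (a ^ 2)⁻¹))⁻¹ = 1 := by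
        rw [hyu]; group
      have e1 : u * (g * (a * g * a⁻¹) * (a ^ 2 * g * (a ^ 2)⁻¹)) * u⁻¹ *
          (g * (a * g * a⁻¹) * (a ^ 2 * g * (a ^ 2)⁻¹))⁻¹ =
          (u * g * u⁻¹ * g⁻¹) *
          (g * (u * (a * g * a⁻¹) * u⁻¹ * (a * g * a⁻¹)⁻¹) * g⁻¹) *
          ((g * (a * g * a⁻¹)) *
            (u * (a ^ 2 * g * (a ^ 2)⁻¹) * u⁻¹ * (a ^ 2 * g * (a ^ 2)⁻¹)⁻¹) *
            (g * (a * g * a⁻¹))⁻¹) := by group
      rw [e1, c1, c2] at e0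
      rw [← e0]; group
    have hth := theta_lemma (U := Om2 M) (U0 := V) (x := g) hA hV.sq hVc hVL hLidx hLc
      (fun u hu => hLn.conj_mem u hu a) (fun u hu => hV.normal.conj_mem u hu a) hfpf
      (hXL g hgX) hx0 hhom htr
    rcases hth with h1 | h2
    · exfalso
      apply hgM
      apply star g hg
      rw [Subgroup.mem_centralizer_iff]
      intro u hu
      have h3 := h1 u hu
      have h4 : u * g * u⁻¹ = g := mul_inv_eq_one.mp h3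
      calc u * g = (u * g * u⁻¹) * u := by group
        _ = g * u := by rw [h4]
    · exact h2
  -- `C_M(g) ≤ V`
  have hCM : ∀ g ∈ Up X M, g ∉ M → ∀ u ∈ M, u * g * u⁻¹ * g⁻¹ = 1 → u ∈ V := by
    intro g hg hgM u hu hug
    apply hinvM u hu
    have hcomm : Commute u g := by
      have h4 : u * g * u⁻¹ = g := mul_inv_eq_one.mp hug
      show u * g = g * u
      calc u * g = (u * g * u⁻¹) * u := by group
        _ = g * u := by rw [h4]
    obtain ⟨k, hk⟩ := hM2 ⟨u, hu⟩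
    have hk' : u ^ (2 ^ k) = 1 := by
      have := congrArg Subtype.val hk
      simpa using this
    -- descent: `u^(2^(j+2)) = 1 → u^(2^(j+1)) = 1`
    have hdesc : ∀ j : ℕ, u ^ (2 ^ (j + 2)) = 1 → u ^ (2 ^ (j + 1)) = 1 := by
      intro j hj
      have hw : u ^ (2 ^ j) ∈ M := M.pow_mem hu _
      have hw4 : (u ^ (2 ^ j)) ^ 4 = 1 := by
        rw [← pow_mul]
        have : 2 ^ j * 4 = 2 ^ (j + 2) := by ring
        rw [this, hj]
      have hwL : u ^ (2 ^ j) ∈ Om2 M := (mem_Om2 hMc).mpr ⟨hw, hw4⟩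
      have hwc : Commute (u ^ (2 ^ j)) g := hcomm.pow_left _
      have hw1 : u ^ (2 ^ j) * g * (u ^ (2 ^ j))⁻¹ * g⁻¹ = 1 := by
        rw [hwc.eq]; group
      have hwV := star2 g hg hgM _ hwL hw1
      have := hV.sq _ hwV
      rw [← pow_mul] at this
      have e : 2 ^ j * 2 = 2 ^ (j + 1) := by ring
      rw [e] at this
      exact this
    have hfin : ∀ j : ℕ, u ^ (2 ^ (j + 1)) = 1 → u ^ 2 = 1 := by
      intro j
      induction j with
      | zero => intro h; simpa using h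
      | succ j ih => intro h; exact ih (hdesc j h)
    by_cases hK0 : k = 0
    · rw [hK0] at hk'
      simp at hk'
      rw [hk']; simp
    · obtain ⟨j, rfl⟩ := Nat.exists_eq_succ_of_ne_zero hK0
      exact hfin j hk'
  -- `Om M = V`, cardinalities
  have hOmV : Om M = V := by
    ext b
    rw [mem_Om hMc]
    constructor
    · rintro ⟨hb, hb2⟩
      exact hinvM b hb hb2
    · intro hb
      exact ⟨hVM hb, hV.sq b hb⟩
  have h4 : Nat.card ↥(Om M) = 4 := by rw [hOmV]; exact hV.card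
  have hcard : 4 * Nat.card ↥(Sq M) = Nat.card ↥M := by
    have := card_Om_mul_card_Sq hMc
    rw [h4] at this
    exact this
  have htriv := r2_triv_mod_sq C hMn hMX hMc h4
  -- every `g ∈ Up X M \ M` inverts `Sq M`
  have hinvS : ∀ g ∈ Up X M, g ∉ M → ∀ s ∈ Sq M, g * s * g⁻¹ = s⁻¹ := by
    intro g hg hgM s hs
    have hgX : g ∈ X := Up_le X M hg
    have himg : ∀ u ∈ M, g * u * g⁻¹ * u⁻¹ ∈ Sq M := by
      intro u hu
      have := (Sq M).inv_mem (htriv g hgX u hu)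
      have e : (u * g * u⁻¹ * g⁻¹)⁻¹ = g * u * g⁻¹ * u⁻¹ := by group
      rwa [e] at this
    have hker : ∀ u ∈ M, g * u * g⁻¹ * u⁻¹ = 1 → u ∈ V := by
      intro u hu h1
      apply hCM g hg hgM u hu
      have e : u * g * u⁻¹ * g⁻¹ = (g * u * g⁻¹ * u⁻¹)⁻¹ := by group
      rw [e, h1, inv_one]
    obtain ⟨u, hu, rfl⟩ := ng_r2lemp_surj hMn hMc hV.card hcard g himg hker s hs
    exact ng_r2lemp_inv (hg2c g hg) hu
  -- pick `g`
  have hMneX : M ≠ X := by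
    intro h
    apply C.nonab
    rw [← h]
    exact hMc
  obtain ⟨g, hgX, hgM, hgU⟩ := exists_mem_Up C.two hMn (le_refl X) Subgroup.le_normalizer hMX hMneX
  have hg1U : a * g * a⁻¹ ∈ Up X M := hUpn.conj_mem g hgU a
  have hg2U : a ^ 2 * g * (a ^ 2)⁻¹ ∈ Up X M := hUpn.conj_mem g hgU (a ^ 2)
  have hg1M : a * g * a⁻¹ ∉ M := by
    intro h
    apply hgM
    have := hMn.conj_mem _ h a⁻¹
    have e : a⁻¹ * (a * g * a⁻¹) * a⁻¹⁻¹ = g := by group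
    rwa [e] at this
  have hg2M : a ^ 2 * g * (a ^ 2)⁻¹ ∉ M := by
    intro h
    apply hgM
    have := hMn.conj_mem _ h (a ^ 2)⁻¹
    have e : (a ^ 2)⁻¹ * (a ^ 2 * g * (a ^ 2)⁻¹) * (a ^ 2)⁻¹⁻¹ = g := by group
    rwa [e] at this
  have hyU : g * (a * g * a⁻¹) * (a ^ 2 * g * (a ^ 2)⁻¹) ∈ Up X M :=
    (Up X M).mul_mem ((Up X M).mul_mem hgU hg1U) hg2U
  have hyM : g * (a * g * a⁻¹) * (a ^ 2 * g * (a ^ 2)⁻¹) ∈ M := star _ hyU (htrace g hgX)
  apply hne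
  apply le_antisymm _ hVS
  intro s hs
  apply hinvM s (hSM hs)
  have i2 := hinvS _ hg2U hg2M s hs
  have i1 := hinvS _ hg1U hg1M s⁻¹ ((Sq M).inv_mem hs)
  have i0 := hinvS g hgU hgM s hs
  rw [inv_inv] at i1
  have hy : (g * (a * g * a⁻¹) * (a ^ 2 * g * (a ^ 2)⁻¹)) * s *
      (g * (a * g * a⁻¹) * (a ^ 2 * g * (a ^ 2)⁻¹))⁻¹ = s⁻¹ := by
    calc (g * (a * g * a⁻¹) * (a ^ 2 * g * (a ^ 2)⁻¹)) * s *
        (g * (a * g * a⁻¹) * (a ^ 2 * g * (a ^ 2)⁻¹))⁻¹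
        = g * ((a * g * a⁻¹) * ((a ^ 2 * g * (a ^ 2)⁻¹) * s * (a ^ 2 * g * (a ^ 2)⁻¹)⁻¹) *
          (a * g * a⁻¹)⁻¹) * g⁻¹ := by group
      _ = s⁻¹ := by rw [i2, i1, i0]
  have hy' : (g * (a * g * a⁻¹) * (a ^ 2 * g * (a ^ 2)⁻¹)) * s *
      (g * (a * g * a⁻¹) * (a ^ 2 * g * (a ^ 2)⁻¹))⁻¹ = s := by
    rw [commM _ hyM s (hSM hs)]; group
  rw [hy] at hy'
  -- `s⁻¹ = s`
  calc s ^ 2 = s * s := pow_two s
    _ = s⁻¹ * s := by rw [hy']
    _ = 1 := inv_mul_cancel s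

end Cfsg.Agent.Helper17.NG
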