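import Mathlib
import Cfsg.Agent.Lib.NG.NGDefs
import Cfsg.Agent.Lib.NG.NGR2LEMP
import Cfsg.Agent.Lib.NG.NGR2THETA
import Cfsg.Agent.Lib.NG.NGR2AB
import Cfsg.Agent.Lib.NG.NGR2OM2
import Cfsg.Agent.Lib.NG.NGUPMEM
import Cfsg.Agent.Lib.NG.NGOMSQ

/-! S1904 piece NG-R2CHOICE (helper17 design; see plans/S1904_plan.md).  STUB: overwrite this file,
keeping the statement(s), namespace and imports (you may ADD imports of non-NG library files).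
Aux lemmas: fresh names `ng_r2choice_...`. -/

set_option autoImplicit false

namespace Cfsg.Agent.Helper17.NG

variable {G : Type*} [Group G]

/-- There is `t ∈ Up X M \ M` centralising `S := Sq M` with `C_M(t) = S`.
`F := Up X M ⊓ C(S)` is normal in `G`, `F ≠ M` (`r2_lemma_P`), `F/M` is elementary abelian.  For `t ∈ F`:
`k_t(u) := u t u⁻¹ t⁻¹ ∈ V` (`k_t(u)^2 = k_t(u^2) = 1`, `hV.inv`), a homomorphism `M → V` killing `S`,
`k_{t t'} = k_t k_{t'}`.  `a^3` centralises `M` and `V` so `a^3 t a⁻³ t⁻¹ ∈ X ⊓ C(M) = M`.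
Case 1: some `t ∈ F \ M` with `a t a⁻¹ t⁻¹ ∈ M`.  Then `C_M(t)` is `a`-invariant, contains `S`, `≠ M`;
if `C_M(t) ≠ S` it has index 2 in `M`, take `b ∈ C_M(t) \ S`: `a b a⁻¹ b⁻¹ ∈ S`?  (`M/S` has order 4 and the
subgroup `C_M(t)/S` of order 2 is `a`-invariant) contradicting `r2_abelian_facts` (3) (`N = S`).
Case 2: no such `t`.  Take any `t ∈ F \ M`; `y := t (a t a⁻¹)(a^2 t a⁻²) ∈ F` satisfies
`a y a⁻¹ y⁻¹ ∈ M` (`F/M` abelian, `a^3 t a⁻³ ≡ t`), so `y ∈ M`: trace zero on `M`;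
`theta_lemma` (`U = M`, `U0 = S`, `(Sq M).relIndex M = 4`) gives `C_M(t) = S`. -/
theorem r2_choice [Finite G] {X H V M : Subgroup G} {a : G} (C : Ctx X H) (hV : IsV X V)
    (hA : IsA H V a) (hM : IsMaxAb X M) (hs : X ⊓ Subgroup.centralizer (M : Set G) ≤ M)
    (hVS : V ≤ Sq M) (hne : Sq M ≠ V) :
    ∃ t ∈ Up X M, t ∉ M ∧ t ∈ Subgroup.centralizer (Sq M : Set G) ∧
      ∀ u ∈ M, u * t * u⁻¹ * t⁻¹ = 1 → u ∈ Sq M := by
  classical
  have hMn : M.Normal := hM.normal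
  have hMX : M ≤ X := hM.le
  have hMc : IsMulCommutative ↥M := hM.comm
  have hXn : X.Normal := C.normal
  have commM : ∀ p ∈ M, ∀ q ∈ M, p * q = q * p := fun p hp q hq =>
    congrArg Subtype.val (hMc.is_comm.comm (⟨p, hp⟩ : ↥M) ⟨q, hq⟩)
  have cV : ∀ x ∈ X, ∀ v ∈ V, x * v = v * x := fun x hx v hv =>
    ((Subgroup.mem_centralizer_iff.mp (hV.central hx)) v hv).symm
  have hVc : IsMulCommutative ↥V := ⟨⟨fun p q => Subtype.ext (cV p (hV.le p.2) q q.2)⟩⟩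
  have hMnorm : X ≤ Subgroup.normalizer (M : Set G) := by
    rw [Subgroup.normalizer_eq_top_iff.mpr hMn]; exact le_top
  have hSM : Sq M ≤ M := Sq_le M
  have hSn : (Sq M).Normal := Sq_normal hMn
  have hVM : V ≤ M := hVS.trans hSM
  have hinvM : ∀ u ∈ M, u ^ 2 = 1 → u ∈ V := fun u hu h2 => hV.inv M hMX hMnorm hMc u hu h2
  have hUpn : (Up X M).Normal := Up_normal hXn hMn
  have hCSn : (Subgroup.centralizer (Sq M : Set G)).Normal := by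
    have := hSn
    exact Subgroup.normal_centralizer
  -- `Om M = V`, cardinalities, index
  have hOmV : Om M = V := by
    ext b
    rw [mem_Om hMc]
    constructor
    · rintro ⟨hb, hb2⟩
      exact hinvM b hb hb2
    · intro hb
      exact ⟨hVM hb, hV.sq b hb⟩
  have hidx : (Sq M).relIndex M = 4 := by
    have hcard := card_Om_mul_card_Sq hMc
    rw [hOmV, hV.card] at hcard
    have h3 := Subgroup.relIndex_mul_relIndex (⊥ : Subgroup G) (Sq M) M bot_le hSM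
    rw [Subgroup.relIndex_bot_left, Subgroup.relIndex_bot_left, ← hcard] at h3
    have hpos : 0 < Nat.card ↥(Sq M) := Nat.card_pos
    have : Nat.card ↥(Sq M) * (Sq M).relIndex M = Nat.card ↥(Sq M) * 4 := by
      rw [h3]; ring
    exact Nat.eq_of_mul_eq_mul_left hpos this
  obtain ⟨hcube, -, hfix3⟩ := r2_abelian_facts C hV hA hMn hMX hMc
  have hfpf := hfix3 (Sq M) hSn hSM hidx
  -- elements of `F` act on `M` through `V`
  have hFV : ∀ t ∈ Up X M, t ∈ Subgroup.centralizer (Sq M : Set G) →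
      ∀ u ∈ M, u * t * u⁻¹ * t⁻¹ ∈ V := by
    intro t _ htS u hu
    have hk : t * u * t⁻¹ * u⁻¹ ∈ M := M.mul_mem (hMn.conj_mem u hu t) (M.inv_mem hu)
    have hk2 : (t * u * t⁻¹ * u⁻¹) ^ 2 = 1 := by
      rw [← ng_r2level_pow hMn hMc t hu 2]
      have hu2 : u ^ 2 ∈ Sq M := (mem_Sq hMc).mpr ⟨u, hu, rfl⟩
      have h1 := (Subgroup.mem_centralizer_iff.mp htS) _ hu2
      rw [← h1]; group
    have := V.inv_mem (hinvM _ hk hk2)
    have e : (t * u * t⁻¹ * u⁻¹)⁻¹ = u * t * u⁻¹ * t⁻¹ := by group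
    rwa [e] at this
  -- an element of `X` centralising `M` lies in `M`
  have hCM : ∀ t ∈ X, (∀ u ∈ M, u * t * u⁻¹ * t⁻¹ = 1) → t ∈ M := by
    intro t htX h
    apply hs
    refine ⟨htX, ?_⟩
    show t ∈ Subgroup.centralizer (M : Set G)
    rw [Subgroup.mem_centralizer_iff]
    intro u hu
    have h4 : u * t * u⁻¹ = t := mul_inv_eq_one.mp (h u hu)
    calc u * t = (u * t * u⁻¹) * u := by group
      _ = t * u := by rw [h4]
  -- the homomorphism property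
  have hhomF : ∀ t ∈ Up X M, t ∈ Subgroup.centralizer (Sq M : Set G) →
      ∀ u ∈ M, ∀ u' ∈ M, (u * u') * t * (u * u')⁻¹ * t⁻¹ =
        (u * t * u⁻¹ * t⁻¹) * (u' * t * u'⁻¹ * t⁻¹) := by
    intro t htU htS u hu u' hu'
    have hk' : u' * t * u'⁻¹ * t⁻¹ ∈ V := hFV t htU htS u' hu'
    have h1 := cV u (hMX hu) _ hk'
    have h2 := cV (u * t * u⁻¹ * t⁻¹) (hV.le (hFV t htU htS u hu)) _ hk'
    calc (u * u') * t * (u * u')⁻¹ * t⁻¹
        = (u * (u' * t * u'⁻¹ * t⁻¹)) * t * u⁻¹ * t⁻¹ := by group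
      _ = ((u' * t * u'⁻¹ * t⁻¹) * u) * t * u⁻¹ * t⁻¹ := by rw [h1]
      _ = (u' * t * u'⁻¹ * t⁻¹) * (u * t * u⁻¹ * t⁻¹) := by group
      _ = _ := h2.symm
  obtain ⟨t0, ht0U, ht0M, ht0S⟩ := r2_lemma_P C hV hA hM hs hVS hne
  by_cases hcase : ∃ t ∈ Up X M, t ∉ M ∧ t ∈ Subgroup.centralizer (Sq M : Set G) ∧
      a * t * a⁻¹ * t⁻¹ ∈ M
  · -- Case 1
    obtain ⟨t, htU, htM, htS, htm⟩ := hcase
    have htX : t ∈ X := Up_le X M htU
    refine ⟨t, htU, htM, htS, ?_⟩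
    intro b hb hbt
    by_contra hbS
    obtain ⟨K, hKdef⟩ : ∃ K : Subgroup G, K = M ⊓ Subgroup.centralizer ({t} : Set G) := ⟨_, rfl⟩
    have hKmem : ∀ u, u ∈ K ↔ u ∈ M ∧ t * u = u * t := by
      intro u
      rw [hKdef, Subgroup.mem_inf, Subgroup.mem_centralizer_iff]
      constructor
      · rintro ⟨h1, h2⟩
        exact ⟨h1, h2 t rfl⟩
      · rintro ⟨h1, h2⟩
        refine ⟨h1, ?_⟩
        intro h hh
        rw [Set.mem_singleton_iff] at hh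
        rw [hh]; exact h2
    have hbt' : t * b = b * t := by
      have h4 : b * t * b⁻¹ = t := mul_inv_eq_one.mp hbt
      calc t * b = (b * t * b⁻¹) * b := by rw [h4]
        _ = b * t := by group
    have hbK : b ∈ K := (hKmem b).mpr ⟨hb, hbt'⟩
    have hb1M : a * b * a⁻¹ ∈ M := hMn.conj_mem b hb a
    have hb1K : a * b * a⁻¹ ∈ K := by
      refine (hKmem _).mpr ⟨hb1M, ?_⟩
      have e1 : a * t * a⁻¹ = (a * t * a⁻¹ * t⁻¹) * t := by group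
      have e2 : (a * t * a⁻¹) * (a * b * a⁻¹) = (a * b * a⁻¹) * (a * t * a⁻¹) := by
        calc (a * t * a⁻¹) * (a * b * a⁻¹) = a * (t * b) * a⁻¹ := by group
          _ = a * (b * t) * a⁻¹ := by rw [hbt']
          _ = _ := by group
      have e3 := commM _ htm _ hb1M
      rw [e1] at e2
      have e4 : (a * t * a⁻¹ * t⁻¹) * (t * (a * b * a⁻¹)) =
          (a * t * a⁻¹ * t⁻¹) * ((a * b * a⁻¹) * t) := by
        calc (a * t * a⁻¹ * t⁻¹) * (t * (a * b * a⁻¹))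
            = (a * t * a⁻¹ * t⁻¹) * t * (a * b * a⁻¹) := by group
          _ = (a * b * a⁻¹) * ((a * t * a⁻¹ * t⁻¹) * t) := e2
          _ = ((a * b * a⁻¹) * (a * t * a⁻¹ * t⁻¹)) * t := by group
          _ = ((a * t * a⁻¹ * t⁻¹) * (a * b * a⁻¹)) * t := by rw [e3]
          _ = _ := by group
      exact mul_left_cancel e4
    have hSK : Sq M ≤ K := by
      intro s hs'
      refine (hKmem s).mpr ⟨hSM hs', ?_⟩
      exact ((Subgroup.mem_centralizer_iff.mp htS) s hs').symm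
    have hKM : K ≤ M := by
      rw [hKdef]; exact inf_le_left
    have hMK : ¬ M ≤ K := by
      intro h
      apply htM
      apply hCM t htX
      intro u hu
      have := ((hKmem u).mp (h hu)).2
      rw [← this]; group
    have hKS : ¬ K ≤ Sq M := fun h => hbS (h hbK)
    have hmul := Subgroup.relIndex_mul_relIndex (Sq M) K M hSK hKM
    rw [hidx] at hmul
    have hx1 : (Sq M).relIndex K ≠ 1 := fun h => hKS (Subgroup.relIndex_eq_one.mp h)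
    have hy1 : K.relIndex M ≠ 1 := fun h => hMK (Subgroup.relIndex_eq_one.mp h)
    have hx2 : (Sq M).relIndex K = 2 := by
      have hdvd : (Sq M).relIndex K ∣ 4 := ⟨_, hmul.symm⟩
      have hle : (Sq M).relIndex K ≤ 4 := Nat.le_of_dvd (by norm_num) hdvd
      interval_cases hx : (Sq M).relIndex K
      · omega
      · exact absurd rfl hx1
      · rfl
      · omega
      · exfalso
        apply hy1
        omega
    have hidx2 : ((Sq M).subgroupOf K).index = 2 := hx2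
    have hiff := Subgroup.mul_mem_iff_of_index_two hidx2
      (a := (⟨a * b * a⁻¹, hb1K⟩ : ↥K)) (b := (⟨b⁻¹, K.inv_mem hbK⟩ : ↥K))
    rw [Subgroup.mem_subgroupOf, Subgroup.mem_subgroupOf, Subgroup.mem_subgroupOf] at hiff
    have hn1 : a * b * a⁻¹ ∉ Sq M := by
      intro h
      apply hbS
      have := hSn.conj_mem _ h a⁻¹
      have e : a⁻¹ * (a * b * a⁻¹) * a⁻¹⁻¹ = b := by group
      rwa [e] at this
    have hn2 : b⁻¹ ∉ Sq M := by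
      intro h
      apply hbS
      have := (Sq M).inv_mem h
      rwa [inv_inv] at this
    have hmem : a * b * a⁻¹ * b⁻¹ ∈ Sq M := by
      have := hiff.mpr ⟨fun h => absurd h hn1, fun h => absurd h hn2⟩
      exact this
    exact hbS (hfpf b hb hmem)
  · -- Case 2
    push Not at hcase
    have ht0X : t0 ∈ X := Up_le X M ht0U
    have ht1U : a * t0 * a⁻¹ ∈ Up X M := hUpn.conj_mem t0 ht0U a
    have ht2U : a ^ 2 * t0 * (a ^ 2)⁻¹ ∈ Up X M := hUpn.conj_mem t0 ht0U (a ^ 2)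
    have ht1S : a * t0 * a⁻¹ ∈ Subgroup.centralizer (Sq M : Set G) := hCSn.conj_mem t0 ht0S a
    have ht2S : a ^ 2 * t0 * (a ^ 2)⁻¹ ∈ Subgroup.centralizer (Sq M : Set G) :=
      hCSn.conj_mem t0 ht0S (a ^ 2)
    have ht1X : a * t0 * a⁻¹ ∈ X := Up_le X M ht1U
    have ht2X : a ^ 2 * t0 * (a ^ 2)⁻¹ ∈ X := Up_le X M ht2U
    have hyU : t0 * (a * t0 * a⁻¹) * (a ^ 2 * t0 * (a ^ 2)⁻¹) ∈ Up X M :=
      (Up X M).mul_mem ((Up X M).mul_mem ht0U ht1U) ht2U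
    have hyS : t0 * (a * t0 * a⁻¹) * (a ^ 2 * t0 * (a ^ 2)⁻¹) ∈
        Subgroup.centralizer (Sq M : Set G) :=
      Subgroup.mul_mem _ (Subgroup.mul_mem _ ht0S ht1S) ht2S
    -- `a^3 t0 a⁻³ t0⁻¹ ∈ M`
    have hc3 : a ^ 3 * t0 * (a ^ 3)⁻¹ * t0⁻¹ ∈ M := by
      apply hs
      refine ⟨X.mul_mem (hXn.conj_mem t0 ht0X (a ^ 3)) (X.inv_mem ht0X), ?_⟩
      show a ^ 3 * t0 * (a ^ 3)⁻¹ * t0⁻¹ ∈ Subgroup.centralizer (M : Set G)
      rw [Subgroup.mem_centralizer_iff]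
      intro u hu
      have hw : t0⁻¹ * u * t0⁻¹⁻¹ ∈ M := hMn.conj_mem u hu t0⁻¹
      have hcw := hcube _ hw
      have hcu := hcube u hu
      have hcw' : (a ^ 3)⁻¹ * (t0⁻¹ * u * t0⁻¹⁻¹) * a ^ 3 = t0⁻¹ * u * t0⁻¹⁻¹ := by
        conv_lhs => rw [← hcw]
        group
      have e : (a ^ 3 * t0 * (a ^ 3)⁻¹ * t0⁻¹) * u * (a ^ 3 * t0 * (a ^ 3)⁻¹ * t0⁻¹)⁻¹ = u := by
        have e1 : (a ^ 3 * t0 * (a ^ 3)⁻¹ * t0⁻¹) * u * (a ^ 3 * t0 * (a ^ 3)⁻¹ * t0⁻¹)⁻¹ =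
            a ^ 3 * t0 * ((a ^ 3)⁻¹ * (t0⁻¹ * u * t0⁻¹⁻¹) * a ^ 3) * t0⁻¹ * (a ^ 3)⁻¹ := by group
        rw [e1, hcw']
        have e2 : a ^ 3 * t0 * (t0⁻¹ * u * t0⁻¹⁻¹) * t0⁻¹ * (a ^ 3)⁻¹ = a ^ 3 * u * (a ^ 3)⁻¹ := by
          group
        rw [e2, hcu]
      calc u * (a ^ 3 * t0 * (a ^ 3)⁻¹ * t0⁻¹)
          = ((a ^ 3 * t0 * (a ^ 3)⁻¹ * t0⁻¹) * u * (a ^ 3 * t0 * (a ^ 3)⁻¹ * t0⁻¹)⁻¹) *
              (a ^ 3 * t0 * (a ^ 3)⁻¹ * t0⁻¹) := by rw [e]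
        _ = (a ^ 3 * t0 * (a ^ 3)⁻¹ * t0⁻¹) * u := by group
    -- work modulo `M`
    have hay : a * (t0 * (a * t0 * a⁻¹) * (a ^ 2 * t0 * (a ^ 2)⁻¹)) * a⁻¹ *
        (t0 * (a * t0 * a⁻¹) * (a ^ 2 * t0 * (a ^ 2)⁻¹))⁻¹ ∈ M := by
      have := hMn
      rw [← QuotientGroup.eq_one_iff]
      set π := (QuotientGroup.mk : G → G ⧸ M) with hπ
      have hπmul : ∀ g h : G, π (g * h) = π g * π h := fun g h => QuotientGroup.mk_mul _ g h
      have hπinv : ∀ g : G, π g⁻¹ = (π g)⁻¹ := fun g => QuotientGroup.mk_inv _ g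
      have hπcomm : ∀ g₁ ∈ Up X M, ∀ g₂ ∈ X, π g₁ * π g₂ = π g₂ * π g₁ := by
        intro g₁ h₁ g₂ h₂
        have h1 : π (g₁ * g₂ * g₁⁻¹ * g₂⁻¹) = 1 :=
          (QuotientGroup.eq_one_iff _).mpr (((mem_Up hMn).mp h₁).2.1 g₂ h₂)
        rw [hπmul, hπmul, hπmul, hπinv, hπinv] at h1
        calc π g₁ * π g₂ = (π g₁ * π g₂ * (π g₁)⁻¹ * (π g₂)⁻¹) * (π g₂ * π g₁) := by group
          _ = π g₂ * π g₁ := by rw [h1, one_mul]
      have h3 : π (a ^ 3 * t0 * (a ^ 3)⁻¹) = π t0 := by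
        have h1 : π (a ^ 3 * t0 * (a ^ 3)⁻¹ * t0⁻¹) = 1 := (QuotientGroup.eq_one_iff _).mpr hc3
        rw [hπmul, hπinv] at h1
        calc π (a ^ 3 * t0 * (a ^ 3)⁻¹) = π (a ^ 3 * t0 * (a ^ 3)⁻¹) * (π t0)⁻¹ * π t0 := by group
          _ = π t0 := by rw [h1, one_mul]
      have econj : a * (t0 * (a * t0 * a⁻¹) * (a ^ 2 * t0 * (a ^ 2)⁻¹)) * a⁻¹ =
          (a * t0 * a⁻¹) * (a ^ 2 * t0 * (a ^ 2)⁻¹) * (a ^ 3 * t0 * (a ^ 3)⁻¹) := by group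
      rw [hπmul, hπinv, econj, hπmul, hπmul, h3, hπmul, hπmul]
      have c01 := hπcomm t0 ht0U _ ht1X
      have c02 := hπcomm t0 ht0U _ ht2X
      calc π (a * t0 * a⁻¹) * π (a ^ 2 * t0 * (a ^ 2)⁻¹) * π t0 *
            (π t0 * π (a * t0 * a⁻¹) * π (a ^ 2 * t0 * (a ^ 2)⁻¹))⁻¹
          = π (a * t0 * a⁻¹) * (π (a ^ 2 * t0 * (a ^ 2)⁻¹) * π t0) *
            (π t0 * π (a * t0 * a⁻¹) * π (a ^ 2 * t0 * (a ^ 2)⁻¹))⁻¹ := by group
        _ = π (a * t0 * a⁻¹) * (π t0 * π (a ^ 2 * t0 * (a ^ 2)⁻¹)) *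
            (π t0 * π (a * t0 * a⁻¹) * π (a ^ 2 * t0 * (a ^ 2)⁻¹))⁻¹ := by rw [c02]
        _ = (π (a * t0 * a⁻¹) * π t0) * π (a ^ 2 * t0 * (a ^ 2)⁻¹) *
            (π t0 * π (a * t0 * a⁻¹) * π (a ^ 2 * t0 * (a ^ 2)⁻¹))⁻¹ := by group
        _ = (π t0 * π (a * t0 * a⁻¹)) * π (a ^ 2 * t0 * (a ^ 2)⁻¹) *
            (π t0 * π (a * t0 * a⁻¹) * π (a ^ 2 * t0 * (a ^ 2)⁻¹))⁻¹ := by rw [c01]
        _ = 1 := by group
    have hyM : t0 * (a * t0 * a⁻¹) * (a ^ 2 * t0 * (a ^ 2)⁻¹) ∈ M := by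
      by_contra hyM
      exact hcase _ hyU hyM hyS hay
    refine ⟨t0, ht0U, ht0M, ht0S, ?_⟩
    have hx0 : ∀ u ∈ Sq M, u * t0 * u⁻¹ * t0⁻¹ = 1 := by
      intro u hu
      have := (Subgroup.mem_centralizer_iff.mp ht0S) u hu
      rw [this]; group
    have htr : ∀ u ∈ M, (u * t0 * u⁻¹ * t0⁻¹) *
        (u * (a * t0 * a⁻¹) * u⁻¹ * (a * t0 * a⁻¹)⁻¹) *
        (u * (a ^ 2 * t0 * (a ^ 2)⁻¹) * u⁻¹ * (a ^ 2 * t0 * (a ^ 2)⁻¹)⁻¹) = 1 := by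
      intro u hu
      have hyu := commM u hu _ hyM
      have hk1 : u * (a * t0 * a⁻¹) * u⁻¹ * (a * t0 * a⁻¹)⁻¹ ∈ V := hFV _ ht1U ht1S u hu
      have hk2 : u * (a ^ 2 * t0 * (a ^ 2)⁻¹) * u⁻¹ * (a ^ 2 * t0 * (a ^ 2)⁻¹)⁻¹ ∈ V :=
        hFV _ ht2U ht2S u hu
      have c1 := cV t0 ht0X _ hk1
      have c2 := cV (t0 * (a * t0 * a⁻¹)) (X.mul_mem ht0X ht1X) _ hk2
      have e0 : u * (t0 * (a * t0 * a⁻¹) * (a ^ 2 * t0 * (a ^ 2)⁻¹)) * u⁻¹ *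
          (t0 * (a * t0 * a⁻¹) * (a ^ 2 * t0 * (a ^ 2)⁻¹))⁻¹ = 1 := by
        rw [hyu]; group
      have e1 : u * (t0 * (a * t0 * a⁻¹) * (a ^ 2 * t0 * (a ^ 2)⁻¹)) * u⁻¹ *
          (t0 * (a * t0 * a⁻¹) * (a ^ 2 * t0 * (a ^ 2)⁻¹))⁻¹ =
          (u * t0 * u⁻¹ * t0⁻¹) *
          (t0 * (u * (a * t0 * a⁻¹) * u⁻¹ * (a * t0 * a⁻¹)⁻¹) * t0⁻¹) *
          ((t0 * (a * t0 * a⁻¹)) *
            (u * (a ^ 2 * t0 * (a ^ 2)⁻¹) * u⁻¹ * (a ^ 2 * t0 * (a ^ 2)⁻¹)⁻¹) *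
            (t0 * (a * t0 * a⁻¹))⁻¹) := by group
      rw [e1, c1, c2] at e0
      rw [← e0]; group
    have hth := theta_lemma (U := M) (U0 := Sq M) (x := t0) hA hV.sq hVc hSM hidx hMc
      (fun u hu => hMn.conj_mem u hu a) (fun u hu => hSn.conj_mem u hu a) hfpf
      (hFV t0 ht0U ht0S) hx0 (hhomF t0 ht0U ht0S) htr
    rcases hth with h1 | h2
    · exact absurd (hCM t0 ht0X h1) ht0M
    · exact h2

end Cfsg.Agent.Helper17.NG
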