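import Mathlib
import Cfsg.Agent.Lib.NG.NGDefs
import Cfsg.Agent.Lib.NG.NGR2TRIV
import Cfsg.Agent.Lib.NG.NGR2TR
import Cfsg.Agent.Lib.NG.NGR2THETA
import Cfsg.Agent.Lib.NG.NGR2AB
import Cfsg.Agent.Lib.NG.NGOMSQ
import Cfsg.Agent.Lib.NG.NGIDX2

/-! S1904 piece NG-R2M2A (helper17 design; see plans/S1904_plan.md).  STUB: overwrite this file,
keeping the statement(s), namespace and imports (you may ADD imports of non-NG library files).
Aux lemmas: fresh names `ng_r2m2a_...`. -/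

set_option autoImplicit false

namespace Cfsg.Agent.Helper17.NG

variable {G : Type*} [Group G]

/-- exponent-4 case, part A.  `M` maximal normal abelian, self-centralising, `Sq M = V`.
`card M = 16` (`card_Om_mul_card_Sq`, `Om M = V`).  By `r2_triv_mod_sq`, `k_x(u) := u x u⁻¹ x⁻¹ ∈ V` for
`x ∈ X`, `u ∈ M`; `k_x : M → V` is a homomorphism killing `V`; `x ↦ k_x` is a homomorphism with kernel
`X ⊓ C(M) = M`.  `r2_trace` (`U = M`) and `theta_lemma` (`U0 = V`, `hfpf` from `r2_abelian_facts`): for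
`x ∈ X \ M`, `k_x(u) = 1` implies `u ∈ V`.  Fix `u ∈ M \ V`: `x M ↦ k_x(u)` is then an injective
homomorphism `X/M → V`, so `M.relIndex X ≤ 4`.  `X ≠ M` (nonabelian), and index 2 is impossible
(`eq_of_relIndex_le_two`). -/
theorem r2_m2_index [Finite G] {X H V M : Subgroup G} {a : G} (C : Ctx X H) (hV : IsV X V)
    (hA : IsA H V a) (hM : IsMaxAb X M) (hs : X ⊓ Subgroup.centralizer (M : Set G) ≤ M)
    (hSq : Sq M = V) : M.relIndex X = 4 ∧ (∀ x ∈ X, ∀ u ∈ M, u * x * u⁻¹ * x⁻¹ ∈ V) := by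
  classical
  haveI hXn : X.Normal := C.normal
  haveI hMn : M.Normal := hM.normal
  haveI hVn : V.Normal := hV.normal
  have hMc := hM.comm
  have hMX := hM.le
  -- `V ≤ M`, `Om M = V`
  have hVM : V ≤ M := by rw [← hSq]; exact Sq_le M
  have hXN : X ≤ Subgroup.normalizer (M : Set G) := by
    rw [Subgroup.normalizer_eq_top]; exact le_top
  have hOm : Om M = V := by
    apply le_antisymm
    · intro b hb
      rw [mem_Om hMc] at hb
      exact hV.inv M hMX hXN hMc b hb.1 hb.2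
    · intro v hv
      rw [mem_Om hMc]
      exact ⟨hVM hv, hV.sq v hv⟩
  have h4 : Nat.card ↥(Om M) = 4 := by rw [hOm]; exact hV.card
  have hcardM : Nat.card ↥M = 16 := by
    have h1 := card_Om_mul_card_Sq hMc
    rw [hOm, hSq, hV.card] at h1
    omega
  -- commutators with `M` lie in `V`
  have hk : ∀ x ∈ X, ∀ u ∈ M, u * x * u⁻¹ * x⁻¹ ∈ V := by
    have h1 := r2_triv_mod_sq C hMn hMX hMc h4
    rw [hSq] at h1
    exact h1
  refine ⟨?_, hk⟩
  -- `V` is central in `X`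
  have hVcen : ∀ v ∈ V, ∀ x ∈ X, x * v = v * x := by
    intro v hv x hx
    have h1 := hV.central hx
    rw [Subgroup.mem_centralizer_iff] at h1
    exact (h1 v hv).symm
  have hconjV : ∀ v ∈ V, ∀ x ∈ X, x * v * x⁻¹ = v := by
    intro v hv x hx
    rw [hVcen v hv x hx, mul_inv_cancel_right]
  have hMab : ∀ u ∈ M, ∀ u' ∈ M, u * u' = u' * u := by
    intro u hu u' hu'
    exact congrArg Subtype.val (hMc.is_comm.comm (⟨u, hu⟩ : ↥M) ⟨u', hu'⟩)
  have hVc : IsMulCommutative ↥V :=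
    ⟨⟨fun v w => Subtype.ext (hVcen w.1 w.2 v.1 (hV.le v.2))⟩⟩
  -- `k_x` is a homomorphism in `u`
  have hhom : ∀ x ∈ X, ∀ u ∈ M, ∀ u' ∈ M, (u * u') * x * (u * u')⁻¹ * x⁻¹ =
      (u * x * u⁻¹ * x⁻¹) * (u' * x * u'⁻¹ * x⁻¹) := by
    intro x hx u hu u' hu'
    have e1 : (u * u') * x * (u * u')⁻¹ * x⁻¹ =
        (u * (u' * x * u'⁻¹ * x⁻¹) * u⁻¹) * (u * x * u⁻¹ * x⁻¹) := by group
    rw [e1, hconjV _ (hk x hx u' hu') u (hMX hu)]
    exact (hVcen _ (hk x hx u' hu') _ (hV.le (hk x hx u hu))).symm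
  -- `k_x` kills `V`
  have hx0 : ∀ x ∈ X, ∀ u ∈ V, u * x * u⁻¹ * x⁻¹ = 1 := by
    intro x hx u hu
    rw [← hVcen u hu x hx, mul_assoc x, mul_inv_cancel, mul_one, mul_inv_cancel]
  -- `k` is a homomorphism in `x`
  have hmulx : ∀ x ∈ X, ∀ y ∈ X, ∀ u ∈ M, u * (x * y) * u⁻¹ * (x * y)⁻¹ =
      (u * x * u⁻¹ * x⁻¹) * (u * y * u⁻¹ * y⁻¹) := by
    intro x hx y hy u hu
    have e1 : u * (x * y) * u⁻¹ * (x * y)⁻¹ =
        (u * x * u⁻¹ * x⁻¹) * (x * (u * y * u⁻¹ * y⁻¹) * x⁻¹) := by group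
    rw [e1, hconjV _ (hk y hy u hu) x hx]
  -- index of `V` in `M`
  have hidx : V.relIndex M = 4 := by
    have h1 := Subgroup.relIndex_mul_relIndex ⊥ V M bot_le hVM
    rw [Subgroup.relIndex_bot_left, Subgroup.relIndex_bot_left, hV.card, hcardM] at h1
    omega
  obtain ⟨-, -, hfpf3⟩ := r2_abelian_facts C hV hA hMn hMX hMc
  have hfpf : ∀ u ∈ M, a * u * a⁻¹ * u⁻¹ ∈ V → u ∈ V := hfpf3 V hVn hVM hidx
  have htrace := r2_trace C hV hA hMn hMX hMc
    (fun u hu => by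
      rw [← hSq, mem_Sq hMc]
      exact ⟨u, hu, rfl⟩) hk
  -- the key alternative
  have halt : ∀ x ∈ X, x ∉ M → ∀ u ∈ M, u * x * u⁻¹ * x⁻¹ = 1 → u ∈ V := by
    intro x hx hxM
    have hx1 : a * x * a⁻¹ ∈ X := hXn.conj_mem x hx a
    have hx2 : a ^ 2 * x * (a ^ 2)⁻¹ ∈ X := hXn.conj_mem x hx (a ^ 2)
    have htr : ∀ u ∈ M, (u * x * u⁻¹ * x⁻¹) * (u * (a * x * a⁻¹) * u⁻¹ * (a * x * a⁻¹)⁻¹) *
        (u * (a ^ 2 * x * (a ^ 2)⁻¹) * u⁻¹ * (a ^ 2 * x * (a ^ 2)⁻¹)⁻¹) = 1 := by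
      intro u hu
      rw [← hmulx x hx _ hx1 u hu, ← hmulx _ (X.mul_mem hx hx1) _ hx2 u hu]
      have h1 := htrace x hx
      rw [Subgroup.mem_centralizer_iff] at h1
      have h2 := h1 u hu
      rw [h2, mul_inv_cancel_right, mul_inv_cancel]
    rcases theta_lemma (U := M) (U0 := V) (x := x) hA hV.sq hVc hVM hidx hMc
      (fun u hu => hMn.conj_mem u hu a) (fun u hu => hVn.conj_mem u hu a) hfpf
      (hk x hx) (hx0 x hx) (hhom x hx) htr with h1 | h1
    · exfalso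
      apply hxM
      apply hs
      refine Subgroup.mem_inf.mpr ⟨hx, ?_⟩
      rw [Subgroup.mem_centralizer_iff]
      intro u hu
      have h2 := h1 u hu
      have h3 : u * x = (u * x * u⁻¹ * x⁻¹) * (x * u) := by group
      rw [h3, h2, one_mul]
    · exact h1
  -- an element of `M` outside `V`
  obtain ⟨u0, hu0, hu0V⟩ : ∃ u ∈ M, u ∉ V := by
    by_contra hcon
    push Not at hcon
    have h1 : M ≤ V := hcon
    have h2 := Subgroup.card_le_of_le h1
    rw [hcardM, hV.card] at h2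
    omega
  -- the homomorphism `X → V`
  let φ : ↥X →* ↥V := MonoidHom.mk'
    (fun x => ⟨u0 * (x : G) * u0⁻¹ * (x : G)⁻¹, hk x x.2 u0 hu0⟩)
    (by
      intro x y
      apply Subtype.ext
      show u0 * ((x * y : ↥X) : G) * u0⁻¹ * ((x * y : ↥X) : G)⁻¹ = _
      rw [Subgroup.coe_mul, hmulx x x.2 y y.2 u0 hu0]
      rfl)
  have hker : φ.ker = M.subgroupOf X := by
    ext x
    rw [MonoidHom.mem_ker, Subgroup.mem_subgroupOf]
    constructor
    · intro h1
      by_contra hxM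
      apply hu0V
      apply halt x x.2 hxM u0 hu0
      exact congrArg Subtype.val h1
    · intro h1
      apply Subtype.ext
      show u0 * (x : G) * u0⁻¹ * (x : G)⁻¹ = 1
      rw [hMab u0 hu0 x h1, mul_assoc (x : G), mul_inv_cancel, mul_one, mul_inv_cancel]
  have hdvd : M.relIndex X ∣ 4 := by
    rw [Subgroup.relIndex, ← hker, Subgroup.index_ker, ← hV.card]
    exact Subgroup.card_subgroup_dvd_card _
  have hle : M.relIndex X ≤ 4 := Nat.le_of_dvd (by norm_num) hdvd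
  have hne : ¬ M.relIndex X ≤ 2 := by
    intro h2
    have h3 := eq_of_relIndex_le_two C hMn hMX h2
    apply C.nonab
    rw [← h3]
    exact hMc
  have h3 : M.relIndex X ≠ 3 := by
    intro h3
    rw [h3] at hdvd
    norm_num at hdvd
  omega

end Cfsg.Agent.Helper17.NG
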