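import Mathlib
import Cfsg.Agent.Lib.NG.NGDefs
import Cfsg.Agent.Lib.NG.NGR2AB
import Cfsg.Agent.Lib.NG.NGR2VIA
import Cfsg.Agent.Lib.NG.NGFIXQ
import Cfsg.Agent.Lib.NG.NGR2IRR
import Cfsg.Agent.Lib.NG.NGOMSQ
import Cfsg.Agent.Lib.NG.NGR2TR

/-! S1904 piece NG-R2M2B (helper17 design; see plans/S1904_plan.md).  STUB: overwrite this file,
keeping the statement(s), namespace and imports (you may ADD imports of non-NG library files).
Aux lemmas: fresh names `ng_r2m2b_...`. -/

set_option autoImplicit false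

namespace Cfsg.Agent.Helper17.NG

variable {G : Type*} [Group G]

private theorem ng_r2m2b_card_mul {H K : Subgroup G} (h : H ≤ K) :
    Nat.card ↥H * H.relIndex K = Nat.card ↥K := by
  have h1 := (H.subgroupOf K).card_mul_index
  rw [Nat.card_congr (Subgroup.subgroupOfEquivOfLe h).toEquiv] at h1
  exact h1

/-- `X / M` of order `4` is abelian -/
private theorem ng_r2m2b_comm_mem {X M : Subgroup G} (hMn : M.Normal) (hidx : M.relIndex X = 4) :
    ∀ x ∈ X, ∀ y ∈ X, x * y * x⁻¹ * y⁻¹ ∈ M := by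
  intro x hx y hy
  have hn : (M.subgroupOf X).Normal := Subgroup.normal_subgroupOf
  have hp : Fact (Nat.Prime 2) := ⟨Nat.prime_two⟩
  have hcard : Nat.card (↥X ⧸ M.subgroupOf X) = 2 ^ 2 := by
    rw [← Subgroup.index_eq_card]; exact hidx
  have hc := IsPGroup.isMulCommutative_of_card_eq_prime_sq hcard
  have h1 := hc.is_comm.comm (QuotientGroup.mk (⟨x, hx⟩ : ↥X)) (QuotientGroup.mk (⟨y, hy⟩ : ↥X))
  have h2 : (QuotientGroup.mk ((⟨x, hx⟩ : ↥X) * ⟨y, hy⟩ * (⟨x, hx⟩ : ↥X)⁻¹ * (⟨y, hy⟩ : ↥X)⁻¹) :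
      ↥X ⧸ M.subgroupOf X) = 1 := by
    rw [QuotientGroup.mk_mul, QuotientGroup.mk_mul, QuotientGroup.mk_mul, QuotientGroup.mk_inv,
      QuotientGroup.mk_inv, h1]
    group
  rw [QuotientGroup.eq_one_iff, Subgroup.mem_subgroupOf] at h2
  simpa using h2

/-- two elements outside a subgroup of relative index `2` have their quotient inside -/
private theorem ng_r2m2b_idx_two {H K : Subgroup G} (h2 : H.relIndex K = 2) {d₁ d₂ : G}
    (h₁K : d₁ ∈ K) (h₁H : d₁ ∉ H) (h₂K : d₂ ∈ K) (h₂H : d₂ ∉ H) : d₁ * d₂⁻¹ ∈ H := by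
  obtain ⟨a₀, _, _, hall⟩ := Subgroup.relIndex_eq_two_iff_exists_notMem_and.mp h2
  have e1 := (hall d₁ h₁K).resolve_right h₁H
  have e2 := (hall d₂ h₂K).resolve_right h₂H
  have : d₁ * d₂⁻¹ = (d₁ * a₀) * (d₂ * a₀)⁻¹ := by group
  rw [this]
  exact H.mul_mem e1 (H.inv_mem e2)

/-- a divisor of `4` -/
private theorem ng_r2m2b_dvd_four {r s : ℕ} (h : r * s = 4) : r = 1 ∨ r = 2 ∨ r = 4 := by
  have hd : r ∣ 4 := Dvd.intro s h
  have hle : r ≤ 4 := Nat.le_of_dvd (by norm_num) hd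
  interval_cases r <;> simp_all

theorem r2_m2_c64 [Finite G] {X H V M : Subgroup G} {a : G} (C : Ctx X H) (hV : IsV X V)
    (hA : IsA H V a) (hM : IsMaxAb X M) (hs : X ⊓ Subgroup.centralizer (M : Set G) ≤ M)
    (hSq : Sq M = V) (hidx : M.relIndex X = 4)
    (hk : ∀ x ∈ X, ∀ u ∈ M, u * x * u⁻¹ * x⁻¹ ∈ V) : C64 X V := by
  have hXn : X.Normal := C.normal
  have hMn : M.Normal := hM.normal
  have hMX : M ≤ X := hM.le
  have hMc : IsMulCommutative ↥M := hM.comm
  have hVn : V.Normal := hV.normal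
  have hVX : V ≤ X := hV.le
  -- `V` is central in `X`
  have hVc : ∀ g ∈ X, ∀ v ∈ V, g * v = v * g := fun g hg v hv =>
    ((Subgroup.mem_centralizer_iff.mp (hV.central hg)) v hv).symm
  have hMcomm : ∀ m ∈ M, ∀ m' ∈ M, m * m' = m' * m := fun m hm m' hm' =>
    congrArg Subtype.val (hMc.is_comm.comm (⟨m, hm⟩ : ↥M) ⟨m', hm'⟩)
  have hMCM : M ≤ Subgroup.centralizer (M : Set G) := by
    intro m hm
    rw [Subgroup.mem_centralizer_iff]
    intro m' hm'
    exact hMcomm m' hm' m hm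
  -- squares of `M`, involutions of `M`
  have hUsq : ∀ u ∈ M, u ^ 2 ∈ V := by
    intro u hu
    rw [← hSq]
    exact Subgroup.subset_closure ⟨u, hu, rfl⟩
  have hVM : V ≤ M := by rw [← hSq]; exact Sq_le M
  have hMnorm : X ≤ Subgroup.normalizer (M : Set G) := by
    rw [Subgroup.normalizer_eq_top]; exact le_top
  have hOmV : Om M = V := by
    apply le_antisymm
    · intro b hb
      rw [mem_Om hMc] at hb
      exact hV.inv M hMX hMnorm hMc b hb.1 hb.2
    · intro v hv
      rw [mem_Om hMc]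
      exact ⟨hVM hv, hV.sq v hv⟩
  have hM16 : Nat.card ↥M = 16 := by
    have h1 := card_Om_mul_card_Sq hMc
    rw [hOmV, hSq, hV.card] at h1
    omega
  have hVM4 : V.relIndex M = 4 := by
    have h1 := ng_r2m2b_card_mul hVM
    rw [hV.card, hM16] at h1
    omega
  have hX64 : Nat.card ↥X = 64 := by
    have h1 := ng_r2m2b_card_mul hMX
    rw [hM16, hidx] at h1
    omega
  -- the facts on `a` acting on `M`
  have facts := r2_abelian_facts C hV hA hMn hMX hMc
  have f3V : ∀ b ∈ M, a * b * a⁻¹ * b⁻¹ ∈ V → b ∈ V := facts.2.2 V hVn hVM hVM4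
  -- `X / M` is abelian
  have hAM : ∀ x ∈ X, ∀ y ∈ X, x * y * x⁻¹ * y⁻¹ ∈ M := ng_r2m2b_comm_mem hMn hidx
  have hXXM : ⁅X, X⁆ ≤ M := by
    rw [Subgroup.commutator_le]
    intro g₁ h₁ g₂ h₂
    rw [commutatorElement_def]
    exact hAM g₁ h₁ g₂ h₂
  have hCMn : (Subgroup.centralizer (M : Set G)).Normal := by
    have := hMn
    exact Subgroup.normal_centralizer
  have hNn : (X ⊓ Subgroup.centralizer (M : Set G)).Normal := by
    have := hXn
    have := hCMn
    exact Subgroup.normal_inf_normal _ _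
  -- `a` is fixed point free on `X / M`
  have f4M : ∀ x ∈ X, a * x * a⁻¹ * x⁻¹ ∈ M → x ∈ M := by
    intro x hx hax
    have hvia := r2_via C hV hA hMn hMX hMc hUsq hx (hk x hx) (hMCM hax)
    have hfix : ∀ h ∈ H, h * x * h⁻¹ * x⁻¹ ∈ X ⊓ Subgroup.centralizer (M : Set G) := fun h hh =>
      ⟨X.mul_mem (hXn.conj_mem x hx h) (X.inv_mem hx), hvia h hh⟩
    exact hs (fix_quot C hNn inf_le_left (hXXM.trans (le_inf hMX hMCM)) hx hfix)
  -- the trace lies in `M`
  have htr : ∀ x ∈ X, x * (a * x * a⁻¹) * (a ^ 2 * x * (a ^ 2)⁻¹) ∈ M := by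
    intro x hx
    refine hs ⟨?_, r2_trace C hV hA hMn hMX hMc hUsq hk x hx⟩
    exact X.mul_mem (X.mul_mem hx (hXn.conj_mem x hx a)) (hXn.conj_mem x hx (a ^ 2))
  -- conjugation by `X` moves `M` by `V`
  have conjV : ∀ g ∈ X, ∀ m ∈ M, g * m * g⁻¹ * m⁻¹ ∈ V := by
    intro g hg m hm
    have h := V.inv_mem (hk g hg m hm)
    have e : (m * g * m⁻¹ * g⁻¹)⁻¹ = g * m * g⁻¹ * m⁻¹ := by group
    rwa [e] at h
  -- Step a: `x` and `a x a⁻¹` commute modulo `V`
  have stepa : ∀ x ∈ X, x * (a * x * a⁻¹) * x⁻¹ * (a * x * a⁻¹)⁻¹ ∈ V := by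
    intro x hx
    have hy : a * x * a⁻¹ ∈ X := hXn.conj_mem x hx a
    have hkM : x * (a * x * a⁻¹) * x⁻¹ * (a * x * a⁻¹)⁻¹ ∈ M := hAM x hx _ hy
    apply f3V _ hkM
    have ht := htr x hx
    -- `v₁`
    have hv₁ : (x * (a * x * a⁻¹) * (a ^ 2 * x * (a ^ 2)⁻¹)) * (a * x * a⁻¹)⁻¹ *
        (x * (a * x * a⁻¹) * (a ^ 2 * x * (a ^ 2)⁻¹))⁻¹ * ((a * x * a⁻¹)⁻¹)⁻¹ ∈ V :=
      hk _ (X.inv_mem hy) _ ht
    -- `v₂`
    have hg : ((a * x * a⁻¹) * x)⁻¹ ∈ X := X.inv_mem (X.mul_mem hy hx)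
    have hv₂ := conjV _ hg _ hkM
    set v₁ := (x * (a * x * a⁻¹) * (a ^ 2 * x * (a ^ 2)⁻¹)) * (a * x * a⁻¹)⁻¹ *
        (x * (a * x * a⁻¹) * (a ^ 2 * x * (a ^ 2)⁻¹))⁻¹ * ((a * x * a⁻¹)⁻¹)⁻¹ with hv₁def
    set v₂ := ((a * x * a⁻¹) * x)⁻¹ * (x * (a * x * a⁻¹) * x⁻¹ * (a * x * a⁻¹)⁻¹) *
        (((a * x * a⁻¹) * x)⁻¹)⁻¹ * (x * (a * x * a⁻¹) * x⁻¹ * (a * x * a⁻¹)⁻¹)⁻¹ with hv₂def
    have e1 : a * (x * (a * x * a⁻¹) * x⁻¹ * (a * x * a⁻¹)⁻¹) * a⁻¹ *
        (x * (a * x * a⁻¹) * x⁻¹ * (a * x * a⁻¹)⁻¹)⁻¹ = x⁻¹ * v₁ * (x * v₂) := by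
      rw [hv₁def, hv₂def]; group
    rw [e1, hVc x⁻¹ (X.inv_mem hx) v₁ hv₁]
    have e2 : v₁ * x⁻¹ * (x * v₂) = v₁ * v₂ := by group
    rw [e2]
    exact V.mul_mem hv₁ hv₂
  -- Step b: `X / V` is abelian
  have stepb : ∀ x ∈ X, ∀ y ∈ X, x * y * x⁻¹ * y⁻¹ ∈ V := by
    intro x hx y hy
    by_cases hxM : x ∈ M
    · exact hk y hy x hxM
    · -- the centraliser of `x` modulo `V`
      let D : Subgroup G :=
        { carrier := {y | y ∈ X ∧ x * y * x⁻¹ * y⁻¹ ∈ V}
          one_mem' := ⟨X.one_mem, by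
            have : x * 1 * x⁻¹ * (1 : G)⁻¹ = 1 := by group
            rw [this]; exact V.one_mem⟩
          mul_mem' := by
            rintro y₁ y₂ ⟨h₁X, h₁⟩ ⟨h₂X, h₂⟩
            refine ⟨X.mul_mem h₁X h₂X, ?_⟩
            have e : x * (y₁ * y₂) * x⁻¹ * (y₁ * y₂)⁻¹ =
                (x * y₁ * x⁻¹ * y₁⁻¹) * (y₁ * (x * y₂ * x⁻¹ * y₂⁻¹) * y₁⁻¹) := by group
            rw [e]
            exact V.mul_mem h₁ (hVn.conj_mem _ h₂ y₁)
          inv_mem' := by
            rintro y₁ ⟨h₁X, h₁⟩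
            refine ⟨X.inv_mem h₁X, ?_⟩
            have e : x * y₁⁻¹ * x⁻¹ * (y₁⁻¹)⁻¹ = y₁⁻¹ * (x * y₁ * x⁻¹ * y₁⁻¹)⁻¹ * y₁⁻¹⁻¹ := by group
            rw [e]
            exact hVn.conj_mem _ (V.inv_mem h₁) y₁⁻¹ }
      have hDmem : ∀ y, y ∈ D ↔ y ∈ X ∧ x * y * x⁻¹ * y⁻¹ ∈ V := fun y => Iff.rfl
      have hMD : M ≤ D := fun m hm => (hDmem m).mpr ⟨hMX hm, conjV x hx m hm⟩
      have hDX : D ≤ X := fun y hy => ((hDmem y).mp hy).1
      have hxD : x ∈ D := (hDmem x).mpr ⟨hx, by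
        have : x * x * x⁻¹ * x⁻¹ = 1 := by group
        rw [this]; exact V.one_mem⟩
      have hxaX : a * x * a⁻¹ ∈ X := hXn.conj_mem x hx a
      have hxaD : a * x * a⁻¹ ∈ D := (hDmem _).mpr ⟨hxaX, stepa x hx⟩
      have hxaM : a * x * a⁻¹ ∉ M := by
        intro hcon
        apply hxM
        have := hMn.conj_mem _ hcon a⁻¹
        have e : a⁻¹ * (a * x * a⁻¹) * a⁻¹⁻¹ = x := by group
        rwa [e] at this
      have hmul := Subgroup.relIndex_mul_relIndex M D X hMD hDX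
      rw [hidx] at hmul
      rcases ng_r2m2b_dvd_four hmul with h1 | h2 | h4
      · exact absurd (Subgroup.relIndex_eq_one.mp h1 hxD) hxM
      · exfalso
        have := ng_r2m2b_idx_two h2 hxaD hxaM hxD hxM
        exact hxM (f4M x hx this)
      · rw [h4] at hmul
        have h1 : D.relIndex X = 1 := by omega
        exact ((hDmem y).mp (Subgroup.relIndex_eq_one.mp h1 hy)).2
  -- Step c: squares are central
  have stepc : ∀ x ∈ X, ∀ g ∈ X, g * x ^ 2 = x ^ 2 * g := by
    intro x hx g hg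
    have hv := stepb g hg x hx
    set v := g * x * g⁻¹ * x⁻¹ with hvdef
    have e : g * x = v * x * g := by rw [hvdef]; group
    have hvx : x * v = v * x := hVc x hx v hv
    have hv2 : v * v = 1 := by
      have := hV.sq v hv
      rwa [pow_two] at this
    calc g * x ^ 2 = (g * x) * x := by rw [pow_two]; group
      _ = (v * x * g) * x := by rw [e]
      _ = v * x * (g * x) := by group
      _ = v * x * (v * x * g) := by rw [e]
      _ = v * (x * v) * x * g := by group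
      _ = v * (v * x) * x * g := by rw [hvx]
      _ = (v * v) * (x * x) * g := by group
      _ = x ^ 2 * g := by rw [hv2, one_mul, pow_two]
  -- Step d: the centre
  have hZn : (ZS X).Normal := by
    have := hXn
    have h2 : (Subgroup.centralizer (X : Set G)).Normal := Subgroup.normal_centralizer
    exact Subgroup.normal_inf_normal _ _
  have hVZ : V ≤ ZS X := by
    intro v hv
    refine ⟨hVX hv, Subgroup.mem_centralizer_iff.mpr ?_⟩
    intro g hg
    exact hVc g hg v hv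
  have hZM : ZS X ≤ M := by
    intro n hn
    apply hs
    refine ⟨hn.1, ?_⟩
    exact Subgroup.centralizer_le (by exact_mod_cast hMX) hn.2
  have hZV : ZS X ≤ V := by
    have hmul := Subgroup.relIndex_mul_relIndex V (ZS X) M hVZ hZM
    rw [hVM4] at hmul
    rcases ng_r2m2b_dvd_four hmul with h1 | h2 | h4
    · exact Subgroup.relIndex_eq_one.mp h1
    · intro n hn
      by_contra hnV
      have hanZ : a * n * a⁻¹ ∈ ZS X := hZn.conj_mem n hn a
      have hanV : a * n * a⁻¹ ∉ V := by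
        intro hcon
        apply hnV
        have := hVn.conj_mem _ hcon a⁻¹
        have e : a⁻¹ * (a * n * a⁻¹) * a⁻¹⁻¹ = n := by group
        rwa [e] at this
      exact hnV (f3V n (hZM hn) (ng_r2m2b_idx_two h2 hanZ hanV hn hnV))
    · exfalso
      rw [h4] at hmul
      have h1 : (ZS X).relIndex M = 1 := by omega
      have hMZ : M ≤ ZS X := Subgroup.relIndex_eq_one.mp h1
      have hXM : X ≤ M := by
        intro x hx
        apply hs
        refine ⟨hx, Subgroup.mem_centralizer_iff.mpr ?_⟩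
        intro m hm
        have := (Subgroup.mem_centralizer_iff.mp (hMZ hm).2) x hx
        exact this.symm
      have : M.relIndex X = 1 := Subgroup.relIndex_eq_one.mpr hXM
      omega
  have hZeq : ZS X = V := le_antisymm hZV hVZ
  -- Step e: squares
  have hsq : ∀ x ∈ X, x ^ 2 ∈ V := by
    intro x hx
    rw [← hZeq]
    refine ⟨X.pow_mem hx 2, Subgroup.mem_centralizer_iff.mpr ?_⟩
    intro g hg
    exact stepc x hx g hg
  -- Step f: the commutator subgroup
  have hXXV : ⁅X, X⁆ ≤ V := by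
    rw [Subgroup.commutator_le]
    intro g₁ h₁ g₂ h₂
    rw [commutatorElement_def]
    exact stepb g₁ h₁ g₂ h₂
  have hXXn : (⁅X, X⁆).Normal := by
    have := hXn
    exact Subgroup.commutator_normal X X
  have hcomm : ⁅X, X⁆ = V := by
    rcases r2_sub_V hV.card hA hXXn hXXV with h0 | h1
    · exfalso
      apply C.nonab
      refine ⟨⟨fun x y => ?_⟩⟩
      have hmem := Subgroup.commutator_mem_commutator (H₁ := X) (H₂ := X) x.2 y.2
      rw [h0, Subgroup.mem_bot, commutatorElement_def] at hmem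
      have hxy : (x : G) * (y : G) * (x : G)⁻¹ * (y : G)⁻¹ = 1 := hmem
      apply Subtype.ext
      rw [Subgroup.coe_mul, Subgroup.coe_mul]
      calc (x : G) * (y : G)
          = ((x : G) * (y : G) * (x : G)⁻¹ * (y : G)⁻¹) * ((y : G) * (x : G)) := by group
        _ = (y : G) * (x : G) := by rw [hxy, one_mul]
    · exact h1
  -- Step g: involutions
  have hinv : ∀ x ∈ X, x ^ 2 = 1 → x ∈ V := by
    intro x hx hx2
    have hxx : x * x = 1 := by rwa [pow_two] at hx2
    have hxinv : x⁻¹ = x := inv_eq_of_mul_eq_one_right hxx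
    let B : Subgroup G :=
      { carrier := {g | g ∈ V ∨ g * x ∈ V}
        one_mem' := Or.inl V.one_mem
        mul_mem' := by
          rintro g₁ g₂ (h₁ | h₁) (h₂ | h₂)
          · exact Or.inl (V.mul_mem h₁ h₂)
          · right
            have : g₁ * g₂ * x = g₁ * (g₂ * x) := by group
            rw [this]; exact V.mul_mem h₁ h₂
          · right
            have e : g₁ * g₂ * x = g₁ * (g₂ * x) := by group
            rw [e, ← hVc x hx g₂ h₂]
            have : g₁ * (x * g₂) = (g₁ * x) * g₂ := by group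
            rw [this]; exact V.mul_mem h₁ h₂
          · left
            have hc := hVc x hx (g₂ * x) h₂
            have e : g₁ * g₂ = (g₁ * x) * (x * (g₂ * x) * x⁻¹) := by
              rw [hxinv]
              calc g₁ * g₂ = g₁ * (x * x) * g₂ * (x * x) := by rw [hxx]; group
                _ = g₁ * x * (x * (g₂ * x) * x) := by group
            rw [e, hc]
            have : g₁ * x * (g₂ * x * x * x⁻¹) = (g₁ * x) * (g₂ * x) := by group
            rw [this]; exact V.mul_mem h₁ h₂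
        inv_mem' := by
          rintro g (h | h)
          · exact Or.inl (V.inv_mem h)
          · right
            have hc := hVc x hx (g * x)⁻¹ (V.inv_mem h)
            have e : g⁻¹ * x = x * (g * x)⁻¹ * x := by group
            rw [e, hc]
            have : (g * x)⁻¹ * x * x = (g * x)⁻¹ := by rw [mul_assoc, hxx, mul_one]
            rw [this]; exact V.inv_mem h }
    have hBmem : ∀ g, g ∈ B ↔ g ∈ V ∨ g * x ∈ V := fun g => Iff.rfl
    have hBX : B ≤ X := by
      intro g hg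
      rcases (hBmem g).mp hg with h | h
      · exact hVX h
      · have : g = (g * x) * x⁻¹ := by group
        rw [this]; exact X.mul_mem (hVX h) (X.inv_mem hx)
    have hxB : x ∈ B := (hBmem x).mpr (Or.inr (by rw [hxx]; exact V.one_mem))
    have hconj : ∀ g ∈ X, ∀ b ∈ B, g * b * g⁻¹ ∈ B := by
      intro g hg b hb
      rcases (hBmem b).mp hb with h | h
      · exact (hBmem _).mpr (Or.inl (hVn.conj_mem b h g))
      · refine (hBmem _).mpr (Or.inr ?_)
        have hc' := stepb g⁻¹ (X.inv_mem hg) x hx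
        set c' := g⁻¹ * x * g⁻¹⁻¹ * x⁻¹ with hc'def
        have e : g * b * g⁻¹ * x = g * (b * (c' * x)) * g⁻¹ := by rw [hc'def]; group
        rw [e, ← mul_assoc b c' x]
        have hbc : b * c' = c' * b := by
          have hbX : b ∈ X := hBX hb
          exact hVc b hbX c' hc'
        rw [hbc, mul_assoc c' b x]
        exact hVn.conj_mem _ (V.mul_mem hc' h) g
    have hBnorm : X ≤ Subgroup.normalizer (B : Set G) := by
      intro g hg
      rw [Subgroup.mem_normalizer_iff]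
      intro b
      constructor
      · exact hconj g hg b
      · intro hb
        have := hconj g⁻¹ (X.inv_mem hg) _ hb
        have e : g⁻¹ * (g * b * g⁻¹) * g⁻¹⁻¹ = b := by group
        rwa [e] at this
    have hBc : IsMulCommutative ↥B := by
      refine ⟨⟨fun b₁ b₂ => ?_⟩⟩
      apply Subtype.ext
      rw [Subgroup.coe_mul, Subgroup.coe_mul]
      have key : ∀ b ∈ B, ∀ g ∈ B, (g ∈ V → b * g = g * b) := by
        intro b hb g _ hgV
        exact hVc b (hBX hb) g hgV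
      rcases (hBmem _).mp b₁.2 with h₁ | h₁
      · exact (key b₂ b₂.2 b₁ b₁.2 h₁).symm
      · rcases (hBmem _).mp b₂.2 with h₂ | h₂
        · exact key b₁ b₁.2 b₂ b₂.2 h₂
        · -- both in the coset `V x`
          have e₁ : (b₁ : G) = (b₁ * x) * x := by rw [mul_assoc, hxx, mul_one]
          have e₂ : (b₂ : G) = (b₂ * x) * x := by rw [mul_assoc, hxx, mul_one]
          have c₁ := hVc x hx _ h₁
          have c₂ := hVc x hx _ h₂
          have c₁₂ := hVc _ (hVX h₁) _ h₂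
          rw [e₁, e₂]
          calc ((b₁ : G) * x) * x * (((b₂ : G) * x) * x)
              = ((b₁ : G) * x) * (x * ((b₂ : G) * x)) * x := by group
            _ = ((b₁ : G) * x) * (((b₂ : G) * x) * x) * x := by rw [c₂]
            _ = (((b₁ : G) * x) * ((b₂ : G) * x)) * x * x := by group
            _ = (((b₂ : G) * x) * ((b₁ : G) * x)) * x * x := by rw [c₁₂]
            _ = ((b₂ : G) * x) * (((b₁ : G) * x) * x) * x := by group
            _ = ((b₂ : G) * x) * (x * ((b₁ : G) * x)) * x := by rw [c₁]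
            _ = ((b₂ : G) * x) * x * (((b₁ : G) * x) * x) := by group
    exact hV.inv B hBX hBnorm hBc x hxB hx2
  exact
    { sq := hsq
      comm := hcomm
      center := hZeq
      inv := hinv
      card := hX64 }

end Cfsg.Agent.Helper17.NG
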