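import Mathlib
import Cfsg.Agent.Lib.NG.NGDefs

/-! S1904 piece NG-SMALL (helper17 design; see plans/S1904_plan.md).  Proved by helper26. -/

set_option autoImplicit false

namespace Cfsg.Agent.Helper17.NG

variable {G : Type*} [Group G]

/-- small facts.  (1) a nonabelian finite 2-group has order `2^k`, `k ≥ 3` (orders 1, 2 are cyclic, order 4 is
abelian: `IsPGroup.commutative_of_card_eq_prime_sq`).  (2) `V ≤ X ≤ C(V)` so `V` is abelian.
(3) if `Sq M = ⊥` every `u ∈ M` is an involution, so `M ≤ V` (`hV.inv`), `M = V` (`V ≤ M` by maximality: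
`M ⊔ V` is normal abelian), then `X = X ⊓ C(V) ≤ M` is abelian: contradiction. -/
theorem eight_le_card [Finite G] {X : Subgroup G} (hX2 : IsPGroup 2 ↥X)
    (hna : ¬ IsMulCommutative ↥X) : ∃ k : ℕ, 3 ≤ k ∧ Nat.card ↥X = 2 ^ k := by
  haveI : Fact (Nat.Prime 2) := ⟨Nat.prime_two⟩
  obtain ⟨k, hk⟩ := (IsPGroup.iff_card (p := 2) (G := ↥X)).1 hX2
  refine ⟨k, ?_, hk⟩
  by_contra hlt
  apply hna
  have hk3 : k = 0 ∨ k = 1 ∨ k = 2 := by omega
  rcases hk3 with rfl | rfl | rfl
  · rw [pow_zero] at hk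
    haveI : Subsingleton ↥X := (Nat.card_eq_one_iff_unique.1 hk).1
    exact IsMulCommutative.of_comm (fun a b => by rw [Subsingleton.elim a b])
  · rw [pow_one] at hk
    haveI : IsCyclic ↥X := isCyclic_of_prime_card hk
    letI := IsCyclic.commGroup (α := ↥X)
    exact IsMulCommutative.of_comm (fun a b => mul_comm a b)
  · exact IsPGroup.isMulCommutative_of_card_eq_prime_sq hk

theorem isV_comm {X V : Subgroup G} (hV : IsV X V) : IsMulCommutative ↥V := by
  refine IsMulCommutative.of_comm (fun a b => Subtype.ext ?_)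
  have hb : (b : G) ∈ Subgroup.centralizer (V : Set G) := hV.central (hV.le b.2)
  exact (Subgroup.mem_centralizer_iff.1 hb (a : G) a.2)

theorem r2_sq_bot [Finite G] {X H V M : Subgroup G} (C : Ctx X H) (hV : IsV X V)
    (hM : IsMaxAb X M) (hs : X ⊓ Subgroup.centralizer (M : Set G) ≤ M) (h0 : Sq M = ⊥) :
    False := by
  have hsq : ∀ u ∈ M, u ^ 2 = 1 := by
    intro u hu
    have h1 : u ^ 2 ∈ Sq M := Subgroup.subset_closure ⟨u, hu, rfl⟩
    rw [h0] at h1
    exact Subgroup.mem_bot.1 h1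
  haveI hMn : M.Normal := hM.normal
  have hXM : X ≤ Subgroup.normalizer (M : Set G) := by
    rw [Subgroup.normalizer_eq_top]; exact le_top
  have hMV : M ≤ V := fun u hu => hV.inv M hM.le hXM hM.comm u hu (hsq u hu)
  have hVM : V = M := hM.max V hV.le hV.normal (isV_comm hV) hMV
  have hXle : X ≤ M := by
    refine le_trans ?_ hs
    refine le_inf le_rfl ?_
    rw [← hVM]
    exact hV.central
  apply C.nonab
  haveI := hM.comm
  refine IsMulCommutative.of_comm (fun a b => Subtype.ext ?_)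
  have h1 : (⟨(a : G), hXle a.2⟩ : ↥M) * ⟨(b : G), hXle b.2⟩
      = ⟨(b : G), hXle b.2⟩ * ⟨(a : G), hXle a.2⟩ := mul_comm' _ _
  have h2 := congrArg (Subtype.val : ↥M → G) h1
  exact h2

end Cfsg.Agent.Helper17.NG
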