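import Mathlib
import Cfsg.Agent.Lib.NG.NGDefs
import Cfsg.Agent.Lib.NG.NGR2IRR
import Cfsg.Agent.Lib.NG.NGUPEQ
import Cfsg.Agent.Lib.NG.NGUPMEM
import Cfsg.Agent.Lib.NG.NGANISO
import Cfsg.Agent.Lib.NG.NGECARD
import Cfsg.Agent.Lib.NG.NGECOMM
import Cfsg.Agent.Lib.NG.NGSMALL

/-! S1904 piece NG-R2VMAX (helper17 design; see plans/S1904_plan.md).  STUB: overwrite this file,
keeping the statement(s), namespace and imports (you may ADD imports of non-NG library files).
Aux lemmas: fresh names `ng_r2vmax_...`. -/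

set_option autoImplicit false

namespace Cfsg.Agent.Helper17.NG

open scoped commutatorElement

variable {G : Type*} [Group G]

/-- If `V` itself is maximal normal abelian: `ZS X = V` (normal abelian, contains `V`).  `W := Up X V`;
`W ⊓ C(W)` is normal abelian containing `V`, so `= V`; `up_eq_of_center_le` gives `W = X`: `Quad X V`
(`aniso` with `N = V`).  `⁅X,X⁆` is normal, `≠ ⊥`, `≤ V`: `= V` (`r2_sub_V`).
`card X ≤ 64` (`card_le_64`); `card X = 4 * 2^n`.  `a` acts on the set of nontrivial cosets of `V` in `X`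
without fixed point: if `a x a⁻¹ = x v` then `a x^2 a⁻¹ = (x v)^2 = x^2`, so `x^2 = 1` (`hA.fpf`), `x ∈ V`
(anisotropy).  `a` is a 3-element, so `3 ∣ 2^n - 1`, `n` even.  `n = 0`: abelian; `n = 2`:
`card_commutator_le` gives `card ⁅X,X⁆ ≤ 2 < 4`.  So `n = 4`. -/
theorem r2_c64_of_V_max [Finite G] {X H V : Subgroup G} {a : G} (C : Ctx X H) (hV : IsV X V)
    (hA : IsA H V a) (hM : IsMaxAb X V) : C64 X V := by
  classical
  haveI hXn : X.Normal := C.normal
  haveI hVn : V.Normal := hV.normal
  have hVcX : V ≤ Subgroup.centralizer (X : Set G) := by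
    intro v hv
    rw [Subgroup.mem_centralizer_iff]
    intro x hx
    exact ((Subgroup.mem_centralizer_iff.mp (hV.central hx)) v hv).symm
  -- `ZS X = V`
  have hZS : ZS X = V := by
    apply hM.max (ZS X) inf_le_left
    · show (X ⊓ Subgroup.centralizer (X : Set G)).Normal
      infer_instance
    · refine ⟨⟨fun p q => Subtype.ext ?_⟩⟩
      have hq : (q : G) ∈ X ⊓ Subgroup.centralizer (X : Set G) := q.2
      have hp : (p : G) ∈ X ⊓ Subgroup.centralizer (X : Set G) := p.2
      have h1 := Subgroup.mem_centralizer_iff.mp hp.2 (q : G) hq.1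
      show (p : G) * (q : G) = (q : G) * (p : G)
      exact h1.symm
    · exact le_inf hV.le hVcX
  -- `Up X V = X`
  have hWn : (Up X V).Normal := Up_normal hXn hVn
  have hWX : Up X V ≤ X := Up_le X V
  have hVW : V ≤ Up X V := le_Up hVn hV.le
  have hZW : Up X V ⊓ Subgroup.centralizer (Up X V : Set G) = V := by
    haveI := hWn
    apply hM.max _ (inf_le_left.trans hWX)
    · infer_instance
    · refine ⟨⟨fun p q => Subtype.ext ?_⟩⟩
      have hq : (q : G) ∈ Up X V ⊓ Subgroup.centralizer (Up X V : Set G) := q.2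
      have hp : (p : G) ∈ Up X V ⊓ Subgroup.centralizer (Up X V : Set G) := p.2
      have h1 := Subgroup.mem_centralizer_iff.mp hp.2 (q : G) hq.1
      show (p : G) * (q : G) = (q : G) * (p : G)
      exact h1.symm
    · refine le_inf hVW ?_
      intro v hv
      rw [Subgroup.mem_centralizer_iff]
      intro w hw
      exact ((Subgroup.mem_centralizer_iff.mp (hV.central (hWX hw))) v hv).symm
  have hUp : Up X V = X :=
    up_eq_of_center_le C.two hXn hVn hV.le hV.central (le_of_eq hZW)
  -- `Quad X V`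
  have hmem : ∀ x ∈ X, (∀ y ∈ X, x * y * x⁻¹ * y⁻¹ ∈ V) ∧ x ^ 2 ∈ V := by
    intro x hx
    have hx' : x ∈ Up X V := by rw [hUp]; exact hx
    exact ((mem_Up hVn).mp hx').2
  have haniso : ∀ x ∈ X, x ^ 2 = 1 → x ∈ V := by
    intro x hx hx2
    by_contra hxV
    have hx' : x ∈ Up X V := by rw [hUp]; exact hx
    have h1 := aniso hV hVn (isV_comm hV) le_rfl hV.le hx' (hV.central hx) hxV 1 V.one_mem
    apply h1
    rw [mul_one]
    exact hx2
  have hcomm_le : ⁅X, X⁆ ≤ V := by
    rw [Subgroup.commutator_le]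
    intro x hx y hy
    rw [commutatorElement_def]
    exact (hmem x hx).1 y hy
  have hQ : Quad X V :=
    ⟨hV.le, hV.card, hV.sq, hV.central, fun x hx => (hmem x hx).2, hcomm_le, haniso⟩
  -- `⁅X, X⁆ = V`
  have hcomm : ⁅X, X⁆ = V := by
    rcases r2_sub_V hV.card hA (inferInstance : (⁅X, X⁆).Normal) hcomm_le with h | h
    · exfalso
      apply C.nonab
      refine ⟨⟨fun p q => Subtype.ext ?_⟩⟩
      have h1 : ⁅(p : G), (q : G)⁆ ∈ ⁅X, X⁆ := Subgroup.commutator_mem_commutator p.2 q.2
      rw [h, Subgroup.mem_bot, commutatorElement_eq_one_iff_mul_comm] at h1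
      exact h1
    · exact h
  -- `a` has no fixed point on `X` except `1`
  have hafix : ∀ x ∈ X, a * x * a⁻¹ = x → x = 1 := by
    intro x hx hax
    have h2 : a * x ^ 2 * a⁻¹ = x ^ 2 := by
      rw [← conj_pow, hax]
    have h3 : x ^ 2 = 1 := hA.fpf _ (hmem x hx).2 h2
    exact hA.fpf x (haniso x hx h3) hax
  -- `|X| ≡ 1 mod 3`
  haveI : Fact (Nat.Prime 3) := ⟨Nat.prime_three⟩
  obtain ⟨j, hj⟩ := hA.three
  have hP : IsPGroup 3 ↥(Subgroup.zpowers a) := by
    apply IsPGroup.of_card (n := j)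
    rw [Nat.card_zpowers, hj]
  letI act : MulAction ↥(Subgroup.zpowers a) ↥X :=
    MulAction.compHom ↥X ((MulAut.conjNormal (H := X)).comp (Subgroup.zpowers a).subtype)
  have hsmul : ∀ (g : ↥(Subgroup.zpowers a)) (x : ↥X),
      ((g • x : ↥X) : G) = (g : G) * (x : G) * (g : G)⁻¹ := by
    intro g x
    show ((MulAut.conjNormal (g : G) x : ↥X) : G) = _
    rw [MulAut.conjNormal_apply]
  have hmod0 : Nat.card ↥X ≡ Nat.card ↥(MulAction.fixedPoints ↥(Subgroup.zpowers a) ↥X) [MOD 3] :=
    hP.card_modEq_card_fixedPoints ↥X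
  have hfix : MulAction.fixedPoints ↥(Subgroup.zpowers a) ↥X = {1} := by
    ext x
    rw [MulAction.mem_fixedPoints, Set.mem_singleton_iff]
    constructor
    · intro h
      have h1 := h ⟨a, Subgroup.mem_zpowers a⟩
      have h2 := congrArg Subtype.val h1
      rw [hsmul] at h2
      apply Subtype.ext
      exact hafix (x : G) x.2 h2
    · rintro rfl g
      apply Subtype.ext
      rw [hsmul]
      simp
  rw [hfix] at hmod0
  have h1 : Nat.card ↥({1} : Set ↥X) = 1 := by simp
  rw [h1] at hmod0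
  -- the order
  obtain ⟨k, hk3, hk⟩ := eight_le_card C.two C.nonab
  have h64 := card_le_64 C.two hQ
  rw [hk] at h64 hmod0
  have hk6 : k ≤ 6 := by
    by_contra hcon
    push Not at hcon
    have h7 : 2 ^ 7 ≤ 2 ^ k := Nat.pow_le_pow_right (by norm_num) hcon
    omega
  have hk' : k = 4 ∨ k = 6 := by
    unfold Nat.ModEq at hmod0
    interval_cases k
    · norm_num at hmod0
    · left; rfl
    · norm_num at hmod0
    · right; rfl
  rcases hk' with rfl | rfl
  · exfalso
    have h16 : Nat.card ↥X ≤ 16 := by rw [hk]; norm_num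
    have h2 := card_commutator_le hQ h16
    rw [hcomm, hV.card] at h2
    omega
  · exact ⟨fun x hx => (hmem x hx).2, hcomm, hZS, haniso, by rw [hk]; norm_num⟩


end Cfsg.Agent.Helper17.NG
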