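import Mathlib
import Cfsg.Agent.Lib.NG.NGDefs
import Cfsg.Agent.Lib.NG.NGIDX2

/-! S1904 piece NG-VCENT (helper17 design; see plans/S1904_plan.md).  Proved by helper27. -/

set_option autoImplicit false
set_option linter.style.haveILetI false

namespace Cfsg.Agent.Helper17.NG

variable {G : Type*} [Group G]

/-- A `G`-normal subgroup `V ≤ X` of order 4 is central in `X`.  `K := X ⊓ C(V)` is normal in `G`;
`X ⧸ K` embeds in `Aut V`, and a 2-group of automorphisms of a group of order 4 has order `≤ 2`
(concretely: `X` permutes the 3 nonidentity elements of `V`; an orbit-counting argument gives a fixed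
element `v1`; the stabiliser of a second element has index `≤ 2` and centralises `V`).  So
`K.relIndex X ≤ 2` and `eq_of_relIndex_le_two` gives `K = X`. -/
theorem four_group_central [Finite G] {X H V : Subgroup G} (C : Ctx X H) (hVX : V ≤ X)
    (hVn : V.Normal) (hV4 : Nat.card ↥V = 4) : X ≤ Subgroup.centralizer (V : Set G) := by
  classical
  haveI := hVn
  haveI := C.normal
  haveI : Fact (Nat.Prime 2) := ⟨Nat.prime_two⟩
  -- the action of `X` on `V`
  let φ : ↥X →* MulAut ↥V := (MulAut.conjNormal (H := V)).comp X.subtype
  letI : MulAction ↥X ↥V := MulAction.compHom ↥V φ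
  have hact : ∀ (x : ↥X) (v : ↥V), ((x • v : ↥V) : G) = x * v * (x : G)⁻¹ := by
    intro x v
    show ((MulAut.conjNormal (x : G) v : ↥V) : G) = _
    rw [MulAut.conjNormal_apply]
  have hfixiff : ∀ v : ↥V, v ∈ MulAction.fixedPoints ↥X ↥V ↔
      ∀ x ∈ X, x * (v : G) * x⁻¹ = v := by
    intro v
    constructor
    · intro h x hx
      have := congrArg Subtype.val (h ⟨x, hx⟩)
      rw [hact] at this
      exact this
    · intro h x
      apply Subtype.ext
      rw [hact]
      exact h x x.2
  -- a nontrivial fixed point
  have h1fix : (1 : ↥V) ∈ MulAction.fixedPoints ↥X ↥V := by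
    rw [hfixiff]
    intro x _
    simp
  obtain ⟨z, hzfix, hz1⟩ := C.two.exists_fixed_point_of_prime_dvd_card_of_fixed_point ↥V
    (by rw [hV4]; norm_num) h1fix
  -- `K`
  have hKn : (X ⊓ Subgroup.centralizer (V : Set G)).Normal := inferInstance
  have hKX : X ⊓ Subgroup.centralizer (V : Set G) ≤ X := inf_le_left
  suffices hidx : (X ⊓ Subgroup.centralizer (V : Set G)).relIndex X ≤ 2 by
    have := eq_of_relIndex_le_two C hKn hKX hidx
    rw [← this]
    exact inf_le_right
  by_cases hall : ∀ v : ↥V, v ∈ MulAction.fixedPoints ↥X ↥V
  · have hXK : X ≤ X ⊓ Subgroup.centralizer (V : Set G) := by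
      intro x hx
      refine Subgroup.mem_inf.mpr ⟨hx, ?_⟩
      rw [Subgroup.mem_centralizer_iff]
      intro v hv
      have := (hfixiff ⟨v, hv⟩).mp (hall ⟨v, hv⟩) x hx
      have e : x * v = (x * v * x⁻¹) * x := by group
      rw [e, this]
    rw [Subgroup.relIndex_eq_one.mpr hXK]
    norm_num
  · push Not at hall
    obtain ⟨v, hv⟩ := hall
    have hv1 : v ≠ 1 := fun h => hv (h ▸ h1fix)
    have hvz : v ≠ z := fun h => hv (h ▸ hzfix)
    -- `V` is generated by `z` and `v`
    have hgen : Subgroup.closure ({z, v} : Set ↥V) = ⊤ := by
      have hdvd : Nat.card ↥(Subgroup.closure ({z, v} : Set ↥V)) ∣ 4 := by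
        rw [← hV4]
        exact Subgroup.card_subgroup_dvd_card _
      have h3 : 3 ≤ Nat.card ↥(Subgroup.closure ({z, v} : Set ↥V)) := by
        have hzm : z ∈ Subgroup.closure ({z, v} : Set ↥V) :=
          Subgroup.subset_closure (by simp)
        have hvm : v ∈ Subgroup.closure ({z, v} : Set ↥V) :=
          Subgroup.subset_closure (by simp)
        have hsub : ({1, z, v} : Set ↥V) ⊆
            ((Subgroup.closure ({z, v} : Set ↥V) : Subgroup ↥V) : Set ↥V) := by
          intro w hw
          rcases hw with rfl | rfl | rfl
          · exact Subgroup.one_mem _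
          · exact hzm
          · exact hvm
        have hn : ({1, z, v} : Set ↥V).ncard = 3 := by
          rw [Set.ncard_insert_of_notMem (by
            intro h
            rcases h with h | h
            · exact hz1 h
            · exact hv1 h.symm), Set.ncard_pair (Ne.symm hvz)]
        calc 3 = ({1, z, v} : Set ↥V).ncard := hn.symm
          _ ≤ ((Subgroup.closure ({z, v} : Set ↥V) : Subgroup ↥V) : Set ↥V).ncard :=
              Set.ncard_le_ncard hsub (Set.toFinite _)
          _ = Nat.card ↥(Subgroup.closure ({z, v} : Set ↥V)) := (Nat.card_coe_set_eq _).symm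
      have h4 : Nat.card ↥(Subgroup.closure ({z, v} : Set ↥V)) = 4 := by
        have hle := Nat.le_of_dvd (by norm_num) hdvd
        interval_cases h : Nat.card ↥(Subgroup.closure ({z, v} : Set ↥V))
        · norm_num at hdvd
        · rfl
      apply Subgroup.eq_top_of_card_eq
      rw [h4, hV4]
    -- the stabiliser of `v` lies in `K`
    have hSK : MulAction.stabilizer ↥X v ≤
        (X ⊓ Subgroup.centralizer (V : Set G)).subgroupOf X := by
      intro x hx
      rw [MulAction.mem_stabilizer_iff] at hx
      rw [Subgroup.mem_subgroupOf]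
      refine Subgroup.mem_inf.mpr ⟨x.2, ?_⟩
      rw [Subgroup.mem_centralizer_iff]
      intro u hu
      have hmem : (⟨u, hu⟩ : ↥V) ∈ Subgroup.closure ({z, v} : Set ↥V) := by
        rw [hgen]; trivial
      have key : ∀ w ∈ Subgroup.closure ({z, v} : Set ↥V), x • w = w := by
        intro w hw
        induction hw using Subgroup.closure_induction with
        | mem w hw =>
          rcases hw with rfl | rfl
          · exact hzfix x
          · exact hx
        | one => exact h1fix x
        | mul a b _ _ ha hb =>
          apply Subtype.ext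
          have ha' := congrArg Subtype.val ha
          have hb' := congrArg Subtype.val hb
          rw [hact] at ha' hb' ⊢
          have e : (x : G) * ((a * b : ↥V) : G) * (x : G)⁻¹ =
              ((x : G) * (a : G) * (x : G)⁻¹) * ((x : G) * (b : G) * (x : G)⁻¹) := by
            push_cast; group
          rw [e, ha', hb']
          rfl
        | inv a _ ha =>
          apply Subtype.ext
          have ha' := congrArg Subtype.val ha
          rw [hact] at ha' ⊢
          have e : (x : G) * ((a⁻¹ : ↥V) : G) * (x : G)⁻¹ =
              ((x : G) * (a : G) * (x : G)⁻¹)⁻¹ := by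
            push_cast; group
          rw [e, ha']
          rfl
      have := congrArg Subtype.val (key _ hmem)
      rw [hact] at this
      have e : u * (x : G) = ((x : G) * u * (x : G)⁻¹) * (x : G) → u * (x : G) = (x : G) * u := by
        intro h; rw [h]; group
      have e2 : (x : G) * u = ((x : G) * u * (x : G)⁻¹) * (x : G) := by group
      rw [e2, this]
    -- the orbit of `v` has at most two elements
    have horb : MulAction.orbit ↥X v ⊆ ({1, z} : Set ↥V)ᶜ := by
      intro w hw0
      obtain ⟨x, rfl⟩ := MulAction.mem_orbit_iff.mp hw0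
      intro hw
      apply hv
      have hwfix : x • v ∈ MulAction.fixedPoints ↥X ↥V := by
        rcases hw with h | h
        · rw [h]; exact h1fix
        · rw [Set.mem_singleton_iff] at h
          rw [h]; exact hzfix
      intro y
      have h1 := hwfix (x * y * x⁻¹)
      rw [← mul_smul] at h1
      have e : x * y * x⁻¹ * x = x * y := by group
      rw [e, mul_smul] at h1
      exact smul_left_cancel x h1
    have hidxS : (MulAction.stabilizer ↥X v).index ≤ 2 := by
      rw [MulAction.index_stabilizer]
      calc (MulAction.orbit ↥X v).ncard ≤ (({1, z} : Set ↥V)ᶜ).ncard :=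
            Set.ncard_le_ncard horb (Set.toFinite _)
        _ = 2 := by
            rw [Set.ncard_compl, hV4, Set.ncard_pair hz1]
    have hdvd := Subgroup.index_dvd_of_le hSK
    have hpos : (MulAction.stabilizer ↥X v).index ≠ 0 := Subgroup.index_ne_zero_of_finite
    have := Nat.le_of_dvd (Nat.pos_of_ne_zero hpos) hdvd
    unfold Subgroup.relIndex
    omega

end Cfsg.Agent.Helper17.NG
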