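import Mathlib
import Cfsg.Agent.Lib.NG.NGDefs
import Cfsg.Agent.Lib.NG.NGOMSQ
import Cfsg.Agent.Lib.MB.MBABNC4

/-! S1904 piece NG-VNC (helper17 design; see plans/S1904_plan.md).  STUB: overwrite this file,
keeping the statement(s), namespace and imports (you may ADD imports of non-NG library files).
Aux lemmas: fresh names `ng_vnc_...`. -/

set_option autoImplicit false

namespace Cfsg.Agent.Helper17.NG

variable {G : Type*} [Group G]

/-- A finite abelian 2-group with at most one involution is cyclic.  E.g. via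
`isCyclic_of_card_pow_eq_one_le`: `#{b | b^n = 1} ≤ n`, reduce to `n = 2^k` and induct on `k` with the
squaring map (kernel `Om B` of order `≤ 2`).  (`Nat.card (Om B)` is a power of 2, so `< 4` means `≤ 2`.)
Search the library first (e.g. Lib/MB/MBABNC4, S0016). -/
theorem four_le_card_Om [Finite G] {B : Subgroup G} (hB2 : IsPGroup 2 ↥B)
    (hBc : IsMulCommutative ↥B) (hnc : ¬ IsCyclic ↥B) : 4 ≤ Nat.card ↥(Om B) := by
  have hab : ∀ a ∈ B, ∀ b ∈ B, a * b = b * a := fun a ha b hb =>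
    congrArg Subtype.val (hBc.is_comm.comm (⟨a, ha⟩ : ↥B) ⟨b, hb⟩)
  obtain ⟨E, hEB, hE4, hEnc⟩ :=
    Cfsg.Agent.Helper17.MB.exists_e4_of_abelian_noncyclic B hB2 hab hnc
  have hsq : ∀ e ∈ E, e ^ 2 = 1 := by
    intro e he
    have hdvd : orderOf (⟨e, he⟩ : ↥E) ∣ 4 := by
      rw [← hE4]
      exact orderOf_dvd_natCard _
    have hne : orderOf (⟨e, he⟩ : ↥E) ≠ 4 := by
      intro h4
      apply hEnc
      exact isCyclic_of_orderOf_eq_card (⟨e, he⟩ : ↥E) (by rw [h4, hE4])
    have hle : orderOf (⟨e, he⟩ : ↥E) ≤ 4 := Nat.le_of_dvd (by norm_num) hdvd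
    have h2 : orderOf (⟨e, he⟩ : ↥E) ∣ 2 := by
      have h0 : orderOf (⟨e, he⟩ : ↥E) ≠ 0 := (orderOf_pos _).ne'
      have h3 : orderOf (⟨e, he⟩ : ↥E) ≠ 3 := by
        intro h3
        rw [h3] at hdvd
        norm_num at hdvd
      interval_cases orderOf (⟨e, he⟩ : ↥E) <;> simp_all
    have h5 : (⟨e, he⟩ : ↥E) ^ 2 = 1 := orderOf_dvd_iff_pow_eq_one.mp h2
    have h6 := congrArg Subtype.val h5
    simpa using h6
  have hEOm : E ≤ Om B := by
    intro e he
    exact Subgroup.subset_closure ⟨hEB he, hsq e he⟩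
  have h1 := Subgroup.card_le_of_le hEOm
  rw [hE4] at h1
  exact h1

end Cfsg.Agent.Helper17.NG
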