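import Mathlib
import Cfsg.Agent.Lib.NG.NGDefs
import Cfsg.Agent.Lib.NG.NGOMSQ
import Cfsg.Agent.Lib.NG.NGVOM
import Cfsg.Agent.Lib.NG.NGVNC
import Cfsg.Agent.Lib.NG.NGVCENT

/-! S1904 piece NG-VEX (helper17 design; see plans/S1904_plan.md).  Proved by helper27. -/

set_option autoImplicit false
set_option linter.style.haveILetI false

namespace Cfsg.Agent.Helper17.NG

variable {G : Type*} [Group G]

/-- `V := Om B`: order `4` (`card_Om_le`, `four_le_card_Om`, `B` is a 2-group as `B ≤ X`), normal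
(`Om_normal`), central (`four_group_central`).  `inv`: for abelian `B'` normalised by `X` put
`E := Om B' ⊔ V`; `V` is central in `X ≥ Om B'` so `E` is elementary abelian, normalised by `X`;
`C.rank` gives `card E ≤ 4 = card V`, so `E = V` and `Om B' ≤ V` (`mem_Om`). -/
theorem exists_isV [Finite G] {X H : Subgroup G} (C : Ctx X H)
    (hB : ∃ B : Subgroup G, B ≤ X ∧ B.Normal ∧ IsMulCommutative ↥B ∧ ¬ IsCyclic ↥B) :
    ∃ V, IsV X V := by
  classical
  obtain ⟨B, hBX, hBn, hBc, hBnc⟩ := hB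
  have hVB : Om B ≤ B := Om_le B
  have hVX : Om B ≤ X := hVB.trans hBX
  have hVn : (Om B).Normal := Om_normal hBn
  have hBnorm : X ≤ Subgroup.normalizer (B : Set G) := by
    haveI := hBn
    rw [Subgroup.normalizer_eq_top]
    exact le_top
  have hV4 : Nat.card ↥(Om B) = 4 :=
    le_antisymm (card_Om_le C hBX hBnorm hBc) (four_le_card_Om (C.two.to_le hBX) hBc hBnc)
  have hVsq : ∀ v ∈ Om B, v ^ 2 = 1 := fun v hv => ((mem_Om hBc).mp hv).2
  have hVcent : X ≤ Subgroup.centralizer (Om B : Set G) := four_group_central C hVX hVn hV4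
  have hcent : ∀ x ∈ X, ∀ v ∈ Om B, v * x = x * v := fun x hx v hv =>
    (Subgroup.mem_centralizer_iff.mp (hVcent hx)) v hv
  refine ⟨Om B, ⟨hVX, hVn, hV4, hVsq, hVcent, ?_⟩⟩
  intro B' hB'X hB'n hB'c b hb hb2
  haveI := hVn
  -- `E := Om B' ⊔ V`
  have hOX : Om B' ≤ X := (Om_le B').trans hB'X
  have hEmem : ∀ y, y ∈ Om B' ⊔ Om B ↔ ∃ a ∈ Om B', ∃ v ∈ Om B, y = a * v := by
    intro y
    rw [← SetLike.mem_coe, Subgroup.mul_normal, Set.mem_mul]
    constructor
    · rintro ⟨a, ha, v, hv, rfl⟩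
      exact ⟨a, ha, v, hv, rfl⟩
    · rintro ⟨a, ha, v, hv, rfl⟩
      exact ⟨a, ha, v, hv, rfl⟩
  have hOcomm : ∀ a ∈ Om B', ∀ a' ∈ Om B', a * a' = a' * a := by
    intro a ha a' ha'
    have := hB'c.is_comm.comm ⟨a, Om_le B' ha⟩ ⟨a', Om_le B' ha'⟩
    exact congrArg Subtype.val this
  have hOsq : ∀ a ∈ Om B', a ^ 2 = 1 := fun a ha => ((mem_Om hB'c).mp ha).2
  have hEX : Om B' ⊔ Om B ≤ X := sup_le hOX hVX
  have hEel : Cfsg.IsElementaryAbelian 2 (Om B' ⊔ Om B) := by
    constructor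
    · refine ⟨⟨fun y y' => ?_⟩⟩
      obtain ⟨a, ha, v, hv, hy⟩ := (hEmem y).mp y.2
      obtain ⟨a', ha', v', hv', hy'⟩ := (hEmem y').mp y'.2
      apply Subtype.ext
      show (y : G) * (y' : G) = (y' : G) * (y : G)
      rw [hy, hy']
      have h1 := hcent a' (hOX ha') v hv
      have h2 := hcent a (hOX ha) v' hv'
      have h3 := hcent v' (hVX hv') v hv
      have h4 := hOcomm a ha a' ha'
      calc a * v * (a' * v') = a * (v * a') * v' := by group
        _ = a * (a' * v) * v' := by rw [h1]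
        _ = (a * a') * (v * v') := by group
        _ = (a' * a) * (v' * v) := by rw [h4, h3]
        _ = a' * (a * v') * v := by group
        _ = a' * (v' * a) * v := by rw [h2]
        _ = a' * v' * (a * v) := by group
    · intro y hy
      obtain ⟨a, ha, v, hv, rfl⟩ := (hEmem y).mp hy
      have h1 := hcent a (hOX ha) v hv
      have h2 := hOsq a ha
      have h3 := hVsq v hv
      calc (a * v) ^ 2 = a * (v * a) * v := by rw [pow_two]; group
        _ = a * (a * v) * v := by rw [h1]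
        _ = a ^ 2 * v ^ 2 := by rw [pow_two, pow_two]; group
        _ = 1 := by rw [h2, h3, one_mul]
  have hOn : X ≤ Subgroup.normalizer (Om B' : Set G) := Om_normalizer hB'n
  have hconj : ∀ x ∈ X, ∀ y ∈ Om B' ⊔ Om B, x * y * x⁻¹ ∈ Om B' ⊔ Om B := by
    intro x hx y hy
    obtain ⟨a, ha, v, hv, rfl⟩ := (hEmem y).mp hy
    rw [hEmem]
    refine ⟨x * a * x⁻¹, (Subgroup.mem_normalizer_iff.mp (hOn hx) a).mp ha, x * v * x⁻¹,
      hVn.conj_mem v hv x, by group⟩
  have hEn : X ≤ Subgroup.normalizer ((Om B' ⊔ Om B : Subgroup G) : Set G) := by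
    intro x hx
    rw [Subgroup.mem_normalizer_iff]
    intro y
    constructor
    · exact hconj x hx y
    · intro hy
      have := hconj x⁻¹ (X.inv_mem hx) _ hy
      have e : x⁻¹ * (x * y * x⁻¹) * x⁻¹⁻¹ = y := by group
      rwa [e] at this
  have hE4 : Nat.card ↥(Om B' ⊔ Om B) ≤ 4 := C.rank _ hEX hEn hEel
  have hEV : Om B = Om B' ⊔ Om B :=
    Subgroup.eq_of_le_of_card_ge le_sup_right (by rw [hV4]; exact hE4)
  have hbO : b ∈ Om B' := (mem_Om hB'c).mpr ⟨hb, hb2⟩
  rw [hEV]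
  exact (le_sup_left : Om B' ≤ Om B' ⊔ Om B) hbO

end Cfsg.Agent.Helper17.NG
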