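import Mathlib
import Cfsg.Agent.Lib.NG.NGDefs
import Cfsg.Agent.Lib.NG.NGUPMEM
import Cfsg.Agent.Lib.NG.NGUPEX
import Cfsg.Agent.Lib.NG.NGUPSAND
import Cfsg.Agent.Lib.NG.NGUPEQ
import Cfsg.Agent.Lib.NG.NGFIXQ
import Cfsg.Agent.Lib.NG.NGIDX2
import Cfsg.Agent.Lib.NG.NGCENTH
import Cfsg.Agent.Lib.NG.NGHCENT
import Cfsg.Agent.Lib.NG.NGMAXAB
import Cfsg.Agent.Lib.NG.NGOMSQ
import Cfsg.Agent.Lib.NG.NGANISO
import Cfsg.Agent.Lib.NG.NGTHREE
import Cfsg.Agent.Lib.NG.NGVOM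
import Cfsg.Agent.Lib.NG.NGVNC
import Cfsg.Agent.Lib.NG.NGVCENT
import Cfsg.Agent.Lib.NG.NGVEX
import Cfsg.Agent.Lib.NG.NGICRIT
import Cfsg.Agent.Lib.NG.NGICENT
import Cfsg.Agent.Lib.NG.NGIEQ
import Cfsg.Agent.Lib.NG.NGICES
import Cfsg.Agent.Lib.NG.NGEODD
import Cfsg.Agent.Lib.NG.NGEAPP
import Cfsg.Agent.Lib.NG.NGECENT
import Cfsg.Agent.Lib.NG.NGECARD
import Cfsg.Agent.Lib.NG.NGECOMM
import Cfsg.Agent.Lib.NG.NGC64CONCL
import Cfsg.Agent.Lib.NG.NGIE8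
import Cfsg.Agent.Lib.NG.NGI16
import Cfsg.Agent.Lib.NG.NGIQ8
import Cfsg.Agent.Lib.NG.NGI32
import Cfsg.Agent.Lib.NG.NGIES
import Cfsg.Agent.Lib.NG.NGR1CENT
import Cfsg.Agent.Lib.NG.NGR1ZLE
import Cfsg.Agent.Lib.NG.NGR1FIX
import Cfsg.Agent.Lib.NG.NGR1SQ
import Cfsg.Agent.Lib.NG.NGR1CARD
import Cfsg.Agent.Lib.NG.NGR1ZV
import Cfsg.Agent.Lib.NG.NGR1QUAD
import Cfsg.Agent.Lib.NG.NGR1N3
import Cfsg.Agent.Lib.NG.NGR2A
import Cfsg.Agent.Lib.NG.NGR2IRR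
import Cfsg.Agent.Lib.NG.NGR2AB
import Cfsg.Agent.Lib.NG.NGR2VIA
import Cfsg.Agent.Lib.NG.NGR2TR
import Cfsg.Agent.Lib.NG.NGR2THETA
import Cfsg.Agent.Lib.NG.NGR2BETA
import Cfsg.Agent.Lib.NG.NGR2VMAX
import Cfsg.Agent.Lib.NG.NGR2TRIV
import Cfsg.Agent.Lib.NG.NGR2M2A
import Cfsg.Agent.Lib.NG.NGR2M2B
import Cfsg.Agent.Lib.NG.NGR2LEVEL
import Cfsg.Agent.Lib.NG.NGR2OM2
import Cfsg.Agent.Lib.NG.NGR2LEMP
import Cfsg.Agent.Lib.NG.NGR2CHOICE
import Cfsg.Agent.Lib.NG.NGR2CLB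
import Cfsg.Agent.Lib.NG.NGSMALL
import Cfsg.Agent.Lib.NG.NGBRIDGE

/-! S1904 assembly (helper17; see plans/S1904_plan.md). -/

set_option autoImplicit false

namespace Cfsg.Agent.Helper17.NG

variable {G : Type*} [Group G]

theorem caseI [Finite G] {X H : Subgroup G} (C : Ctx X H)
    (hcyc : ∀ B : Subgroup G, B ≤ X → B.Normal → IsMulCommutative ↥B → IsCyclic ↥B) :
    Concl ↥X := by
  obtain ⟨C0, hC0X, hC0n, hsq, hcomm, hself⟩ := exists_crit C.normal C.two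
  have heq := crit_eq C hcyc hC0X hC0n hsq hcomm hself
  subst heq
  have hces := ces_of_crit C hcyc hsq hcomm
  have hle := ces_card_le C hces
  have h16 := ces_card_ne_16 C hces
  obtain ⟨k, hk3, hk⟩ := eight_le_card C.two C.nonab
  have hk5 : k ≤ 5 := by
    by_contra hlt
    push Not at hlt
    have : 2 ^ 6 ≤ 2 ^ k := Nat.pow_le_pow_right (by norm_num) hlt
    omega
  have hk4 : k ≠ 4 := by
    intro h4
    rw [h4] at hk
    exact h16 (by rw [hk]; norm_num)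
  have hk35 : k = 3 ∨ k = 5 := by omega
  rcases hk35 with h3 | h5
  · left
    exact ces_q8 C hces (by rw [hk, h3]; norm_num)
  · right; right
    have h32 : Nat.card ↥C0 = 32 := by rw [hk, h5]; norm_num
    exact ⟨ces_extraspecial C.two hces, h32, ces_32 C hces h32⟩

theorem regime1 [Finite G] {X H V : Subgroup G} (C : Ctx X H) (hV : IsV X V)
    (hH : H ≤ Subgroup.centralizer (V : Set G)) : C64 X V := by
  obtain ⟨hQ, hcomm, hZ⟩ := r1_quad C hV hH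
  have h64 := card_le_64 C.two hQ
  have h32 := r1_card_ne_32 C hV hH hQ hcomm hZ
  obtain ⟨k, hk3, hk⟩ := eight_le_card C.two C.nonab
  have hk6 : k ≤ 6 := by
    by_contra hlt
    push Not at hlt
    have : 2 ^ 7 ≤ 2 ^ k := Nat.pow_le_pow_right (by norm_num) hlt
    omega
  have hk5 : k ≠ 5 := by
    intro h5; rw [h5] at hk; exact h32 (by rw [hk]; norm_num)
  have hk4 : ¬ k ≤ 4 := by
    intro h4
    have h16 : Nat.card ↥X ≤ 16 := by
      rw [hk]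
      calc 2 ^ k ≤ 2 ^ 4 := Nat.pow_le_pow_right (by norm_num) h4
        _ = 16 := by norm_num
    have := card_commutator_le hQ h16
    rw [hcomm, hV.card] at this
    omega
  have hk6' : k = 6 := by omega
  exact ⟨hQ.sq, hcomm, hZ, hQ.aniso, by rw [hk, hk6']; norm_num⟩

theorem regime2 [Finite G] {X H V : Subgroup G} (C : Ctx X H) (hV : IsV X V)
    (hH : ¬ H ≤ Subgroup.centralizer (V : Set G)) : C64 X V := by
  obtain ⟨a, hA⟩ := exists_isA C hV hH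
  obtain ⟨M, hM, hVM⟩ := exists_isMaxAb hV.le hV.normal (isV_comm hV)
  by_cases hs : X ⊓ Subgroup.centralizer (M : Set G) ≤ M
  · have hSqn : (Sq M).Normal := Sq_normal hM.normal
    by_cases h0 : Sq M = ⊥
    · exact (r2_sq_bot C hV hM hs h0).elim
    · have hVS : V ≤ Sq M := r2_V_le C hV hA hSqn ((Sq_le M).trans hM.le) h0
      by_cases hne : Sq M = V
      · obtain ⟨hidx, hk⟩ := r2_m2_index C hV hA hM hs hne
        exact r2_m2_c64 C hV hA hM hs hne hidx hk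
      · exact (r2_claim_B C hV hA hM hs hVS hne).elim
  · have hMV := r2_noncentral C hV hA hM hs
    subst hMV
    exact r2_c64_of_V_max C hV hA hM

theorem main [Finite G] {X H : Subgroup G} (C : Ctx X H) : Concl ↥X := by
  by_cases hcyc : ∀ B : Subgroup G, B ≤ X → B.Normal → IsMulCommutative ↥B → IsCyclic ↥B
  · exact caseI C hcyc
  · push Not at hcyc
    obtain ⟨B, hBX, hBn, hBc, hnc⟩ := hcyc
    obtain ⟨V, hV⟩ := exists_isV C ⟨B, hBX, hBn, hBc, hnc⟩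
    have h64 : C64 X V := by
      by_cases hH : H ≤ Subgroup.centralizer (V : Set G)
      · exact regime1 C hV hH
      · exact regime2 C hV hH
    right; left
    exact concl_of_c64 C.two hV h64

end Cfsg.Agent.Helper17.NG
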