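import Mathlib
import Cfsg.Agent.Lib.NG.NGDefs
import Cfsg.Agent.Lib.NG.NGR2CHOICE
import Cfsg.Agent.Lib.NG.NGR2OM2
import Cfsg.Agent.Lib.NG.NGUPMEM
import Cfsg.Agent.Lib.NG.NGOMSQ
import Cfsg.Agent.Lib.NG.NGR2LEVEL

/-! S1904 piece NG-R2CLB (helper17 design; see plans/S1904_plan.md). -/

set_option autoImplicit false

namespace Cfsg.Agent.Helper17.NG

variable {G : Type*} [Group G]

/-- The norm map `u ↦ u * (t u t⁻¹)` of an abelian normal subgroup, valued in `G`. -/
def ng_r2clb_mu {M : Subgroup G} (hM : M.Normal) (hMc : IsMulCommutative ↥M) (t : G) : ↥M →* G where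
  toFun u := (u : G) * (t * u * t⁻¹)
  map_one' := by simp
  map_mul' u v := by
    have h2 : t * (u : G) * t⁻¹ ∈ M := hM.conj_mem u u.2 t
    have hc : (v : G) * (t * u * t⁻¹) = (t * u * t⁻¹) * v := by
      have := hMc.is_comm.comm v ⟨_, h2⟩
      exact congrArg Subtype.val this
    calc ((u * v : ↥M) : G) * (t * ((u * v : ↥M) : G) * t⁻¹)
        = u * ((v : G) * (t * u * t⁻¹)) * (t * v * t⁻¹) := by
          simp only [Subgroup.coe_mul]; group
      _ = u * ((t * u * t⁻¹) * v) * (t * v * t⁻¹) := by rw [hc]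
      _ = _ := by group

theorem ng_r2clb_mu_apply {M : Subgroup G} (hM : M.Normal) (hMc : IsMulCommutative ↥M) (t : G)
    (u : ↥M) : ng_r2clb_mu hM hMc t u = (u : G) * (t * u * t⁻¹) := rfl

/-- Claim B: contradiction (see `plans/S1904_plan.md`). -/
theorem r2_claim_B [Finite G] {X H V M : Subgroup G} {a : G} (C : Ctx X H) (hV : IsV X V)
    (hA : IsA H V a) (hM : IsMaxAb X M) (hs : X ⊓ Subgroup.centralizer (M : Set G) ≤ M)
    (hVS : V ≤ Sq M) (hne : Sq M ≠ V) : False := by
  obtain ⟨t, htU, htM, htS, hker⟩ := r2_choice C hV hA hM hs hVS hne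
  obtain ⟨hO2S, -, -, -⟩ := r2_om2 C hV hA hM.normal hM.le hM.comm hVS hne
  have hMn := hM.normal
  have hMc := hM.comm
  have hcomm : ∀ a ∈ M, ∀ b ∈ M, a * b = b * a := fun a ha b hb => by
    have := hMc.is_comm.comm (⟨a, ha⟩ : M) ⟨b, hb⟩
    exact congrArg Subtype.val this
  obtain ⟨htX, htcomm, htsq⟩ := (mem_Up hMn).mp htU
  have hinvM : ∀ b ∈ M, b ^ 2 = 1 → b ∈ V := fun b hb hb2 =>
    hV.inv M hM.le (by rw [Subgroup.normalizer_eq_top_iff.mpr hMn]; exact le_top) hMc b hb hb2
  have hSM : Sq M ≤ M := Sq_le M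
  have hVM : V ≤ M := hVS.trans hSM
  have htS' : ∀ s ∈ Sq M, t * s * t⁻¹ = s := by
    intro s hs
    have := (Subgroup.mem_centralizer_iff.mp htS) s hs
    rw [← this]; group
  have hpsiM : ∀ u ∈ M, t * u * t⁻¹ * u⁻¹ ∈ M := fun u hu =>
    M.mul_mem (hMn.conj_mem u hu t) (M.inv_mem hu)
  have hpsiV : ∀ u ∈ M, t * u * t⁻¹ * u⁻¹ ∈ V := by
    intro u hu
    apply hinvM _ (hpsiM u hu)
    rw [← ng_r2level_pow hMn hMc t hu 2]
    have : u ^ 2 ∈ Sq M := (mem_Sq hMc).mpr ⟨u, hu, rfl⟩
    rw [htS' _ this]; group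
  have hpsi1 : ∀ u ∈ M, t * u * t⁻¹ * u⁻¹ = 1 → u ∈ Sq M := by
    intro u hu h
    apply hker u hu
    have h1 : t * u * t⁻¹ = u := mul_inv_eq_one.mp h
    have h2 : t * u = u * t := mul_inv_eq_iff_eq_mul.mp h1
    rw [← h2]; group
  obtain ⟨f, hf⟩ : ∃ f : ↥M →* G, ∀ u : ↥M, f u = (u : G) * (t * u * t⁻¹) :=
    ⟨ng_r2clb_mu hMn hMc t, ng_r2clb_mu_apply hMn hMc t⟩
  have hf2 : ∀ u : ↥M, f u = (u : G) ^ 2 * (t * u * t⁻¹ * (u : G)⁻¹) := by
    intro u
    have := hcomm _ u.2 _ (hpsiM u u.2)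
    calc f u = (u : G) * ((t * u * t⁻¹ * (u : G)⁻¹) * u) := by rw [hf]; group
      _ = (u : G) * ((u : G) * (t * u * t⁻¹ * (u : G)⁻¹)) := by rw [this]
      _ = _ := by rw [pow_two]; simp only [mul_assoc]
  have hrange : f.range ≤ Sq M := by
    rintro _ ⟨u, rfl⟩
    rw [hf2]
    exact (Sq M).mul_mem ((mem_Sq hMc).mpr ⟨u, u.2, rfl⟩) (hVS (hpsiV u u.2))
  have hkerf : ∀ u : ↥M, f u = 1 ↔ (u : G) ∈ V := by
    intro u
    constructor
    · intro h
      have h' := h
      rw [hf2] at h
      have h1 : (u : G) ^ 2 = (t * u * t⁻¹ * (u : G)⁻¹)⁻¹ := eq_inv_of_mul_eq_one_left h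
      have h2 : (u : G) ^ 2 ∈ V := by rw [h1]; exact V.inv_mem (hpsiV u u.2)
      have h4 : (u : G) ^ 4 = 1 := by
        have := hV.sq _ h2
        rw [← pow_mul] at this; exact this
      have h5 : (u : G) ∈ Sq M := hO2S ((mem_Om2 hMc).mpr ⟨u.2, h4⟩)
      have h6 : t * u * t⁻¹ * (u : G)⁻¹ = 1 := by rw [htS' _ h5]; group
      rw [h6, mul_one] at h
      exact hinvM _ u.2 h
    · intro h
      rw [hf, htS' _ (hVS h), ← pow_two]; exact hV.sq _ h
  have hcardker : Nat.card f.ker = 4 := by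
    have : f.ker = V.subgroupOf M := by
      ext u; rw [MonoidHom.mem_ker, hkerf, Subgroup.mem_subgroupOf]
    rw [this, Nat.card_congr (Subgroup.subgroupOfEquivOfLe hVM).toEquiv, hV.card]
  have hOm : Nat.card (Om M) = 4 := by
    have : Om M = V := by
      apply le_antisymm
      · intro b hb
        obtain ⟨hbM, hb2⟩ := (mem_Om hMc).mp hb
        exact hinvM b hbM hb2
      · intro v hv
        exact (mem_Om hMc).mpr ⟨hVM hv, hV.sq v hv⟩
    rw [this, hV.card]
  have hcard1 := card_Om_mul_card_Sq hMc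
  have hcard2 : Nat.card f.ker * Nat.card f.range = Nat.card M := by
    rw [← Subgroup.index_ker]; exact Subgroup.card_mul_index _
  have hrc : Nat.card f.range = Nat.card (Sq M) := by
    rw [hcardker] at hcard2; rw [hOm] at hcard1; omega
  have hreq : f.range = Sq M := Subgroup.eq_of_le_of_card_ge hrange (le_of_eq hrc.symm)
  have ht2S : t ^ 2 ∈ Sq M := by
    apply hpsi1 _ htsq
    rw [pow_two]; group
  obtain ⟨u, hu⟩ : ((t ^ 2)⁻¹ : G) ∈ f.range := by rw [hreq]; exact (Sq M).inv_mem ht2S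
  obtain ⟨t', ht'⟩ : ∃ t', t' = (u : G) * t := ⟨_, rfl⟩
  have ht'2 : t' * t' = 1 := by
    calc t' * t' = (u : G) * (t * u * t⁻¹) * (t * t) := by rw [ht']; group
      _ = 1 := by rw [← hf, hu, pow_two]; group
  have ht'U : t' ∈ Up X M := by
    rw [ht']; exact (Up X M).mul_mem (le_Up hMn hM.le u.2) htU
  have ht'M : t' ∉ M := fun h => htM (by
    have := M.mul_mem (M.inv_mem u.2) h
    rw [ht'] at this
    simpa using this)
  obtain ⟨ht'X, ht'comm, -⟩ := (mem_Up hMn).mp ht'U
  have ht'V : ∀ v ∈ V, t' * v = v * t' := fun v hv =>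
    ((Subgroup.mem_centralizer_iff.mp (hV.central ht'X)) v hv).symm
  have hconj : ∀ g ∈ X, (g * t' * g⁻¹) * t'⁻¹ ∈ V := by
    intro g hg
    obtain ⟨m, hm⟩ : ∃ m, m = g * t' * g⁻¹ * t'⁻¹ := ⟨_, rfl⟩
    rw [← hm]
    have hmM : m ∈ M := by
      have h0 := M.inv_mem (ht'comm g hg)
      have : m = (t' * g * t'⁻¹ * g⁻¹)⁻¹ := by rw [hm]; group
      rw [this]; exact h0
    have h1 : (m * t') * (m * t') = 1 := by
      have : m * t' = g * t' * g⁻¹ := by rw [hm]; group
      rw [this]
      calc g * t' * g⁻¹ * (g * t' * g⁻¹) = g * (t' * t') * g⁻¹ := by group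
        _ = 1 := by rw [ht'2]; group
    have h2 : t' * m * t'⁻¹ = t * m * t⁻¹ := by
      have hc := hcomm _ u.2 _ (hMn.conj_mem m hmM t)
      calc t' * m * t'⁻¹ = (u : G) * (t * m * t⁻¹) * (u : G)⁻¹ := by rw [ht']; group
        _ = (t * m * t⁻¹) * u * (u : G)⁻¹ := by rw [hc]
        _ = _ := by group
    have h3 : f ⟨m, hmM⟩ = 1 := by
      rw [hf]
      calc m * (t * m * t⁻¹) = m * (t' * m * t'⁻¹) := by rw [h2]
        _ = (m * t') * (m * t') * (t' * t')⁻¹ := by group
        _ = 1 := by rw [h1, ht'2]; simp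
    exact (hkerf ⟨m, hmM⟩).mp h3
  -- the subgroup `E = V ∪ t'V`
  have hcancel : ∀ e, t' * e ∈ V → t' * e = e * t' := by
    intro e he
    have := ht'V _ he
    exact mul_left_cancel (this.trans (mul_assoc _ _ _))
  let E : Subgroup G :=
    { carrier := {e | e ∈ V ∨ t' * e ∈ V}
      one_mem' := Or.inl V.one_mem
      mul_mem' := by
        rintro e f (he | he) (hf' | hf')
        · exact Or.inl (V.mul_mem he hf')
        · right
          have : t' * (e * f) = e * (t' * f) := by
            rw [← mul_assoc, ht'V e he, mul_assoc]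
          rw [this]; exact V.mul_mem he hf'
        · right
          rw [← mul_assoc]; exact V.mul_mem he hf'
        · left
          have h := ht'V _ he
          have : e * f = (t' * e) * (t' * f) := by
            calc e * f = (t' * t') * e * f := by rw [ht'2, one_mul]
              _ = (t' * (t' * e)) * f := by group
              _ = ((t' * e) * t') * f := by rw [h]
              _ = _ := by group
          rw [this]; exact V.mul_mem he hf'
      inv_mem' := by
        rintro e (he | he)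
        · exact Or.inl (V.inv_mem he)
        · right
          have hw := V.inv_mem he
          have h := ht'V _ hw
          have h1 : e⁻¹ = t' * (t' * e)⁻¹ := by rw [h]; group
          have : t' * e⁻¹ = (t' * e)⁻¹ := by
            calc t' * e⁻¹ = t' * (t' * (t' * e)⁻¹) := by rw [← h1]
              _ = (t' * t') * (t' * e)⁻¹ := by group
              _ = _ := by rw [ht'2, one_mul]
          rw [this]; exact hw }
  have hEmem : ∀ e, e ∈ E ↔ (e ∈ V ∨ t' * e ∈ V) := fun e => Iff.rfl
  have hEX : E ≤ X := by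
    intro e he
    rcases (hEmem e).mp he with he | he
    · exact hV.le he
    · have := X.mul_mem (X.inv_mem ht'X) (hV.le he)
      simpa using this
  have hEV : ∀ e ∈ E, ∀ v ∈ V, e * v = v * e := fun e he v hv =>
    ((Subgroup.mem_centralizer_iff.mp (hV.central (hEX he))) v hv).symm
  have hEelem : Cfsg.IsElementaryAbelian 2 E := by
    refine ⟨⟨⟨?_⟩⟩, ?_⟩
    · rintro ⟨e, he⟩ ⟨f', hf'⟩
      apply Subtype.ext
      show e * f' = f' * e
      rcases (hEmem e).mp he with he1 | he1
      · exact (hEV f' hf' e he1).symm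
      · rcases (hEmem f').mp hf' with hf1 | hf1
        · exact hEV e he f' hf1
        · have h1 := hcancel e he1
          have h2 := hEV e he (t' * f') hf1
          apply mul_left_cancel (a := t')
          calc t' * (e * f') = (t' * e) * f' := by group
            _ = (e * t') * f' := by rw [h1]
            _ = e * (t' * f') := by group
            _ = (t' * f') * e := h2
            _ = _ := by group
    · intro e he
      rcases (hEmem e).mp he with he1 | he1
      · exact hV.sq e he1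
      · have h1 := hcancel e he1
        have h2 := hV.sq _ he1
        rw [pow_two] at h2 ⊢
        calc e * e = (t' * t') * (e * e) := by rw [ht'2, one_mul]
          _ = t' * (t' * e) * e := by group
          _ = t' * (e * t') * e := by rw [h1]
          _ = (t' * e) * (t' * e) := by group
          _ = 1 := h2
  have hkey : ∀ g ∈ X, ∀ e ∈ E, g * e * g⁻¹ ∈ E := by
    intro g hg e he
    rcases (hEmem e).mp he with he | he
    · exact Or.inl (hV.normal.conj_mem e he g)
    · right
      have hm := hconj g hg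
      have h1 := hV.normal.conj_mem _ he g
      have : t' * (g * e * g⁻¹) = (g * t' * g⁻¹ * t'⁻¹)⁻¹ * (g * (t' * e) * g⁻¹) := by group
      rw [this]; exact V.mul_mem (V.inv_mem hm) h1
  have hEnorm : X ≤ Subgroup.normalizer (E : Set G) := Subgroup.le_normalizer_iff.mpr hkey
  have hcardE := C.rank E hEX hEnorm hEelem
  have hVE : V ≤ E := fun v hv => Or.inl hv
  have ht'E : t' ∈ E := Or.inr (by rw [ht'2]; exact V.one_mem)
  have hdvd := Subgroup.card_dvd_of_le hVE
  rw [hV.card] at hdvd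
  have hEpos : 0 < Nat.card E := Nat.card_pos
  have hE4 : Nat.card E = 4 := by
    obtain ⟨k, hk⟩ := hdvd
    omega
  have hVEeq : V = E := Subgroup.eq_of_le_of_card_ge hVE (by rw [hE4, hV.card])
  exact ht'M (hVM (hVEeq ▸ ht'E))

end Cfsg.Agent.Helper17.NG
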